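import Cfsg.Agent.GroupBasics.PiClosed
import Cfsg.Agent.Solvable.SchurZassenhaus
import Cfsg.Agent.S0205

/-!
# `π`-homogeneous groups with `2 ∈ π` and 2-closed `π`-subgroups: reduction to the simple case

`Hyp π G` is the hypothesis.  It passes to subgroups and to quotients by `π`- and `π'`-subgroups,
so a counterexample of least order is simple, with all proper subgroups `π'`-closed (`Minimal`).
-/

set_option autoImplicit false
set_option linter.style.haveILetI false

namespace CfsgLib.PiHomTwo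

open CfsgLib.GroupBasics
open scoped Pointwise

universe u

variable {π : Set ℕ}

/-- Every `π`-subgroup is 2-closed. -/
def TwoClosedPi (π : Set ℕ) (G : Type u) [Group G] : Prop :=
  ∀ H : Subgroup G, PiNum π (Nat.card H) → ∀ P : Sylow 2 H, (P : Subgroup H).Normal

/-- The hypothesis. -/
structure Hyp (π : Set ℕ) (G : Type u) [Group G] : Prop where
  two : 2 ∈ π
  closed : TwoClosedPi π G
  homog : PiHomog πᶜ G

/-- The conclusion: the `π'`-elements form a subgroup. -/
abbrev Closed (π : Set ℕ) (G : Type u) [Group G] : Prop := PiClosed πᶜ G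

/-- A group satisfying `Hyp` but not `Closed`, all of whose proper subgroups are `Closed`,
simple and not abelian. -/
structure Minimal (π : Set ℕ) (G : Type u) [Group G] : Prop extends Hyp π G where
  simple : IsSimpleGroup G
  nonabelian : ¬ IsMulCommutative G
  not_closed : ¬ Closed π G
  proper_closed : ∀ X : Subgroup G, X ≠ ⊤ → Closed π X

theorem piNum_one (σ : Set ℕ) : PiNum σ 1 := fun _p hp hd => absurd (Nat.dvd_one.1 hd) hp.ne_one

theorem coprime_compl {a b : ℕ} (ha : PiNum π a) (hb : PiNum πᶜ b) : a.Coprime b :=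
  coprime_of_piNum ha hb

theorem odd_of_compl (h2 : 2 ∈ π) {n : ℕ} (hn : PiNum πᶜ n) : Odd n :=
  Nat.not_even_iff_odd.1 fun h => hn 2 Nat.prime_two h.two_dvd h2

theorem piNum_two_pow (h2 : 2 ∈ π) (k : ℕ) : PiNum π (2 ^ k) := piNum_prime_pow Nat.prime_two h2 k

theorem piNum_of_isPGroup_two (h2 : 2 ∈ π) {G : Type u} [Group G] [Finite G] (h : IsPGroup 2 G) :
    PiNum π (Nat.card G) := by
  haveI : Fact (Nat.Prime 2) := ⟨Nat.prime_two⟩
  obtain ⟨k, hk⟩ := IsPGroup.iff_card.1 h
  exact hk ▸ piNum_two_pow h2 k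

theorem eq_one_of_piNum {G : Type u} [Group G] {x : G} (h1 : PiNum π (orderOf x))
    (h2 : PiNum πᶜ (orderOf x)) : x = 1 :=
  orderOf_eq_one_iff.1 ((Nat.coprime_self _).1 (coprime_compl h1 h2))

section

variable {G : Type u} [Group G] [Finite G]

/-- The easy direction. -/
theorem relIndex_of_closed (h : Closed π G) (H : Subgroup G) (hH : PiNum π (Nat.card H))
    (p : ℕ) (hp : p.Prime) (hd : p ∣ (Subgroup.centralizer (H : Set G)).relIndex
      (Subgroup.normalizer (H : Set G))) : p ∈ π := by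
  obtain ⟨K, hK⟩ := h
  haveI := normal_of_closed hK
  haveI : Fact p.Prime := ⟨hp⟩
  by_contra hpπ
  refine not_dvd_relIndex_of_forall (fun a ha hak => ?_) hd
  obtain ⟨k, hk⟩ := hak
  have haK : a ∈ K := (hK a).2 (hk ▸ piNum_prime_pow hp hpπ k)
  refine Subgroup.mem_centralizer_iff.2 fun s hs => ?_
  have h1 : a * s * a⁻¹ * s⁻¹ ∈ K := by
    have h2 : s * a⁻¹ * s⁻¹ ∈ K := Subgroup.Normal.conj_mem ‹K.Normal› _ (inv_mem haK) s
    rw [show a * s * a⁻¹ * s⁻¹ = a * (s * a⁻¹ * s⁻¹) by group]
    exact mul_mem haK h2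
  have h3 : a * s * a⁻¹ * s⁻¹ ∈ H :=
    mul_mem ((Subgroup.mem_normalizer_iff.1 ha s).1 hs) (inv_mem hs)
  have h4 := eq_one_of_piNum (piNum_of_dvd hH (Subgroup.orderOf_dvd_natCard H h3)) ((hK _).1 h1)
  exact (mul_inv_eq_iff_eq_mul.1 (mul_inv_eq_one.1 h4)).symm

/-- Two-closedness passes through isomorphisms and surjections. -/
theorem normal_sylow_of_surjective {A B : Type u} [Group A] [Finite A] [Group B] [Finite B]
    (h : ∀ P : Sylow 2 A, (P : Subgroup A).Normal) {f : A →* B} (hf : Function.Surjective f)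
    (Q : Sylow 2 B) : (Q : Subgroup B).Normal := by
  haveI : Fact (Nat.Prime 2) := ⟨Nat.prime_two⟩
  obtain ⟨P, hP⟩ := Sylow.mapSurjective_surjective hf 2 Q
  rw [← hP]
  exact (h P).map f hf

theorem Hyp.subgroup (hG : Hyp π G) (X : Subgroup G) : Hyp π X where
  two := hG.two
  closed H hH P := by
    have hc : Nat.card (H.map X.subtype) = Nat.card H :=
      Subgroup.card_map_of_injective X.subtype_injective
    exact normal_sylow_of_surjective (hG.closed (H.map X.subtype) (hc.symm ▸ hH))
      (f := (H.equivMapOfInjective X.subtype X.subtype_injective).symm.toMonoidHom)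
      (MulEquiv.surjective _) P
  homog := piHomog_subgroup hG.homog X

omit [Finite G] in
theorem orderOf_dvd_map_mul {N : Subgroup G} [N.Normal] (g : G) :
    orderOf g ∣ orderOf (g : G ⧸ N) * Nat.card N := by
  rw [orderOf_dvd_iff_pow_eq_one, pow_mul]
  have h : g ^ orderOf (g : G ⧸ N) ∈ N := by
    rw [← QuotientGroup.eq_one_iff, QuotientGroup.mk_pow, pow_orderOf_eq_one]
  exact orderOf_dvd_iff_pow_eq_one.1 (Subgroup.orderOf_dvd_natCard N h)

/-- Quotients by normal `π`-subgroups. -/
theorem Hyp.quotient_pi (hG : Hyp π G) (N : Subgroup G) [N.Normal] (hN : PiNum π (Nat.card N)) :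
    Hyp π (G ⧸ N) := by
  set f := QuotientGroup.mk' N with hf
  have hsur : Function.Surjective f := QuotientGroup.mk'_surjective N
  have hL : ∀ Hb : Subgroup (G ⧸ N), PiNum π (Nat.card Hb) → PiNum π (Nat.card (Hb.comap f)) :=
    fun Hb hb => by rw [hf, Solvable.card_comap_mk' N Hb]; exact piNum_mul hb hN
  refine ⟨hG.two, fun Hb hb P => normal_sylow_of_surjective (hG.closed _ (hL Hb hb))
    (f := f.subgroupComap Hb) (f.subgroupComap_surjective_of_surjective Hb hsur) P, ?_⟩
  intro Hb hb a ha hao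
  have hb' : PiNum π (Nat.card Hb) := fun p hp hd => not_not.1 (hb p hp hd)
  obtain ⟨g, rfl⟩ := hsur a
  -- a lift of the same order
  have hco : (Nat.card N).Coprime (orderOf (f g)) := coprime_compl hN hao
  obtain ⟨i, hi⟩ : ∃ i, (g : G ⧸ N) ^ (Nat.card N * i) = (g : G ⧸ N) := by
    by_cases h1 : orderOf (f g) = 1
    · exact ⟨0, by rw [mul_zero, pow_zero]; exact (orderOf_eq_one_iff.1 h1).symm⟩
    · obtain ⟨i, hi⟩ := Nat.exists_mul_mod_eq_one_of_coprime hco
        (lt_of_le_of_ne (orderOf_pos _) (Ne.symm h1))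
      exact ⟨i, (pow_mod_orderOf _ _).symm.trans (by
        rw [show orderOf (g : G ⧸ N) = orderOf (f g) from rfl, hi.2, pow_one])⟩
  set g₀ := g ^ (Nat.card N * i) with hg₀
  have hfg : f g₀ = f g := by rw [map_pow]; exact hi
  have hg₀o : PiNum πᶜ (orderOf g₀) := by
    refine piNum_of_dvd hao (orderOf_dvd_of_pow_eq_one ?_)
    have h : g ^ orderOf (f g) ∈ N := by
      rw [← QuotientGroup.eq_one_iff, QuotientGroup.mk_pow]
      exact pow_orderOf_eq_one _
    rw [hg₀, ← pow_mul, show Nat.card N * i * orderOf (f g) = orderOf (f g) * Nat.card N * i by ring,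
      pow_mul, pow_mul, orderOf_dvd_iff_pow_eq_one.1 (Subgroup.orderOf_dvd_natCard N h), one_pow]
  have hnorm : g₀ ∈ Subgroup.normalizer ((Hb.comap f : Subgroup G) : Set G) := by
    rw [Subgroup.mem_normalizer_iff]
    intro y
    simp only [Subgroup.mem_comap, map_mul, map_inv, hfg]
    exact Subgroup.mem_normalizer_iff.1 ha (f y)
  have hcen := Subgroup.mem_centralizer_iff.1 (hG.homog (Hb.comap f)
    (fun p hp hd h => h (hL Hb hb' p hp hd)) g₀ hnorm hg₀o)
  refine Subgroup.mem_centralizer_iff.2 fun s hs => ?_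
  obtain ⟨y, rfl⟩ := hsur s
  rw [← hfg, ← map_mul, ← map_mul, hcen y hs]

/-- Quotients by normal `π'`-subgroups. -/
theorem Hyp.quotient_pi' (hG : Hyp π G) (N : Subgroup G) [N.Normal]
    (hN : PiNum πᶜ (Nat.card N)) : Hyp π (G ⧸ N) := by
  set f := QuotientGroup.mk' N with hf
  have hsur : Function.Surjective f := QuotientGroup.mk'_surjective N
  have hNs : Group.IsSolvable N := Cfsg.Agent.S0205.result (odd_of_compl hG.two hN)
  -- complements in preimages
  have hlift : ∀ Hb : Subgroup (G ⧸ N), PiNum π (Nat.card Hb) → ∃ H : Subgroup G,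
      Nat.card H = Nat.card Hb ∧ H.map f = Hb := by
    intro Hb hb
    set L := Hb.comap f with hLdef
    have hNL : N ≤ L := fun x hx => by
      show f x ∈ Hb
      rw [show f x = 1 from (QuotientGroup.eq_one_iff x).2 hx]
      exact one_mem _
    have hcN : Nat.card (N.subgroupOf L) = Nat.card N :=
      Nat.card_congr (Subgroup.subgroupOfEquivOfLe hNL).toEquiv
    have hidx : (N.subgroupOf L).index = Nat.card Hb := by
      have h1 := (N.subgroupOf L).card_mul_index
      rw [hcN, hLdef, hf, Solvable.card_comap_mk' N Hb, mul_comm (Nat.card Hb)] at h1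
      exact Nat.eq_of_mul_eq_mul_left Nat.card_pos h1
    obtain ⟨B, hB⟩ := Subgroup.exists_right_complement'_of_coprime (N := N.subgroupOf L)
      (by rw [hcN, hidx]; exact (coprime_compl hb hN).symm)
    refine ⟨B.map L.subtype, ?_, ?_⟩
    · rw [Subgroup.card_map_of_injective L.subtype_injective, ← hB.symm.index_eq_card, hidx]
    · refine le_antisymm ?_ fun y hy => ?_
      · rintro _ ⟨_, ⟨b, -, rfl⟩, rfl⟩
        exact b.2
      · obtain ⟨g, rfl⟩ := hsur y
        obtain ⟨⟨⟨n, hn⟩, ⟨b, hb⟩⟩, hnb⟩ := hB.2 (⟨g, hy⟩ : L)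
        refine ⟨(b : G), ⟨b, hb, rfl⟩, ?_⟩
        have hg : (n : G) * (b : G) = g := congrArg Subtype.val hnb
        rw [← hg, map_mul, show f (n : G) = 1 from (QuotientGroup.eq_one_iff _).2 hn, one_mul]
  refine ⟨hG.two, fun Hb hb P => ?_, ?_⟩
  · obtain ⟨H, hH, hHb⟩ := hlift Hb hb
    subst hHb
    exact normal_sylow_of_surjective (hG.closed H (hH.symm ▸ hb)) (f := f.subgroupMap H)
      (f.subgroupMap_surjective H) P
  intro Hb hb a ha hao
  have hb' : PiNum π (Nat.card Hb) := fun p hp hd => not_not.1 (hb p hp hd)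
  obtain ⟨g, rfl⟩ := hsur a
  obtain ⟨H, hH, hHb⟩ := hlift Hb hb'
  have hHN : H ≤ Subgroup.normalizer (N : Set G) := Subgroup.le_normalizer_of_normal
  have hgH : MulAut.conj g • H ≤ Subgroup.normalizer (N : Set G) :=
    Subgroup.le_normalizer_of_normal
  have hsup : N ⊔ H = N ⊔ MulAut.conj g • H := by
    have h1 : ∀ K : Subgroup G, K.map f = Hb → N ⊔ K = Hb.comap f := fun K hK => by
      rw [← hK, Subgroup.comap_map_eq, hf, QuotientGroup.ker_mk', sup_comm]
    rw [h1 H hHb, h1]
    rw [← hHb]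
    ext y
    constructor
    · rintro ⟨_, ⟨x, hx, rfl⟩, rfl⟩
      show f (g * x * g⁻¹) ∈ H.map f
      rw [map_mul, map_mul, map_inv, hHb]
      exact (Subgroup.mem_normalizer_iff.1 ha (f x)).1 (hHb ▸ Subgroup.mem_map_of_mem f hx)
    · intro hy
      rw [hHb] at hy
      have h2 : (f g)⁻¹ * y * f g ∈ H.map f :=
        hHb.symm ▸ (Subgroup.mem_normalizer_iff''.1 ha y).1 hy
      obtain ⟨x, hx, hxy⟩ := h2
      refine ⟨g * x * g⁻¹, ⟨x, hx, rfl⟩, ?_⟩
      rw [map_mul, map_mul, map_inv, hxy]
      group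
  obtain ⟨k, hk, hkH⟩ := CfsgLib.Coprime.exists_conj_eq_of_sup_eq hgH hHN
    (by rw [CfsgLib.Coprime.card_conj_smul, hH]; exact (coprime_compl hb' hN).symm)
    (by rw [CfsgLib.Coprime.card_conj_smul]) hsup.symm (Or.inl hNs)
  rw [smul_smul, ← map_mul] at hkH
  have hfk : f (k * g) = f g := by
    rw [map_mul, show f k = 1 from (QuotientGroup.eq_one_iff _).2 hk, one_mul]
  have hnorm : k * g ∈ Subgroup.normalizer (H : Set G) :=
    (CfsgLib.Coprime.mem_normalizer_iff_conj_smul_eq).2 hkH
  have hord : PiNum πᶜ (orderOf (k * g)) :=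
    piNum_of_dvd (piNum_mul (show PiNum πᶜ (orderOf (f (k * g))) from hfk ▸ hao) hN)
      (orderOf_dvd_map_mul (N := N) (k * g))
  have hcen := Subgroup.mem_centralizer_iff.1
    (hG.homog H (fun p hp hd h => h ((hH ▸ hb' : PiNum π (Nat.card H)) p hp hd)) _ hnorm hord)
  refine Subgroup.mem_centralizer_iff.2 fun s hs => ?_
  obtain ⟨x, hx, rfl⟩ : s ∈ H.map f := hHb.symm ▸ hs
  rw [← hfk, ← map_mul, ← map_mul, hcen x hx]

end

/-- Reduction to the minimal case. -/
theorem closed_of_hyp (hmin : ∀ (X : Type u) [Group X] [Finite X], Minimal π X → False) :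
    ∀ (k : ℕ) (G : Type u) [Group G] [Finite G], Nat.card G < k → Hyp π G → Closed π G := by
  intro k
  induction k with
  | zero => intro G _ _ h; omega
  | succ k ih =>
    intro G _ _ hk hG
    by_contra hnc
    have hsub : ∀ X : Subgroup G, X ≠ ⊤ → Closed π X := fun X hX => ih X (by
      have h : Nat.card X < Nat.card G := lt_of_le_of_ne
        (Nat.le_of_dvd Nat.card_pos X.card_subgroup_dvd_card)
        fun h => hX (Subgroup.eq_top_of_card_eq _ h)
      omega) (hG.subgroup X)
    haveI : Nontrivial G := by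
      rcases subsingleton_or_nontrivial G with h | h
      · exact absurd (piClosed_of_card (Or.inl (by rw [Nat.card_unique]; exact piNum_one _))) hnc
      · exact h
    have hquot : ∀ N : Subgroup G, ∀ _ : N.Normal, N ≠ ⊥ →
        Nat.card (G ⧸ N) < k := fun N _ hN => by
      have h1 := Subgroup.card_eq_card_quotient_mul_card_subgroup N
      have h2 : 1 < Nat.card N := (Subgroup.one_lt_card_iff_ne_bot N).2 hN
      have h3 : 0 < Nat.card (G ⧸ N) := Nat.card_pos
      nlinarith
    have hS : IsSimpleGroup G := by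
      refine ⟨fun N hN => ?_⟩
      by_contra! hcon
      obtain ⟨hNb, hNt⟩ := hcon
      obtain ⟨K₀, hK₀⟩ := hsub N hNt
      haveI := normal_of_closed hK₀
      haveI : K₀.Characteristic := Subgroup.characteristic_iff_le_comap.2 fun e x hx =>
        Subgroup.mem_comap.2 ((hK₀ _).2 (by
          rw [MulEquiv.coe_toMonoidHom, e.orderOf_eq]; exact (hK₀ x).1 hx))
      obtain ⟨hcK, hiK⟩ := card_of_closed hK₀
      set K := K₀.map N.subtype with hKdef
      haveI : K.Normal := inferInstance
      by_cases hKb : K = ⊥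
      · have hNpi : PiNum π (Nat.card N) := by
          rw [hKdef, Subgroup.map_eq_bot_iff_of_injective _ N.subtype_injective] at hKb
          intro p hp hd
          rw [← Subgroup.index_bot, ← hKb] at hd
          exact not_not.1 (hiK p hp hd)
        exact hnc (piClosed_extension hG.homog N (piClosed_of_card (Or.inr
          fun p hp hd h => h (hNpi p hp hd))) (ih _ (hquot N hN hNb) (hG.quotient_pi N hNpi)))
      · have hKc : Nat.card K = Nat.card K₀ :=
          Subgroup.card_map_of_injective N.subtype_injective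
        exact hnc (piClosed_extension hG.homog K (piClosed_of_card (Or.inl (hKc ▸ hcK)))
          (ih _ (hquot K inferInstance hKb) (hG.quotient_pi' K (hKc ▸ hcK))))
    refine hmin G ⟨hG, hS, fun hc => hnc ?_, hnc, hsub⟩
    haveI := hS
    have hp : (Nat.card G).Prime := by
      obtain ⟨x, hx⟩ := exists_ne (1 : G)
      obtain ⟨p, hp, hpd⟩ := Nat.exists_prime_and_dvd
        (show Nat.card G ≠ 1 from fun h1 => (Finite.one_lt_card (α := G)).ne' h1)
      haveI : Fact p.Prime := ⟨hp⟩
      obtain ⟨y, hy⟩ := exists_prime_orderOf_dvd_card' p hpd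
      have hn : (Subgroup.zpowers y).Normal := ⟨fun z hz g => by
        rwa [hc.is_comm.comm g z, mul_inv_cancel_right]⟩
      rcases hS.eq_bot_or_eq_top_of_normal _ hn with h | h
      · rw [Subgroup.zpowers_eq_bot] at h
        rw [h, orderOf_one] at hy
        exact absurd hy.symm hp.ne_one
      · rw [← Subgroup.card_top (G := G), ← h, Nat.card_zpowers, hy]
        exact hp
    by_cases hπ : Nat.card G ∈ π
    · exact piClosed_of_card (Or.inr fun p hp' hd h =>
        h ((Nat.prime_dvd_prime_iff_eq hp' hp).1 hd ▸ hπ))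
    · exact piClosed_of_card (Or.inl fun p hp' hd => (Nat.prime_dvd_prime_iff_eq hp' hp).1 hd ▸ hπ)

/-- The reduction, in the form of the statement. -/
theorem iff_of_minimal (hmin : ∀ (X : Type u) [Group X] [Finite X], Minimal π X → False)
    {G : Type u} [Group G] [Finite G] (h2 : 2 ∈ π) (hcl : TwoClosedPi π G) :
    Closed π G ↔ ∀ H : Subgroup G, H ≠ ⊥ → PiNum π (Nat.card H) →
      PiNum π ((Subgroup.centralizer (H : Set G)).relIndex (Subgroup.normalizer (H : Set G))) := by
  refine ⟨fun h H _ hH p hp hd => relIndex_of_closed h H hH p hp hd, fun h => ?_⟩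
  refine closed_of_hyp hmin _ G (Nat.lt_succ_self _) ⟨h2, hcl, piHomog_of_relIndex fun H hH hHc => ?_⟩
  intro p hp hd hpc
  exact hpc (h H hH (fun q hq hqd => not_not.1 (hHc q hq hqd)) p hp hd)

end CfsgLib.PiHomTwo
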