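import Mathlib
import Cfsg.Agent.BlocksLocal.HomocyclicColumns

/-!
# Columns of the principal block for a Sylow 2-subgroup of type `PSU(3,4)`

Integer columns on `V = S/Z(S)`, `|V| = 16`, with a fixed-point-free automorphism of order three,
together with the column at the involutions, contain a second row of degree one.  The value of a
row at `0` is `(d + 3a)/4`, the deflation.
-/

set_option autoImplicit false
set_option linter.unusedSectionVars false

namespace CfsgLib.PiHomTwo.Columns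

open CfsgLib.BlocksLocal.Columns
open scoped ComplexConjugate

/-- The impossible relation. -/
theorem false_of_relations {A B Y k₁ k₂ k₃ : ℤ} (hA : A = 13 + 64 * k₁) (hB : B = 1 + 64 * k₂)
    (hY : Y = -15 + 64 * k₃) (h : A * B * Y + 9 * (B * Y) + A * Y + A * B = 0) : False := by
  have ha : 13 ≤ |A| := by rcases abs_cases A with h | h <;> omega
  have hy : 15 ≤ |Y| := by rcases abs_cases Y with h | h <;> omega
  by_cases hB1 : B = 1
  · subst hB1
    have h2 : |2 * (A * Y)| = |9 * Y + A| := by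
      rw [show 9 * Y + A = -(2 * (A * Y)) by linarith, abs_neg]
    have h3 := abs_add_le (9 * Y) A
    rw [abs_mul 2, abs_mul A Y] at h2
    rw [abs_mul 9 Y] at h3
    norm_num at h2 h3
    nlinarith [mul_nonneg (sub_nonneg.2 ha) (sub_nonneg.2 hy)]
  · have hb : 63 ≤ |B| := by rcases abs_cases B with h | h <;> omega
    have h2 : |A * B * Y| ≤ 9 * |B * Y| + |A * Y| + |A * B| := by
      rw [show A * B * Y = -(9 * (B * Y)) + -(A * Y) + -(A * B) by linarith]
      refine (abs_add_three _ _ _).trans ?_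
      simp [abs_mul]
    simp only [abs_mul] at h2
    nlinarith [mul_le_mul_of_nonneg_right ha (mul_nonneg (abs_nonneg B) (abs_nonneg Y)),
      mul_le_mul_of_nonneg_right hb (mul_nonneg (abs_nonneg A) (abs_nonneg Y)),
      mul_le_mul_of_nonneg_right hy (mul_nonneg (abs_nonneg A) (abs_nonneg B)),
      mul_pos (mul_pos (show (0:ℤ) < |A| by linarith) (show (0:ℤ) < |B| by linarith))
        (show (0:ℤ) < |Y| by linarith)]

variable {V : Type} [AddCommGroup V] [Fintype V] [DecidableEq V] (α : V ≃+ V)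
variable {I : Type*} [Fintype I] [DecidableEq I] (d : I → ℕ) (a : I → ℤ) (f : I → V → ℂ)

/-- **The column argument.** -/
theorem exists_second_linear_row (hα3 : ∀ v, α (α (α v)) = v) (hfpf : ∀ v, α v = v → v = 0)
    (hd : ∀ i, 0 < d i) (hf0 : ∀ i, 4 * f i 0 = (d i : ℂ) + 3 * (a i : ℂ))
    (hcard : Fintype.card V = 16)
    (hinv : ∀ i v, f i (α v) = f i v)
    (hint : ∀ i (ψ : AddChar V ℂ), ∃ k : ℤ, ∑ w, f i w * conj (ψ w) = (Fintype.card V : ℂ) * k)
    (i₀ : I) (hd0 : d i₀ = 1) (ha0 : a i₀ = 1) (htriv : ∀ v, f i₀ v = 1)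
    (horth : ∀ v w, v ≠ 0 → w ≠ 0 → ∑ i, f i v * conj (f i w) =
      if w = v ∨ w = α v ∨ w = α (α v) then (Fintype.card V : ℂ) else 0)
    (hdeg : ∀ v, v ≠ 0 → ∑ i, (d i : ℂ) * f i v = 0)
    (hadeg : ∀ v, v ≠ 0 → ∑ i, (a i : ℂ) * f i v = 0)
    (hsq : ∑ i, a i * a i = 64) (hmod : ∀ i, (16 : ℤ) ∣ (d i : ℤ) - a i)
    {u : V} (hu : u ≠ 0) (hstr : ∑ i, (a i : ℂ) ^ 2 / (d i : ℂ) * f i u = 0) :
    ∃ i, i ≠ i₀ ∧ d i = 1 := by
  have hq : 16 ∣ Fintype.card V := by rw [hcard]
  classical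
  have hV : (Fintype.card V : ℂ) ≠ 0 := Nat.cast_ne_zero.2 Fintype.card_ne_zero
  have hV0 : ∀ {z : V}, z ≠ 0 → ∑ ψ : AddChar V ℂ, ψ z = 0 := fun {z} hz => by
    rw [AddChar.sum_apply_eq_ite, if_neg hz]
  -- Fourier coefficients
  choose c hc using hint
  set q : ℂ := (Fintype.card V : ℂ) with hqdef
  have hexp : ∀ i v, f i v = ∑ ψ : AddChar V ℂ, (c i ψ : ℂ) * ψ v := by
    intro i v
    refine mul_left_cancel₀ hV ?_
    rw [Finset.mul_sum]
    simp only [← mul_assoc, ← hc, Finset.sum_mul]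
    rw [Finset.sum_comm, Finset.sum_eq_single v]
    · simp only [mul_assoc, ← AddChar.map_neg_eq_conj, ← AddChar.map_add_eq_mul,
        neg_add_cancel, AddChar.map_zero_eq_one, mul_one]
      rw [Finset.sum_const, Finset.card_univ, nsmul_eq_mul, AddChar.card_eq]
    · intro w _ hw
      simp only [mul_assoc, ← AddChar.map_neg_eq_conj, ← AddChar.map_add_eq_mul]
      rw [← Finset.mul_sum, hV0 (fun h => hw (neg_add_eq_zero.1 h)), mul_zero]
    · simp
  have hctw : ∀ i ψ, c i (tw α ψ) = c i ψ := by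
    intro i ψ
    have h : (Fintype.card V : ℂ) * (c i (tw α ψ) : ℂ) = (Fintype.card V : ℂ) * (c i ψ : ℂ) := by
      rw [← hc, ← hc]
      refine Fintype.sum_equiv α.toEquiv _ _ fun w => ?_
      show f i w * conj (tw α ψ w) = f i (α w) * conj (ψ (α w))
      rw [tw_apply, hinv]
    exact_mod_cast mul_left_cancel₀ hV h
  let ν : AddChar V ℂ → I → ℤ := fun ψ i => c i 0 - c i ψ
  have hνdef : ∀ ψ i, q * (ν ψ i : ℂ) = ∑ w, f i w * (1 - conj (ψ w)) := by
    intro ψ i
    simp only [ν, Int.cast_sub, mul_sub, ← hc, mul_one, Finset.sum_sub_distrib]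
    simp
  have hνorb : ∀ ψ φ, φ ∈ orb α ψ → ν φ = ν ψ := by
    intro ψ φ hφ
    funext i
    rcases (mem_orb α).1 hφ with rfl | rfl | rfl <;> simp [ν, hctw]
  have hνconj : ∀ ψ i, q * (ν ψ i : ℂ) = ∑ w, conj (f i w) * (1 - ψ w) := by
    intro ψ i
    have h := congrArg conj (hνdef ψ i)
    simpa [hqdef] using h
  have hinner : ∀ ψ φ : AddChar V ℂ, ψ ≠ 0 → φ ≠ 0 →
      ∑ i, ν ψ i * ν φ i = 3 + if φ ∈ orb α ψ then 1 else 0 := by
    intro ψ φ hψ hφ
    have hsum1 : ∀ χ : AddChar V ℂ, χ ≠ 0 →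
        ∑ a, (1 - conj (ψ a)) * (1 - χ a) = q * (1 + if ψ = χ then 1 else 0) := by
      intro χ hχ
      have h1 : ∑ a, conj (ψ a) * χ a = if ψ = χ then q else 0 := by
        have : ∀ a, conj (ψ a) * χ a = (χ - ψ) a := fun a => by
          rw [AddChar.sub_apply, AddChar.map_neg_eq_conj, mul_comm]
        rw [Finset.sum_congr rfl fun a _ => this a, AddChar.sum_eq_ite]
        simp only [sub_eq_zero, @eq_comm _ χ ψ]
        rfl
      simp only [sub_mul, mul_sub, one_mul, mul_one, Finset.sum_sub_distrib, h1,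
        sum_conj_eq_ite, AddChar.sum_eq_ite, if_neg hψ, if_neg hχ]
      simp only [Finset.sum_const, Finset.card_univ, nsmul_eq_mul, mul_one, sub_zero]
      split_ifs <;> ring
    have h : (q * q) * ((∑ i, ν ψ i * ν φ i : ℤ) : ℂ) =
        (q * q) * (((3 + if φ ∈ orb α ψ then 1 else 0 : ℤ)) : ℂ) := by
      push_cast
      calc q * q * ∑ i, (ν ψ i : ℂ) * (ν φ i : ℂ)
          = ∑ i, (q * (ν ψ i : ℂ)) * (q * (ν φ i : ℂ)) := by
            rw [Finset.mul_sum]; exact Finset.sum_congr rfl fun i _ => by ring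
        _ = ∑ a, ∑ b, (1 - conj (ψ a)) * (1 - φ b) * ∑ i, f i a * conj (f i b) := by
            rw [Finset.sum_congr rfl fun i _ => by rw [hνdef ψ, hνconj φ, Finset.sum_mul_sum],
              Finset.sum_comm]
            refine Finset.sum_congr rfl fun a _ => ?_
            rw [Finset.sum_comm]
            refine Finset.sum_congr rfl fun b _ => ?_
            rw [Finset.mul_sum]
            exact Finset.sum_congr rfl fun i _ => by ring
        _ = ∑ a, (1 - conj (ψ a)) * q * ((1 - φ a) + ((1 - φ (α a)) + (1 - φ (α (α a))))) := by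
            refine Finset.sum_congr rfl fun a _ => ?_
            by_cases ha : a = 0
            · subst ha; simp
            have h1 : a ≠ α a := fun e => ha (hfpf a e.symm)
            have h2 : a ≠ α (α a) := fun e => by
              have := congrArg α e
              rw [hα3] at this
              exact h1 this.symm
            have h3 : α a ≠ α (α a) := fun e => h1 (α.injective e)
            rw [Finset.sum_congr rfl (g := fun b => (1 - conj (ψ a)) * q *
              (if b ∈ ({a, α a, α (α a)} : Finset V) then 1 - φ b else 0)) fun b _ => ?_]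
            · rw [← Finset.mul_sum, Finset.sum_ite_mem, Finset.univ_inter,
                Finset.sum_insert (by simp [h1, h2]), Finset.sum_insert (by simp [h3]),
                Finset.sum_singleton]
            · by_cases hb : b = 0
              · subst hb; simp
              rw [horth a b ha hb]
              simp only [Finset.mem_insert, Finset.mem_singleton]
              split_ifs <;> ring
        _ = q * (∑ a, (1 - conj (ψ a)) * (1 - φ a) +
              (∑ a, (1 - conj (ψ a)) * (1 - tw α φ a) +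
                ∑ a, (1 - conj (ψ a)) * (1 - tw α (tw α φ) a))) := by
            simp only [tw_apply, ← Finset.sum_add_distrib, Finset.mul_sum]
            exact Finset.sum_congr rfl fun a _ => by ring
        _ = _ := by
            rw [hsum1 φ hφ, hsum1 _ (tw_ne_zero α hα3 hfpf hφ),
              hsum1 _ (tw_ne_zero α hα3 hfpf (tw_ne_zero α hα3 hfpf hφ))]
            have hsplit : (if φ ∈ orb α ψ then (1 : ℂ) else 0) =
                ∑ χ ∈ orb α φ, if ψ = χ then (1 : ℂ) else 0 := by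
              rw [Finset.sum_ite_eq]
              refine if_congr ⟨fun h => ?_, fun h => ?_⟩ rfl rfl
              · rw [orb_eq_of_mem α hα3 hfpf h]; exact (mem_orb α).2 (Or.inl rfl)
              · rw [orb_eq_of_mem α hα3 hfpf h]; exact (mem_orb α).2 (Or.inl rfl)
            rw [hsplit, sum_orb α hα3 hfpf hφ]
            ring
    exact_mod_cast mul_left_cancel₀ (mul_ne_zero hV hV) h
  have hνdeg : ∀ ψ, ∑ i, ν ψ i * (d i : ℤ) = 0 := by
    intro ψ
    have h : q * ((∑ i, ν ψ i * (d i : ℤ) : ℤ) : ℂ) = q * ((0 : ℤ) : ℂ) := by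
      push_cast
      rw [mul_zero, Finset.mul_sum]
      calc ∑ i, q * ((ν ψ i : ℂ) * (d i : ℂ))
          = ∑ w, (1 - conj (ψ w)) * ∑ i, (d i : ℂ) * f i w := by
            simp only [← mul_assoc, hνdef, Finset.sum_mul, Finset.mul_sum]
            rw [Finset.sum_comm]
            exact Finset.sum_congr rfl fun w _ => Finset.sum_congr rfl fun i _ => by ring
        _ = 0 := Finset.sum_eq_zero fun w _ => by
            by_cases hw : w = 0
            · subst hw; simp
            · rw [hdeg w hw, mul_zero]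
    exact_mod_cast mul_left_cancel₀ hV h
  -- the orbits
  set S : Finset (AddChar V ℂ) := Finset.univ.filter (· ≠ 0) with hS
  let O := {o : Finset (AddChar V ℂ) // o ∈ S.image (orb α)}
  have hrep : ∀ o : O, ∃ ψ, ψ ≠ 0 ∧ orb α ψ = o.1 := fun o => by
    obtain ⟨ψ, hψ, he⟩ := Finset.mem_image.1 o.2
    exact ⟨ψ, (Finset.mem_filter.1 hψ).2, he⟩
  choose rep hrep0 hrepo using hrep
  have hscard : S.card + 1 = Fintype.card V := by
    rw [hS, Finset.filter_ne', Finset.card_erase_of_mem (Finset.mem_univ _), Finset.card_univ,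
      AddChar.card_eq]
    have := Fintype.card_pos (α := V)
    omega
  have hνadeg : ∀ ψ, ∑ i, ν ψ i * a i = 0 := by
    intro ψ
    have h : q * ((∑ i, ν ψ i * a i : ℤ) : ℂ) = q * ((0 : ℤ) : ℂ) := by
      push_cast
      rw [mul_zero, Finset.mul_sum]
      calc ∑ i, q * ((ν ψ i : ℂ) * (a i : ℂ))
          = ∑ w, (1 - conj (ψ w)) * ∑ i, (a i : ℂ) * f i w := by
            simp only [← mul_assoc, hνdef, Finset.sum_mul, Finset.mul_sum]
            rw [Finset.sum_comm]
            exact Finset.sum_congr rfl fun w _ => Finset.sum_congr rfl fun i _ => by ring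
        _ = 0 := Finset.sum_eq_zero fun w _ => by
            by_cases hw : w = 0
            · subst hw; simp
            · rw [hadeg w hw, mul_zero]
    exact_mod_cast mul_left_cancel₀ hV h
  have hOcard : 5 ≤ Fintype.card O := by
    have h1 : S.card ≤ 3 * (S.image (orb α)).card := by
      refine Finset.card_le_mul_card_image _ 3 fun o ho => ?_
      obtain ⟨ψ, -, rfl⟩ := Finset.mem_image.1 ho
      refine le_trans (Finset.card_le_card (t := orb α ψ) fun φ hφ => ?_) ?_
      · rw [← (Finset.mem_filter.1 hφ).2]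
        exact (mem_orb α).2 (Or.inl rfl)
      · rw [show orb α ψ = {ψ, tw α ψ, tw α (tw α ψ)} by ext φ; simp [mem_orb]]
        exact Finset.card_le_three
    rw [Fintype.card_coe]
    have h16 := Nat.le_of_dvd Fintype.card_pos hq
    omega
  have hG : ∀ o o' : O, ∑ i, ν (rep o) i * ν (rep o') i = 3 + if o = o' then 1 else 0 := by
    intro o o'
    rw [hinner _ _ (hrep0 o) (hrep0 o')]
    congr 1
    refine if_congr ⟨fun h => Subtype.ext ?_, fun h => ?_⟩ rfl rfl
    · rw [← hrepo o, ← hrepo o', orb_eq_of_mem α hα3 hfpf h]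
    · subst h; exact (mem_orb α).2 (Or.inl rfl)
  have hc0 : ∀ ψ, c i₀ ψ = if ψ = 0 then 1 else 0 := by
    intro ψ
    have h : q * (c i₀ ψ : ℂ) = q * ((if ψ = 0 then (1 : ℤ) else 0 : ℤ) : ℂ) := by
      rw [← hc]
      simp only [htriv, one_mul, sum_conj_eq_ite]
      split_ifs <;> simp [hqdef]
    exact_mod_cast mul_left_cancel₀ hV h
  have hi₀ : ∀ ψ, ψ ≠ 0 → ν ψ i₀ = 1 := fun ψ hψ => by simp [ν, hc0, hψ]
  obtain ⟨b, σ, β, x, hσ, hxinj, hxv, hxb, hb2, hxi₀, hxd⟩ :=
    CfsgLib.Small.Exceptional.exists_family (fun o : O => ν (rep o)) d 3 hd hG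
      (fun o => hνdeg _) i₀ (fun o => hi₀ _ (hrep0 o)) (by omega)
  obtain ⟨o₀⟩ : Nonempty O := Fintype.card_pos_iff.1 (by omega)
  have hbi₀ : b i₀ = 1 := by
    have h := hxv o₀ i₀
    rw [if_neg (hxi₀ o₀).symm, add_zero, hi₀ _ (hrep0 o₀)] at h
    exact h.symm
  have hβ : β = 0 := by
    have h1 : ∑ i ∈ insert i₀ (Finset.univ.image x), b i * b i ≤ ∑ i, b i * b i :=
      Finset.sum_le_sum_of_subset_of_nonneg (Finset.subset_univ _) fun i _ _ =>
        mul_self_nonneg _
    rw [Finset.sum_insert (by simpa using fun o => hxi₀ o),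
      Finset.sum_image fun a _ a' _ h => hxinj h, hbi₀, hb2] at h1
    simp only [hxb, Finset.sum_const, Finset.card_univ, nsmul_eq_mul] at h1
    have h5 : (5 : ℤ) ≤ (Fintype.card O : ℤ) := by exact_mod_cast hOcard
    by_contra h0
    have h2 : 1 ≤ β * β := by have := mul_self_pos.2 h0; omega
    rcases hσ with rfl | rfl <;> nlinarith [mul_self_nonneg (β + 1), mul_self_nonneg (β - 1)]
  subst hβ
  rw [mul_zero, sub_zero] at hb2
  -- the multiplicity of each orbit
  have hmemS : ∀ ψ, ψ ∈ S ↔ ψ ≠ 0 := fun ψ => by simp [hS]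
  let oo : S → O := fun ψ => ⟨orb α ψ.1, Finset.mem_image_of_mem _ ψ.2⟩
  have hν : ∀ (ψ : S) i, ν ψ.1 i = b i + if x (oo ψ) = i then σ else 0 := by
    intro ψ i
    rw [hνorb (rep (oo ψ)) ψ.1 (by rw [hrepo]; exact (mem_orb α).2 (Or.inl rfl)), hxv]
    simp only [@eq_comm _ i]
  have hsumS : ∀ g : AddChar V ℂ → ℂ, ∑ ψ, g ψ = g 0 + ∑ ψ : S, g ψ.1 := by
    intro g
    rw [Finset.sum_coe_sort S g, hS, Finset.filter_ne',
      Finset.add_sum_erase _ _ (Finset.mem_univ _)]
  have hfiber : ∀ (o : O) (g : AddChar V ℂ → ℂ),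
      ∑ ψ : S, (if x (oo ψ) = x o then g ψ.1 else 0) =
        g (rep o) + (g (tw α (rep o)) + g (tw α (tw α (rep o)))) := by
    intro o g
    rw [← sum_orb α hα3 hfpf (hrep0 o) g, ← Finset.sum_filter]
    refine Finset.sum_bij (fun ψ _ => ψ.1) (fun ψ hψ => ?_) (fun a _ a' _ h => Subtype.ext h)
      (fun χ hχ => ?_) (fun _ _ => rfl)
    · have := congrArg Subtype.val (hxinj (Finset.mem_filter.1 hψ).2)
      rw [hrepo, ← this]
      exact (mem_orb α).2 (Or.inl rfl)
    · have hχS : χ ∈ S := by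
        rw [hmemS]
        rcases (mem_orb α).1 hχ with rfl | rfl | rfl
        exacts [hrep0 o, tw_ne_zero α hα3 hfpf (hrep0 o),
          tw_ne_zero α hα3 hfpf (tw_ne_zero α hα3 hfpf (hrep0 o))]
      exact ⟨⟨χ, hχS⟩, Finset.mem_filter.2 ⟨Finset.mem_univ _,
        congrArg x (Subtype.ext ((orb_eq_of_mem α hα3 hfpf hχ).trans (hrepo o)))⟩, rfl⟩
  have hval : ∀ i w, w ≠ 0 →
      f i w = b i - σ * ∑ ψ : S, (if x (oo ψ) = i then ψ.1 w else 0) := by
    intro i w hw
    rw [hexp, hsumS]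
    have h0 : ∑ ψ : S, ψ.1 w = -1 := by
      have := hV0 hw
      rw [hsumS, AddChar.zero_apply] at this
      linear_combination this
    have hcS : ∀ ψ : S, (c i ψ.1 : ℂ) = c i 0 - b i - (if x (oo ψ) = i then (σ : ℂ) else 0) := by
      intro ψ
      have := congrArg (fun z : ℤ => (z : ℂ)) (hν ψ i)
      simp only [ν] at this
      push_cast at this
      linear_combination -this
    simp only [AddChar.zero_apply, mul_one, hcS, sub_mul, Finset.sum_sub_distrib, ← Finset.mul_sum,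
      h0, ite_mul, zero_mul]
    rw [Finset.mul_sum]
    simp only [mul_ite, mul_zero]
    ring
  have hdval : ∀ i, (d i : ℤ) + 3 * a i = 4 * (Fintype.card V * (c i 0 - b i) + b i -
      σ * (Finset.univ.filter fun ψ : S => x (oo ψ) = i).card) := by
    intro i
    have h := hexp i 0
    rw [hsumS] at h
    simp only [AddChar.map_zero_eq_one, mul_one] at h
    have h2 := hf0 i
    rw [h] at h2
    have h' : (d i : ℤ) + 3 * a i = 4 * (c i 0 + ∑ ψ : S, c i ψ.1) := by
      apply Int.cast_injective (α := ℂ)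
      push_cast
      linear_combination -h2
    rw [h', Finset.sum_congr rfl (g := fun ψ : S => c i 0 - b i - if x (oo ψ) = i then σ else 0)
      fun ψ _ => by have := hν ψ i; simp only [ν] at this; omega]
    rw [Finset.sum_sub_distrib, Finset.sum_const, ← Finset.sum_filter, Finset.sum_const,
      Finset.card_univ, Fintype.card_coe, nsmul_eq_mul, nsmul_eq_mul, ← hscard]
    push_cast
    ring
  -- the three rows outside the orbits
  set T := (Finset.univ.filter fun i => b i ≠ 0).erase i₀ with hT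
  have hb1 : ∀ i, b i * b i = if b i ≠ 0 then 1 else 0 := by
    intro i
    have h : b i * b i ≤ 3 :=
      hb2 ▸ Finset.single_le_sum (f := fun i => b i * b i) (fun i _ => mul_self_nonneg _)
        (Finset.mem_univ i)
    have h' : -1 ≤ b i ∧ b i ≤ 1 := ⟨by nlinarith, by nlinarith⟩
    rcases (show b i = -1 ∨ b i = 0 ∨ b i = 1 by omega) with h | h | h <;> simp [h]
  have hTcard : T.card = 2 := by
    have hb2' := hb2
    rw [Finset.sum_congr rfl fun i _ => hb1 i, Finset.sum_boole] at hb2'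
    rw [hT, Finset.card_erase_of_mem (by simp [hbi₀])]
    have : (Finset.univ.filter fun i => b i ≠ 0).card = 3 := by exact_mod_cast hb2'
    omega
  obtain ⟨i₁, i₂, h12, hT12⟩ := Finset.card_eq_two.1 hTcard
  have hb0 : ∀ i, i ≠ i₀ → i ≠ i₁ → i ≠ i₂ → b i = 0 := by
    intro i h0 h1 h2
    by_contra hne
    have : i ∈ T := by simp [hT, h0, hne]
    rw [hT12] at this
    simp [h1, h2] at this
  have hi1 : i₁ ∈ T := by simp [hT12]
  have hi2 : i₂ ∈ T := by simp [hT12]
  simp only [hT, Finset.mem_erase, Finset.mem_filter, Finset.mem_univ, true_and] at hi1 hi2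
  have hnx : ∀ i, b i ≠ 0 → ∀ o, x o ≠ i := fun i hi o h => hi (h ▸ hxb o)
  have hsum3 : ∀ {R : Type} [AddCommMonoid R] (g : I → R), (∀ i, b i = 0 → g i = 0) →
      ∑ i, g i = g i₀ + (g i₁ + g i₂) := by
    intro R _ g hg
    rw [← Finset.sum_subset (Finset.subset_univ ({i₀, i₁, i₂} : Finset I)) fun i _ hi => ?_]
    · rw [Finset.sum_insert (by simp [hi1.1.symm, hi2.1.symm]),
        Finset.sum_insert (by simp [h12]), Finset.sum_singleton]
    · simp only [Finset.mem_insert, Finset.mem_singleton, not_or] at hi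
      exact hg i (hb0 i hi.1 hi.2.1 hi.2.2)
  have hσσ : σ * σ = 1 := by rcases hσ with rfl | rfl <;> norm_num
  have hb11 : b i₁ * b i₁ = 1 := by rw [hb1, if_pos hi1.2]
  have hb22 : b i₂ * b i₂ = 1 := by rw [hb1, if_pos hi2.2]
  -- the multiples of four
  have hn0 : ∀ i, b i ≠ 0 → (Finset.univ.filter fun ψ : S => x (oo ψ) = i).card = 0 := fun i hi => by
    rw [Finset.filter_false_of_mem fun ψ _ => hnx i hi _, Finset.card_empty]
  have hn3 : ∀ o, (Finset.univ.filter fun ψ : S => x (oo ψ) = x o).card = 3 := fun o => by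
    have := hfiber o fun _ => 1
    rw [Finset.sum_boole] at this
    norm_num at this
    exact_mod_cast this
  have hw : ∀ i, ∃ w k : ℤ,
      a i = b i - σ * (Finset.univ.filter fun ψ : S => x (oo ψ) = i).card + 4 * w ∧
      (d i : ℤ) = b i - σ * (Finset.univ.filter fun ψ : S => x (oo ψ) = i).card - 12 * w + 64 * k := by
    intro i
    obtain ⟨l, hl⟩ := hmod i
    have h := hdval i
    rw [hcard] at h
    push_cast at h
    exact ⟨4 * (c i 0 - b i) - l, c i 0 - b i, by linarith, by linarith⟩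
  choose w k hwa hwd using hw
  have hw0 : a i₀ = b i₀ := by rw [ha0, hbi₀]
  have hlin : 1 + b i₁ * d i₁ + b i₂ * d i₂ + σ * d (x o₀) = 0 := by
    have h := hνdeg (rep o₀)
    simp only [hxv o₀, add_mul, Finset.sum_add_distrib, ite_mul, zero_mul, Finset.sum_ite_eq',
      Finset.mem_univ, if_true] at h
    rw [hsum3 (fun i => b i * (d i : ℤ)) fun i h => by simp [h], hbi₀, hd0] at h
    push_cast at h
    linarith
  have halin : ∀ o, 1 + b i₁ * a i₁ + b i₂ * a i₂ + σ * a (x o) = 0 := by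
    intro o
    have h := hνadeg (rep o)
    simp only [hxv o, add_mul, Finset.sum_add_distrib, ite_mul, zero_mul, Finset.sum_ite_eq',
      Finset.mem_univ, if_true] at h
    rw [hsum3 (fun i => b i * a i) fun i h => by simp [h], hbi₀, ha0] at h
    linarith
  have hax : ∀ o, a (x o) = a (x o₀) := fun o => by
    have h1 := halin o
    have h2 := halin o₀
    rcases hσ with rfl | rfl <;> linarith
  have hbound : 1 + a i₁ * a i₁ + a i₂ * a i₂ + 5 * (a (x o₀) * a (x o₀)) ≤ 64 := by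
    have h1 : ∑ i ∈ ({i₀, i₁, i₂} : Finset I) ∪ Finset.univ.image x, a i * a i ≤ ∑ i, a i * a i :=
      Finset.sum_le_sum_of_subset_of_nonneg (Finset.subset_univ _) fun i _ _ => mul_self_nonneg _
    rw [Finset.sum_union ?_, hsq, Finset.sum_insert (by simp [hi1.1.symm, hi2.1.symm]),
      Finset.sum_insert (by simp [h12]), Finset.sum_singleton,
      Finset.sum_image fun o _ o' _ h => hxinj h,
      Finset.sum_congr rfl fun o _ => by rw [hax o], Finset.sum_const, Finset.card_univ,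
      nsmul_eq_mul, ha0] at h1
    · have h5 : (5 : ℤ) ≤ (Fintype.card O : ℤ) := by exact_mod_cast hOcard
      nlinarith [mul_self_nonneg (a (x o₀))]
    · rw [Finset.disjoint_left]
      intro i hi hi'
      obtain ⟨o, -, rfl⟩ := Finset.mem_image.1 hi'
      simp only [Finset.mem_insert, Finset.mem_singleton] at hi
      rcases hi with h | h | h
      · exact hxi₀ o h
      · exact hnx i₁ hi1.2 o h
      · exact hnx i₂ hi2.2 o h
  -- the structure relation
  have hX : ∀ o, d (x o) = d (x o₀) := fun o => hxd o o₀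
  set X := d (x o₀) with hXdef
  have hone : ∑ ψ : S, ψ.1 u = -1 := by
    have := hV0 hu
    rw [hsumS, AddChar.zero_apply] at this
    linear_combination this
  have hterm : ∀ i, (a i : ℂ) ^ 2 / (d i : ℂ) * f i u =
      (b i : ℂ) * (a i : ℂ) ^ 2 / (d i : ℂ) -
        (σ : ℂ) * (a (x o₀) : ℂ) ^ 2 / (X : ℂ) * ∑ ψ : S, (if x (oo ψ) = i then ψ.1 u else 0) := by
    intro i
    rw [hval i u hu]
    by_cases hi : ∃ o, x o = i
    · obtain ⟨o, rfl⟩ := hi
      rw [hxb, hX, hax]
      push_cast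
      ring
    · push Not at hi
      rw [Finset.sum_eq_zero fun ψ _ => if_neg (hi (oo ψ))]
      ring
  have hrel : ∑ i, (b i : ℂ) * (a i : ℂ) ^ 2 / (d i : ℂ) +
      (σ : ℂ) * (a (x o₀) : ℂ) ^ 2 / (X : ℂ) = 0 := by
    rw [Finset.sum_congr rfl fun i _ => hterm i, Finset.sum_sub_distrib, ← Finset.mul_sum,
      Finset.sum_comm] at hstr
    simp only [Finset.sum_ite_eq, Finset.mem_univ, if_true, hone] at hstr
    linear_combination hstr
  rw [hsum3 (fun i => (b i : ℂ) * (a i : ℂ) ^ 2 / (d i : ℂ)) fun i h => by simp [h], hbi₀, ha0,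
    hd0] at hrel
  have hdC : ∀ i, (d i : ℂ) ≠ 0 := fun i => Nat.cast_ne_zero.2 (hd i).ne'
  have hXC : (X : ℂ) ≠ 0 := hdC _
  push_cast at hrel
  have e1 := div_mul_cancel₀ ((b i₁ : ℂ) * (a i₁ : ℂ) ^ 2) (hdC i₁)
  have e2 := div_mul_cancel₀ ((b i₂ : ℂ) * (a i₂ : ℂ) ^ 2) (hdC i₂)
  have e3 := div_mul_cancel₀ ((σ : ℂ) * (a (x o₀) : ℂ) ^ 2) hXC
  have hrelZ : (d i₁ : ℤ) * d i₂ * X + b i₁ * a i₁ ^ 2 * d i₂ * X + b i₂ * a i₂ ^ 2 * d i₁ * X +
      σ * a (x o₀) ^ 2 * d i₁ * d i₂ = 0 := by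
    apply Int.cast_injective (α := ℂ)
    push_cast
    linear_combination (d i₁ : ℂ) * d i₂ * X * hrel - (d i₂ : ℂ) * X * e1
      - (d i₁ : ℂ) * X * e2 - (d i₁ : ℂ) * d i₂ * e3
  have hrelA : (b i₁ * d i₁) * (b i₂ * d i₂) * (σ * X) +
      a i₁ ^ 2 * ((b i₂ * d i₂) * (σ * X)) + a i₂ ^ 2 * ((b i₁ * d i₁) * (σ * X)) +
      a (x o₀) ^ 2 * ((b i₁ * d i₁) * (b i₂ * d i₂)) = 0 := by
    linear_combination b i₁ * b i₂ * σ * hrelZ
      - b i₂ * a i₁ ^ 2 * (d i₂ : ℤ) * σ * X * hb11
      - b i₁ * a i₂ ^ 2 * (d i₁ : ℤ) * σ * X * hb22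
      - a (x o₀) ^ 2 * b i₁ * b i₂ * (d i₁ : ℤ) * d i₂ * hσσ
  -- the congruences
  set p := b i₁ * w i₁ with hp
  set r := b i₂ * w i₂ with hr
  set e := σ * w (x o₀) with he
  have hA1 : b i₁ * a i₁ = 1 + 4 * p ∧ b i₁ * d i₁ = 1 - 12 * p + 64 * (b i₁ * k i₁) := by
    rw [hwa i₁, hwd i₁, hn0 i₁ hi1.2, hp]
    push_cast
    constructor <;> linear_combination hb11
  have hA2 : b i₂ * a i₂ = 1 + 4 * r ∧ b i₂ * d i₂ = 1 - 12 * r + 64 * (b i₂ * k i₂) := by
    rw [hwa i₂, hwd i₂, hn0 i₂ hi2.2, hr]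
    push_cast
    constructor <;> linear_combination hb22
  have hA3 : σ * a (x o₀) = -3 + 4 * e ∧ σ * X = -3 - 12 * e + 64 * (σ * k (x o₀)) := by
    rw [hXdef, hwa (x o₀), hwd (x o₀), hxb, hn3, he]
    push_cast
    constructor <;> linear_combination (-3 : ℤ) * hσσ
  have hsum : p + r + e = 0 := by
    have h := halin o₀
    rw [hA1.1, hA2.1, hA3.1] at h
    omega
  have hsq1 : a i₁ ^ 2 = (1 + 4 * p) ^ 2 := by
    rw [← hA1.1]; linear_combination (-(a i₁ ^ 2)) * hb11
  have hsq2 : a i₂ ^ 2 = (1 + 4 * r) ^ 2 := by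
    rw [← hA2.1]; linear_combination (-(a i₂ ^ 2)) * hb22
  have hsq3 : a (x o₀) ^ 2 = (-3 + 4 * e) ^ 2 := by
    rw [← hA3.1]; linear_combination (-(a (x o₀) ^ 2)) * hσσ
  have hbd : 1 + (1 + 4 * p) ^ 2 + (1 + 4 * r) ^ 2 + 5 * (-3 + 4 * e) ^ 2 ≤ 64 := by
    rw [← hsq1, ← hsq2, ← hsq3]
    simpa [pow_two] using hbound
  have hcases : (p = 0 ∧ r = 0 ∧ e = 0) ∨ (p = -1 ∧ r = 0 ∧ e = 1) ∨
      (p = 0 ∧ r = -1 ∧ e = 1) := by
    have he0 : 0 ≤ e ∧ e ≤ 1 := ⟨by nlinarith, by nlinarith⟩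
    have hrp : r = -p - e := by linarith
    rw [hrp] at hbd
    rcases (show e = 0 ∨ e = 1 by omega) with h | h <;> rw [h] at hbd hrp
    · have h2 : p * p < 1 := by nlinarith
      have hp0 : p = 0 := by nlinarith [mul_self_nonneg p, mul_self_nonneg (p - 1), mul_self_nonneg (p + 1)]
      omega
    · have h2 : p * p + p ≤ 1 := by nlinarith
      have hp1 : -1 ≤ p := by nlinarith
      have hp2 : p ≤ 0 := by nlinarith
      omega
  rw [hsq1, hsq2, hsq3] at hrelA
  obtain ⟨hA1a, hA1d⟩ := hA1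
  obtain ⟨hA2a, hA2d⟩ := hA2
  obtain ⟨hA3a, hA3d⟩ := hA3
  set A := b i₁ * (d i₁ : ℤ)
  set B := b i₂ * (d i₂ : ℤ)
  set Y := σ * (X : ℤ)
  rcases hcases with ⟨p0, r0, e0⟩ | ⟨p0, r0, e0⟩ | ⟨p0, r0, e0⟩ <;> rw [p0, r0, e0] at hrelA <;>
    rw [p0] at hA1d <;> rw [r0] at hA2d <;> rw [e0] at hA3d
  · have key := eq_one_of_relations (A := A) (B := B) (Y := Y) (q := 64) (k₁ := b i₁ * k i₁)
      (k₂ := b i₂ * k i₂) (k₃ := σ * k (x o₀)) ⟨4, by norm_num⟩ (by linarith) (by linarith)
      (by linarith) hlin (by linarith [hrelA])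
    have hfinal : ∀ i, i ≠ i₀ → b i * d i = 1 → i ≠ i₀ ∧ d i = 1 := by
      intro i hne h1
      refine ⟨hne, ?_⟩
      have h2 := Int.natAbs_eq_iff.2 (Or.inl h1 : b i * (d i : ℤ) = 1 ∨ _ = -1)
      rw [Int.natAbs_mul, Int.natAbs_natCast] at h2
      exact (mul_eq_one.1 h2).2
    rcases key with h | h
    exacts [⟨i₁, hfinal i₁ hi1.1 h⟩, ⟨i₂, hfinal i₂ hi2.1 h⟩]
  · exact (false_of_relations (A := A) (B := B) (Y := Y) (k₁ := b i₁ * k i₁) (k₂ := b i₂ * k i₂)
      (k₃ := σ * k (x o₀)) (by linarith) (by linarith) (by linarith) (by linarith [hrelA])).elim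
  · exact (false_of_relations (A := B) (B := A) (Y := Y) (k₁ := b i₂ * k i₂) (k₂ := b i₁ * k i₁)
      (k₃ := σ * k (x o₀)) (by linarith) (by linarith) (by linarith) (by linarith [hrelA])).elim

end CfsgLib.PiHomTwo.Columns
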