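import Cfsg.Agent.PiHomogeneousTwo.Proper
import Cfsg.Agent.SEmbed.Cosets
import Cfsg.Agent.SolvSig.Theorem

/-!
# No elementary abelian 2-subgroup of order eight over a four-group central in a Sylow subgroup

A proper subgroup containing `N(S)` and all involution centralizers of elements of `S` is strongly
embedded, which forces `S` to have one involution.  Such a subgroup is the normalizer of the
closure of the signalizer functor `a ↦ core (C(a))`.
-/

set_option autoImplicit false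
set_option linter.style.haveILetI false
set_option linter.unusedSectionVars false

namespace CfsgLib.PiHomTwo

open CfsgLib.GroupBasics CfsgLib.SEmbed CfsgLib.Small
open scoped Pointwise

universe u

variable {π : Set ℕ} {G : Type u} [Group G] [Finite G]

/-- The conjugates of `s` under `K` are counted by an index. -/
theorem card_conj_set (K : Subgroup G) (s : G) (A : Set G)
    (hA : ∀ a, a ∈ A ↔ ∃ k ∈ K, k * s * k⁻¹ = a) :
    Nat.card A = (Subgroup.centralizer ({s} : Set G)).relIndex K := by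
  rw [Subgroup.relIndex, Subgroup.index]
  set C := (Subgroup.centralizer ({s} : Set G)).subgroupOf K with hC
  have key : ∀ a b : K, a⁻¹ * b ∈ C ↔ (a : G) * s * (a : G)⁻¹ = b * s * (b : G)⁻¹ := fun a b => by
    rw [hC, Subgroup.mem_subgroupOf, Subgroup.mem_centralizer_singleton_iff, Subgroup.coe_mul,
      InvMemClass.coe_inv]
    constructor
    · intro h
      calc (a : G) * s * (a : G)⁻¹
          = (a : G) * (s * ((a : G)⁻¹ * b)) * (b : G)⁻¹ := by group
        _ = (a : G) * ((a : G)⁻¹ * b * s) * (b : G)⁻¹ := by rw [← h]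
        _ = b * s * (b : G)⁻¹ := by group
    · intro h
      calc (a : G)⁻¹ * b * s = (a : G)⁻¹ * ((b : G) * s * (b : G)⁻¹) * b := by group
        _ = (a : G)⁻¹ * ((a : G) * s * (a : G)⁻¹) * b := by rw [h]
        _ = s * ((a : G)⁻¹ * b) := by group
  refine (Nat.card_eq_of_bijective (Quotient.lift
    (fun k : K => (⟨(k : G) * s * (k : G)⁻¹, (hA _).2 ⟨k, k.2, rfl⟩⟩ : A))
    (fun a b hab => Subtype.ext ((key a b).1 (QuotientGroup.leftRel_apply.1 hab)))) ⟨?_, ?_⟩).symm
  · rintro ⟨a⟩ ⟨b⟩ hab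
    exact Quotient.sound (QuotientGroup.leftRel_apply.2 ((key a b).2 (congrArg Subtype.val hab)))
  · rintro ⟨a, ha⟩
    obtain ⟨k, hk, e⟩ := (hA a).1 ha
    exact ⟨Quotient.mk _ ⟨k, hk⟩, Subtype.ext e⟩

namespace Minimal

variable (hM : Minimal π G)
include hM

/-- A strongly embedded `M ≥ N(S)` leaves only one involution in `S`. -/
theorem unique_involution (S : Sylow 2 G) {M : Subgroup G} (hMt : M ≠ ⊤)
    (hN : Subgroup.normalizer ((S : Subgroup G) : Set G) ≤ M)
    (hC : ∀ t ∈ (S : Subgroup G), orderOf t = 2 → Subgroup.centralizer ({t} : Set G) ≤ M)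
    {a b : G} (ha : a ∈ (S : Subgroup G)) (hb : b ∈ (S : Subgroup G)) (hao : orderOf a = 2)
    (hbo : orderOf b = 2) : a = b := by
  haveI : Fact (Nat.Prime 2) := ⟨Nat.prime_two⟩
  have hSM : (S : Subgroup G) ≤ M := Subgroup.le_normalizer.trans hN
  have hinto : ∀ t ∈ M, orderOf t = 2 → ∃ m ∈ M, m * t * m⁻¹ ∈ (S : Subgroup G) := by
    intro t ht hto
    have hp : IsPGroup 2 (Subgroup.zpowers (⟨t, ht⟩ : M)) :=
      IsPGroup.of_card (n := 1) (by rw [Nat.card_zpowers, Subgroup.orderOf_mk, hto, pow_one])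
    obtain ⟨Q, hQ⟩ := hp.exists_le_sylow
    obtain ⟨m, hm⟩ := MulAction.exists_smul_eq M Q (S.subtype hSM)
    refine ⟨m, m.2, ?_⟩
    have h1 : m * ⟨t, ht⟩ * m⁻¹ ∈ ((m • Q : Sylow 2 M) : Subgroup M) := by
      rw [Sylow.coe_subgroup_smul]
      exact Coprime.conj_mem_conj_smul (hQ (Subgroup.mem_zpowers _))
    rw [hm, Sylow.coe_subtype] at h1
    exact h1
  have hC' : ∀ t ∈ M, orderOf t = 2 → Subgroup.centralizer ({t} : Set G) ≤ M := by
    intro t ht hto g hg
    obtain ⟨m, hm, hmt⟩ := hinto t ht hto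
    have h1 : m * g * m⁻¹ ∈ M := hC _ hmt (by rw [Small.orderOf_conj_eq, hto]) (by
      rw [Subgroup.mem_centralizer_singleton_iff] at hg ⊢
      calc m * g * m⁻¹ * (m * t * m⁻¹) = m * (g * t) * m⁻¹ := by group
        _ = m * (t * g) * m⁻¹ := by rw [hg]
        _ = m * t * m⁻¹ * (m * g * m⁻¹) := by group)
    simpa [mul_assoc] using mul_mem (mul_mem (inv_mem hm) h1) hm
  have heven : Even (Nat.card M) := even_iff_two_dvd.2
    ((hao ▸ Subgroup.orderOf_dvd_natCard _ (hSM ha) : 2 ∣ Nat.card M))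
  have hse : Cfsg.IsStronglyEmbedded M := by
    refine (isStronglyEmbedded_iff_centralizer hMt heven).2 ⟨hC', ?_⟩
    intro t ht s hs hto hso hconj
    obtain ⟨m₁, hm₁, h₁⟩ := hinto t ht hto
    obtain ⟨m₂, hm₂, h₂⟩ := hinto s hs hso
    obtain ⟨g, hg⟩ := isConj_iff.1 hconj
    obtain ⟨n, hn, hne⟩ := hM.fusion_elem S (g := m₂ * g * m₁⁻¹) h₁ (by
      convert h₂ using 1
      rw [← hg]; group)
    refine ⟨m₂⁻¹ * n * m₁, mul_mem (mul_mem (inv_mem hm₂) (hN hn)) hm₁, ?_⟩
    calc m₂⁻¹ * n * m₁ * t * (m₂⁻¹ * n * m₁)⁻¹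
        = m₂⁻¹ * (n * (m₁ * t * m₁⁻¹) * n⁻¹) * m₂ := by group
      _ = g * t * g⁻¹ := by rw [hne]; group
      _ = s := hg
  have hU := uniqueFix hse
  haveI := nontrivial_cosets hse
  set x : G ⧸ M := ((1 : G) : G ⧸ M) with hx
  obtain ⟨y, hy⟩ := exists_ne x
  obtain ⟨r, hr, hry⟩ := hU.exists_inv y
  obtain ⟨s, hs, -⟩ := exists_interchange hU hao hr ((smul_one_eq_iff M a).2 (hSM ha)) hry hy.symm
  set D := pairStab G x y with hD
  -- the conjugation action on involutions interchanging the two points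
  have hswap : ∀ d ∈ D, ∀ i ∈ invMap (G := G) x y, d * i * d⁻¹ ∈ invMap (G := G) x y := by
    intro d hd i hi
    obtain ⟨hdx, hdy⟩ := mem_pairStab.1 hd
    refine ⟨by rw [Small.orderOf_conj_eq]; exact hi.1, ?_⟩
    rw [mul_smul, mul_smul, inv_smul_eq_iff.2 hdx.symm, hi.2, hdy]
  have hsD : s ∈ Subgroup.normalizer (D : Set G) := by
    rw [Subgroup.mem_normalizer_iff]
    intro d
    have hss : s⁻¹ = s := inv_eq_of_mul_eq_one_right (Small.mul_self_of_orderOf_two hs.1)
    have hfwd : ∀ e ∈ D, s * e * s⁻¹ ∈ D := fun e he => by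
      obtain ⟨hex, hey⟩ := mem_pairStab.1 he
      exact mem_pairStab.2 ⟨by rw [hss, mul_smul, mul_smul, hs.2, hey, smul_back hs.1 hs.2],
        by rw [hss, mul_smul, mul_smul, smul_back hs.1 hs.2, hex, hs.2]⟩
    refine ⟨hfwd d, fun h => ?_⟩
    have h' := hfwd _ h
    rw [hss] at h'
    simpa [mul_assoc, Small.mul_self_of_orderOf_two hs.1, ← mul_assoc s s] using h'
  set X := D ⊔ Subgroup.zpowers s with hX
  have hZn : Subgroup.zpowers s ≤ Subgroup.normalizer (D : Set G) := Subgroup.zpowers_le.2 hsD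
  have hDodd : Odd (Nat.card D) := odd_pairStab hU hy.symm
  have hXt : X ≠ ⊤ := by
    intro htop
    have hDn : D.Normal := Subgroup.normalizer_eq_top_iff.1 (top_le_iff.1
      (htop ▸ sup_le Subgroup.le_normalizer hZn))
    rcases hM.simple.eq_bot_or_eq_top_of_normal D hDn with h | h
    · rw [hX, h, bot_sup_eq] at htop
      refine hM.ne_top_of_pi (H := Subgroup.zpowers s) ?_ htop
      rw [Nat.card_zpowers, hs.1]
      exact (pow_one 2) ▸ piNum_two_pow hM.two 1
    · rw [h, Subgroup.card_top] at hDodd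
      exact hDodd.not_two_dvd_nat hM.even_card
  obtain ⟨H, hH, hsH⟩ := hM.exists_hall_ge hXt (le_sup_right : Subgroup.zpowers s ≤ X) (by
    rw [Nat.card_zpowers, hs.1]
    exact (pow_one 2) ▸ piNum_two_pow hM.two 1)
  obtain ⟨T, hTH, hT, hTn, -, hTmax⟩ := hM.toHyp.exists_normal_two hH.piNum
  have hsT : Subgroup.zpowers s ≤ T := hTmax _ hsH
    (IsPGroup.of_card (n := 1) (by rw [Nat.card_zpowers, hs.1, pow_one]))
  have hTD : D ⊓ T = ⊥ := by
    obtain ⟨n, hn⟩ := IsPGroup.iff_card.1 hT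
    exact Coprime.inf_eq_bot_of_coprime (hn ▸ (Nat.coprime_two_right.2 hDodd).pow_right n)
  have hTs : ∀ v ∈ T, v = 1 ∨ v = s := by
    intro v hv
    obtain ⟨d, hd, z, hz, rfl⟩ := Coprime.exists_mul_of_mem_sup hZn (hH.le (hTH hv))
    have hd1 : d ∈ D ⊓ T := ⟨hd, by simpa using mul_mem hv (inv_mem (hsT hz))⟩
    rw [hTD, Subgroup.mem_bot] at hd1
    rw [hd1, one_mul]
    obtain ⟨j, rfl⟩ := Subgroup.mem_zpowers_iff.1 hz
    rcases Int.even_or_odd j with ⟨i, rfl⟩ | ⟨i, rfl⟩
    · left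
      rw [← two_mul, zpow_mul, zpow_two, Small.mul_self_of_orderOf_two hs.1, one_zpow]
    · right
      rw [zpow_add, zpow_mul, zpow_two, Small.mul_self_of_orderOf_two hs.1, one_zpow, one_mul,
        zpow_one]
  have hHs : ∀ h ∈ H, h * s * h⁻¹ = s := by
    intro h hh
    refine (hTs _ ((Subgroup.mem_normalizer_iff.1 (hTn hh) s).1
      (hsT (Subgroup.mem_zpowers s)))).resolve_left fun h1 => ?_
    rw [mul_inv_eq_one, mul_eq_left] at h1
    exact Small.ne_one_of_orderOf_two hs.1 h1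
  have hA : ∀ i, i ∈ invMap (G := G) x y ↔ ∃ k ∈ core π X, k * s * k⁻¹ = i := by
    intro i
    constructor
    · intro hi
      obtain ⟨d, hd, hdi⟩ := exists_conj_swap hU hy.symm hs hi
      obtain ⟨k, hk, h, hh, rfl⟩ := hH.mul d (Subgroup.mem_sup_left hd)
      exact ⟨k, hk, by rw [← hdi]; nth_rw 1 [← hHs h hh]; group⟩
    · rintro ⟨k, hk, rfl⟩
      obtain ⟨d, hd, z, hz, rfl⟩ := Coprime.exists_mul_of_mem_sup hZn (core_le X hk)
      have hzs : z * s * z⁻¹ = s := by
        obtain ⟨j, rfl⟩ := Subgroup.mem_zpowers_iff.1 hz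
        rw [(Commute.refl s).zpow_left j |>.eq, mul_inv_cancel_right]
      have := hswap d hd s hs
      convert this using 1
      calc d * z * s * (d * z)⁻¹ = d * (z * s * z⁻¹) * d⁻¹ := by group
        _ = d * s * d⁻¹ := by rw [hzs]
  -- the number of involutions of `M` is a `π'`-number
  set B := invMap (G := G) x x with hBdef
  have hB : B = {t | orderOf t = 2 ∧ t ∈ M} := invMap_one M
  have hDM : D ≤ M := fun d hd => (smul_one_eq_iff M d).1 (mem_pairStab.1 hd).1
  have haB : a ∈ B := by rw [hB]; exact ⟨hao, hSM ha⟩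
  have hBM : ∀ t, t ∈ B ↔ ∃ m ∈ M, m * a * m⁻¹ = t := by
    intro t
    constructor
    · intro ht
      obtain ⟨d, hd, hdt⟩ := exists_conj_fix hU hy.symm haB ht
      exact ⟨d, hDM hd, hdt⟩
    · rintro ⟨m, hm, rfl⟩
      rw [hB]
      exact ⟨by rw [Small.orderOf_conj_eq, hao], mul_mem (mul_mem hm (hSM ha)) (inv_mem hm)⟩
  have hrel : PiNum πᶜ ((Subgroup.centralizer ({a} : Set G)).relIndex M) := by
    rw [← card_conj_set M a B hBM, hBdef, ← card_invMap_eq hU hy.symm,
      card_conj_set (core π X) s _ hA]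
    exact piNum_of_dvd (hM.piNum_core hXt) (Subgroup.relIndex_dvd_card _ _)
  -- so `a` is central modulo the core
  set K := core π M with hK
  set C := Subgroup.centralizer ({a} : Set G) ⊓ M with hCdef
  have hCn : C ≤ Subgroup.normalizer (K : Set G) :=
    inf_le_right.trans (Subgroup.le_normalizer.trans (hM.normalizer_core hMt))
  obtain ⟨HM, hHM⟩ := hM.exists_hall hMt
  have htopM : K ⊔ C = M := by
    refine le_antisymm (sup_le (core_le M) inf_le_right) (Subgroup.relIndex_eq_one.1 ?_)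
    have h1 : (K ⊔ C).relIndex M ∣ (Subgroup.centralizer ({a} : Set G)).relIndex M := by
      rw [← Subgroup.inf_relIndex_right (Subgroup.centralizer ({a} : Set G)) M]
      exact Subgroup.relIndex_dvd_of_le_left _ le_sup_right
    have h2 : (K ⊔ C).relIndex M ∣ K.relIndex M := Subgroup.relIndex_dvd_of_le_left _ le_sup_left
    have h3 : K.relIndex M = Nat.card HM := by
      have h := Subgroup.relIndex_mul_relIndex ⊥ K M bot_le (core_le M)
      rw [Subgroup.relIndex_bot_left, Subgroup.relIndex_bot_left, hM.card_mul hMt hHM] at h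
      exact Nat.eq_of_mul_eq_mul_left Nat.card_pos h
    exact Nat.eq_one_of_dvd_coprimes (coprime_compl hHM.piNum hrel) (h3 ▸ h2) h1
  have hmod : ∀ t, t ∈ B → t * a⁻¹ ∈ K := by
    intro t ht
    obtain ⟨m, hm, rfl⟩ := (hBM t).1 ht
    rw [← htopM] at hm
    obtain ⟨k, hk, c, hc, rfl⟩ := Coprime.exists_mul_of_mem_sup hCn hm
    have hca : c * a = a * c := Subgroup.mem_centralizer_singleton_iff.1 hc.1
    rw [show k * c * a * (k * c)⁻¹ * a⁻¹ = k * (c * a * c⁻¹) * k⁻¹ * a⁻¹ by group, hca,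
      mul_inv_cancel_right, show k * a * k⁻¹ * a⁻¹ = k * (a * k⁻¹ * a⁻¹) by group]
    exact mul_mem hk (hM.conj_core hMt (Subgroup.le_normalizer (hSM ha)) (inv_mem hk))
  have h1 : b * a⁻¹ ∈ K := hmod b (by rw [hB]; exact ⟨hbo, hSM hb⟩)
  have h2 : b * a⁻¹ ∈ K ⊓ (S : Subgroup G) := Subgroup.mem_inf.2 ⟨h1, mul_mem hb (inv_mem ha)⟩
  rw [hM.card_eq_one_of_inf hMt (hM.piNum_sylow S), Subgroup.mem_bot, mul_inv_eq_one] at h2
  exact h2.symm

/-- The Hall subgroups of an involution centralizer normalize a Sylow subgroup close to `S`. -/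
theorem exists_hall_centralizer (S : Sylow 2 G) {t : G} (ht : t ∈ (S : Subgroup G)) (ht1 : t ≠ 1) :
    ∃ H, IsHallIn π H (Subgroup.centralizer ({t} : Set G)) ∧ ∃ c ∈ Subgroup.centralizer
      (((S : Subgroup G) ⊓ Subgroup.centralizer ({t} : Set G) : Subgroup G) : Set G),
      H ≤ Subgroup.normalizer (((c • S : Sylow 2 G) : Subgroup G) : Set G) := by
  haveI : Fact (Nat.Prime 2) := ⟨Nat.prime_two⟩
  set U := (S : Subgroup G) ⊓ Subgroup.centralizer ({t} : Set G) with hU
  have hUp : IsPGroup 2 U := S.2.to_le inf_le_left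
  obtain ⟨H, hH, hUH⟩ := hM.exists_hall_ge (hM.centralizer_ne_top ht1)
    (inf_le_right : U ≤ _) (piNum_of_isPGroup_two hM.two hUp)
  have he : 2 ∣ Nat.card H := by
    have htU : t ∈ U := ⟨ht, Subgroup.mem_centralizer_singleton_iff.2 rfl⟩
    obtain ⟨k, hk⟩ := IsPGroup.iff_card.1 hUp
    have h1 : 1 < Nat.card U := (Subgroup.one_lt_card_iff_ne_bot U).2 fun hb =>
      ht1 (Subgroup.mem_bot.1 (hb ▸ htU))
    refine dvd_trans ?_ (Subgroup.card_dvd_of_le hUH)
    rw [hk] at h1 ⊢
    exact dvd_pow_self 2 fun h0 => by rw [h0] at h1; norm_num at h1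
  obtain ⟨S', hS'⟩ := hM.exists_le_normalizer hH.piNum he
  have hUS' : U ≤ (S' : Subgroup G) := by
    refine le_trans le_sup_left (S'.is_maximal'
      (hUp.to_sup_of_normal_right' S'.2 (hUH.trans hS')) le_sup_right).le
  obtain ⟨c, hc, hcS⟩ := hM.sylow_conj_centralizer S S' inf_le_left hUS'
  exact ⟨H, hH, c, hc, hcS ▸ hS'⟩

/-- The signalizer functor. -/
theorem isSignalizer {A : Subgroup G} (hA : Cfsg.IsElementaryAbelian 2 A) :
    Cfsg.IsSolvableSignalizerFunctor 2 A
      (fun a => core π (Subgroup.centralizer ({a} : Set G))) := by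
  refine ⟨⟨fun a _ _ => core_le _, fun a _ ha1 h => ?_, fun a ha ha1 b hb x hx => ?_,
    fun a _ ha1 b _ hb1 x hx => ?_⟩, fun a _ ha1 => hM.solvable_core (hM.centralizer_ne_top ha1)⟩
  · exact (hM.odd_core (hM.centralizer_ne_top ha1)).not_two_dvd_nat h
  · refine hM.conj_core (hM.centralizer_ne_top ha1) (Subgroup.le_normalizer ?_) hx
    rw [Subgroup.mem_centralizer_singleton_iff]
    exact congrArg Subtype.val (hA.1.is_comm.comm (⟨b, hb⟩ : A) ⟨a, ha⟩)
  · exact (hM.mem_core (hM.centralizer_ne_top hb1)).2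
      ⟨hx.2, ((hM.mem_core (hM.centralizer_ne_top ha1)).1 hx.1).2⟩

/-- **No three independent involutions over a central four-group.** -/
theorem false_of_three (S : Sylow 2 G) (V A : Subgroup G)
    (hVmem : ∀ x, x ∈ V ↔ x ∈ (S : Subgroup G) ∧ x * x = 1 ∧ ∀ s ∈ (S : Subgroup G), s * x = x * s)
    (hV4 : 4 ≤ Nat.card V) (hA : Cfsg.IsElementaryAbelian 2 A) (hA8 : 8 ≤ Nat.card A)
    (hVA : V ≤ A) : False := by
  classical
  haveI : Fact (Nat.Prime 2) := ⟨Nat.prime_two⟩
  have hVS : V ≤ (S : Subgroup G) := fun x hx => ((hVmem x).1 hx).1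
  have hVel : Cfsg.IsElementaryAbelian 2 V := Transitivity.elab_of_le_of_elab hA hVA
  haveI := hVel.1
  set θ : G → Subgroup G := fun a => core π (Subgroup.centralizer ({a} : Set G)) with hθ
  set W := Cfsg.signalizerClosure V θ with hW
  have hWt : W ≠ ⊤ := by
    intro h
    have hle : W ≤ Cfsg.signalizerClosure A θ := iSup_le fun a =>
      Transitivity.le_signalizerClosure (hVA a.2.1) a.2.2
    have h2 := (SolvSig.isSolvable_signalizerClosure hA (by norm_num; exact hA8)
      (hM.isSignalizer hA)).2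
    have htop : Cfsg.signalizerClosure A θ = ⊤ := top_le_iff.1 (h ▸ hle)
    rw [htop, Subgroup.card_top] at h2
    exact h2 hM.even_card
  have hθW : ∀ t ∈ (S : Subgroup G), t ≠ 1 → θ t ≤ W := by
    intro t ht ht1
    refine Coprime.le_of_forall_inf_centralizer_le (A := V)
      (Transitivity.not_isCyclic_of_elab hVel (by norm_num; exact hV4)) ?_
      (Transitivity.coprime_card_of_elab hVel
        fun h => (hM.odd_core (hM.centralizer_ne_top ht1)).not_two_dvd_nat h) fun a ha ha1 x hx => ?_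
    · refine le_trans (fun v hv => ?_)
        (Subgroup.le_normalizer.trans (hM.normalizer_core (hM.centralizer_ne_top ht1)))
      exact Subgroup.mem_centralizer_singleton_iff.2 (((hVmem v).1 hv).2.2 t ht).symm
    · exact Transitivity.le_signalizerClosure (θ := θ) ha ha1
        ((hM.mem_core (hM.centralizer_ne_top ha1)).2
          ⟨hx.2, ((hM.mem_core (hM.centralizer_ne_top ht1)).1 hx.1).2⟩)
  have hNW : Subgroup.normalizer ((S : Subgroup G) : Set G) ≤ Subgroup.normalizer (W : Set G) := by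
    have hone : ∀ n ∈ Subgroup.normalizer ((S : Subgroup G) : Set G), ∀ x ∈ W,
        n * x * n⁻¹ ∈ W := by
      intro n hn
      suffices h : W ≤ W.comap (MulAut.conj n).toMonoidHom from fun x hx => h hx
      refine iSup_le fun a => fun x hx => ?_
      show n * x * n⁻¹ ∈ W
      have hne : n * (a : G) * n⁻¹ ≠ 1 := fun h => a.2.2 (conj_eq_one_iff.1 h)
      have hmem : n * (a : G) * n⁻¹ ∈ V := by
        obtain ⟨haS, ha2, hac⟩ := (hVmem _).1 a.2.1
        refine (hVmem _).2 ⟨(Subgroup.mem_normalizer_iff.1 hn _).1 haS, ?_, fun s hs => ?_⟩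
        · rw [conj_mul, ha2, mul_one, mul_inv_cancel]
        · have := hac _ ((Subgroup.mem_normalizer_iff''.1 hn s).1 hs)
          calc s * (n * a * n⁻¹) = n * (n⁻¹ * s * n * a) * n⁻¹ := by group
            _ = n * (a * (n⁻¹ * s * n)) * n⁻¹ := by rw [this]
            _ = n * a * n⁻¹ * s := by group
      refine Transitivity.le_signalizerClosure (θ := θ) hmem hne ?_
      obtain ⟨hx1, hx2⟩ := (hM.mem_core (hM.centralizer_ne_top a.2.2)).1 hx
      rw [Subgroup.mem_centralizer_singleton_iff] at hx1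
      refine (hM.mem_core (hM.centralizer_ne_top hne)).2 ⟨?_, by rwa [orderOf_conj]⟩
      rw [Subgroup.mem_centralizer_singleton_iff, conj_mul, conj_mul, hx1]
    intro n hn
    exact Subgroup.mem_normalizer_iff.2 fun x => ⟨hone n hn x, fun h => by
      simpa [mul_assoc] using hone n⁻¹ (inv_mem hn) _ h⟩
  -- the proper subgroup
  obtain ⟨M, hMt, hNM, hWM⟩ : ∃ M : Subgroup G, M ≠ ⊤ ∧
      Subgroup.normalizer ((S : Subgroup G) : Set G) ≤ M ∧ W ≤ M := by
    by_cases hb : W = ⊥
    · exact ⟨_, hM.normalizer_ne_top (hM.piNum_sylow S) (hM.sylow_ne_bot S), le_rfl, hb ▸ bot_le⟩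
    · exact ⟨_, fun h => hb ((hM.simple.eq_bot_or_eq_top_of_normal W
        (Subgroup.normalizer_eq_top_iff.1 h)).resolve_right hWt), hNW, Subgroup.le_normalizer⟩
  have hSM : (S : Subgroup G) ≤ M := Subgroup.le_normalizer.trans hNM
  have hCz : ∀ z ∈ V, z ≠ 1 → Subgroup.centralizer ({z} : Set G) ≤ M := by
    intro z hz hz1
    obtain ⟨H, hH, c, hc, hHN⟩ := hM.exists_hall_centralizer S (hVS hz) hz1
    intro g hg
    obtain ⟨k, hk, h, hh, rfl⟩ := hH.mul g hg
    refine mul_mem (hWM (hθW z (hVS hz) hz1 hk)) (hNM ?_)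
    have hcS : c • S = S := by
      have hle : (S : Subgroup G) ≤ (S : Subgroup G) ⊓ Subgroup.centralizer ({z} : Set G) :=
        le_inf le_rfl fun s hs =>
          Subgroup.mem_centralizer_singleton_iff.2 (((hVmem z).1 hz).2.2 s hs)
      refine Sylow.smul_eq_iff_mem_normalizer.2 (Subgroup.mem_normalizer_iff.2 fun s => ?_)
      have hcen : ∀ v ∈ (S : Subgroup G), c * v * c⁻¹ = v := fun v hv => by
        rw [← Subgroup.mem_centralizer_iff.1 hc v (hle hv), mul_inv_cancel_right]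
      refine ⟨fun hs => (hcen s hs).symm ▸ hs, fun hs => ?_⟩
      have h2 := hcen _ hs
      rw [mul_left_inj, mul_right_inj] at h2
      exact h2 ▸ hs
    rw [hcS] at hHN
    exact hHN hh
  have hC : ∀ t ∈ (S : Subgroup G), orderOf t = 2 → Subgroup.centralizer ({t} : Set G) ≤ M := by
    intro t ht hto
    have ht1 : t ≠ 1 := Small.ne_one_of_orderOf_two hto
    obtain ⟨H, hH, c, hc, hHN⟩ := hM.exists_hall_centralizer S ht ht1
    obtain ⟨z, hz, hz1⟩ : ∃ z ∈ V, z ≠ 1 := V.bot_or_exists_ne_one.resolve_left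
      fun hb => by rw [hb, Subgroup.card_bot] at hV4; omega
    have hcM : c ∈ M := hCz z hz hz1 (by
      rw [Subgroup.mem_centralizer_singleton_iff]
      exact (Subgroup.mem_centralizer_iff.1 hc z (Subgroup.mem_inf.2 ⟨hVS hz,
        Subgroup.mem_centralizer_singleton_iff.2 (((hVmem z).1 hz).2.2 t ht).symm⟩)).symm)
    intro g hg
    obtain ⟨k, hk, h, hh, rfl⟩ := hH.mul g hg
    refine mul_mem (hWM (hθW t ht ht1 hk)) ?_
    have h1 : c⁻¹ * h * c ∈ Subgroup.normalizer ((S : Subgroup G) : Set G) := by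
      refine Sylow.smul_eq_iff_mem_normalizer.1 ?_
      rw [mul_smul, mul_smul, Sylow.smul_eq_iff_mem_normalizer.2 (hHN hh), inv_smul_smul]
    simpa [mul_assoc] using mul_mem (mul_mem hcM (hNM h1)) (inv_mem hcM)
  -- two involutions in `V`
  obtain ⟨a, b, hab, ha, hb⟩ : ∃ a b : G, a ≠ b ∧ (a ∈ V ∧ a ≠ 1) ∧ (b ∈ V ∧ b ≠ 1) := by
    by_contra hcon
    push Not at hcon
    obtain ⟨a, ha⟩ := Subgroup.ne_bot_iff_exists_ne_one.1
      (fun hb : V = ⊥ => by rw [hb, Subgroup.card_bot] at hV4; omega)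
    have h2 : Nat.card V ≤ 2 := by
      refine le_trans (Nat.card_le_card_of_injective
        (fun v : V => decide ((v : G) = 1)) fun v w h => ?_) (by simp)
      apply Subtype.ext
      simp only [decide_eq_decide] at h
      by_cases hv : (v : G) = 1
      · rw [hv, h.1 hv]
      · have ha' : (a : G) ≠ 1 := fun e => ha (Subtype.ext e)
        rw [show (v : G) = a from by_contra fun e => hv (hcon a v (Ne.symm e) ⟨a.2, ha'⟩ v.2),
          show (w : G) = a from by_contra fun e => hv (h.2 (hcon a w (Ne.symm e) ⟨a.2, ha'⟩ w.2))]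
    omega
  have hord : ∀ v ∈ V, v ≠ 1 → orderOf v = 2 := fun v hv hv1 =>
    orderOf_eq_prime (hVel.2 v hv) hv1
  exact hab (hM.unique_involution S hMt hNM hC (hVS ha.1) (hVS hb.1) (hord a ha.1 ha.2)
    (hord b hb.1 hb.2))

end Minimal

end CfsgLib.PiHomTwo
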