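import Cfsg.Agent.PiHomogeneousTwo.Embedded
import Cfsg.Agent.ZStar.Theorem
import Cfsg.Agent.LocalStructure.Elements

/-!
# The action of `N(S)` on a central four-group

No involution central in `S` is fixed by `N(S)` (`Z*`), so `3 ∈ π` and an element of 3-power order
permutes the three involutions cyclically.
-/

set_option autoImplicit false
set_option linter.style.haveILetI false
set_option linter.unusedSectionVars false

namespace CfsgLib.PiHomTwo

open CfsgLib.GroupBasics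
open scoped Pointwise

universe u

variable {π : Set ℕ} {G : Type u} [Group G] [Finite G]

/-- An element of odd order commutes with what its square commutes with. -/
theorem commute_of_sq {g z : G} (hg : Odd (orderOf g)) (h : Commute (g * g) z) : Commute g z := by
  obtain ⟨j, hj⟩ := hg
  have hgj : g = (g * g) ^ (j + 1) := by
    rw [← pow_two, ← pow_mul, show 2 * (j + 1) = orderOf g + 1 by omega, pow_succ,
      pow_orderOf_eq_one, one_mul]
  rw [hgj]
  exact h.pow_left _

/-- An element of `N(S)` is a 2-element of `S` times an element of odd order. -/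
theorem exists_split (S : Sylow 2 G) {g : G}
    (hg : g ∈ Subgroup.normalizer ((S : Subgroup G) : Set G)) :
    ∃ s g', s ∈ (S : Subgroup G) ∧ g' ∈ Subgroup.normalizer ((S : Subgroup G) : Set G) ∧
      Odd (orderOf g') ∧ s ∈ Subgroup.zpowers g ∧ g' ∈ Subgroup.zpowers g ∧ g = s * g' := by
  haveI : Fact (Nat.Prime 2) := ⟨Nat.prime_two⟩
  obtain ⟨s, g', hs, hg', ⟨k, hk⟩, hco, he⟩ := LocalStructure.exists_pPart_mul (p := 2) g
  refine ⟨s, g', ?_, (Subgroup.zpowers_le.2 hg) hg', Nat.coprime_two_right.1 hco, hs, hg', he.symm⟩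
  have hp : IsPGroup 2 (Subgroup.zpowers s) :=
    IsPGroup.of_card (n := k) (by rw [Nat.card_zpowers, hk])
  have hsN : Subgroup.zpowers s ≤ Subgroup.normalizer ((S : Subgroup G) : Set G) :=
    Subgroup.zpowers_le.2 ((Subgroup.zpowers_le.2 hg) hs)
  exact (S.is_maximal' (hp.to_sup_of_normal_right' S.2 hsN) le_sup_right).le
    (Subgroup.mem_sup_left (Subgroup.mem_zpowers s))

/-- `V` consists of the involutions central in `S`, and the identity. -/
def CentralInvols (S : Sylow 2 G) (V : Subgroup G) : Prop :=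
  ∀ x, x ∈ V ↔ x ∈ (S : Subgroup G) ∧ x * x = 1 ∧ ∀ s ∈ (S : Subgroup G), s * x = x * s

theorem CentralInvols.conj {S : Sylow 2 G} {V : Subgroup G} (hV : CentralInvols S V) {n z : G}
    (hn : n ∈ Subgroup.normalizer ((S : Subgroup G) : Set G)) (hz : z ∈ V) : n * z * n⁻¹ ∈ V := by
  obtain ⟨haS, ha2, hac⟩ := (hV _).1 hz
  refine (hV _).2 ⟨(Subgroup.mem_normalizer_iff.1 hn _).1 haS, ?_, fun s hs => ?_⟩
  · rw [conj_mul, ha2, mul_one, mul_inv_cancel]
  · have := hac _ ((Subgroup.mem_normalizer_iff''.1 hn s).1 hs)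
    calc s * (n * z * n⁻¹) = n * (n⁻¹ * s * n * z) * n⁻¹ := by group
      _ = n * (z * (n⁻¹ * s * n)) * n⁻¹ := by rw [this]
      _ = n * z * n⁻¹ * s := by group

theorem CentralInvols.nontriv {S : Sylow 2 G} {V : Subgroup G} (hV : CentralInvols S V) {z : G}
    (hz : z ∈ V) (hz1 : z ≠ 1) : orderOf z = 2 := by
  haveI : Fact (Nat.Prime 2) := ⟨Nat.prime_two⟩
  exact orderOf_eq_prime (by rw [pow_two]; exact ((hV z).1 hz).2.1) hz1

/-- Three nontrivial elements exhaust a four-group. -/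
theorem four_cases {V : Subgroup G} (h4 : Nat.card V = 4) {x y z w : G} (hx : x ∈ V) (hy : y ∈ V)
    (hz : z ∈ V) (hw : w ∈ V) (hx1 : x ≠ 1) (hy1 : y ≠ 1) (hz1 : z ≠ 1) (hxy : x ≠ y)
    (hxz : x ≠ z) (hyz : y ≠ z) : w = 1 ∨ w = x ∨ w = y ∨ w = z := by
  classical
  haveI := Fintype.ofFinite V
  by_contra hcon
  push Not at hcon
  obtain ⟨w1, w2, w3, w4⟩ := hcon
  have hne : ({(1 : V), ⟨x, hx⟩, ⟨y, hy⟩, ⟨z, hz⟩, ⟨w, hw⟩} : Finset V).card = 5 := by
    simp [← Subtype.val_inj, Ne.symm hx1, Ne.symm hy1, Ne.symm hz1, Ne.symm w1, hxy, hxz, hyz,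
      Ne.symm w2, Ne.symm w3, Ne.symm w4]
  have := Finset.card_le_univ ({(1 : V), ⟨x, hx⟩, ⟨y, hy⟩, ⟨z, hz⟩, ⟨w, hw⟩} : Finset V)
  rw [hne, ← Nat.card_eq_fintype_card, h4] at this
  omega

namespace Minimal

variable (hM : Minimal π G)
include hM

/-- `N(S)` fixes no involution central in `S`. -/
theorem exists_moving (S : Sylow 2 G) {z : G} (hzS : z ∈ (S : Subgroup G)) (hz : orderOf z = 2) :
    ∃ n ∈ Subgroup.normalizer ((S : Subgroup G) : Set G), n * z * n⁻¹ ≠ z := by
  by_contra hcon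
  push Not at hcon
  obtain ⟨N, hN, hodd, hc⟩ := ZStar.exists_oddNormal_of_sylow S hz hzS fun g hg => by
    obtain ⟨n, hn, hne⟩ := hM.fusion_elem S hzS hg
    rw [← hne, hcon n hn]
  have hNb : N = ⊥ := (hM.simple.eq_bot_or_eq_top_of_normal N hN).resolve_right fun h => by
    rw [h, Subgroup.card_top] at hodd
    exact hodd.not_two_dvd_nat hM.even_card
  refine Small.ne_one_of_orderOf_two hz (Subgroup.mem_bot.1 (hM.center_eq_bot ▸
    Subgroup.mem_center_iff.2 fun g => ?_))
  have h := hc g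
  rw [hNb, Subgroup.mem_bot, mul_inv_eq_one, mul_inv_eq_iff_eq_mul] at h
  exact h.symm

variable {S : Sylow 2 G} {V : Subgroup G}

/-- An element of 3-power order of `N(S)` moves every involution of `V`, and `3 ∈ π`. -/
theorem exists_three (hV : CentralInvols S V) (h4 : Nat.card V = 4) :
    3 ∈ π ∧ ∃ a k, a ∈ Subgroup.normalizer ((S : Subgroup G) : Set G) ∧ orderOf a = 3 ^ k ∧
      ∀ z ∈ V, z ≠ 1 → a * z * a⁻¹ ≠ z := by
  classical
  haveI : Fact (Nat.Prime 3) := ⟨Nat.prime_three⟩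
  set N := Subgroup.normalizer ((S : Subgroup G) : Set G) with hN
  obtain ⟨z, hz, hz1⟩ := V.bot_or_exists_ne_one.resolve_left
    fun hb => by rw [hb, Subgroup.card_bot] at h4; omega
  obtain ⟨n₀, hn₀, hn₀z⟩ := hM.exists_moving S ((hV z).1 hz).1 (hV.nontriv hz hz1)
  have hne : ∀ {n x : G}, x ≠ 1 → n * x * n⁻¹ ≠ 1 := fun hx h => hx (conj_eq_one_iff.1 h)
  set y := n₀ * z * n₀⁻¹ with hy
  have hyV : y ∈ V := hV.conj hn₀ hz
  have hy1 : y ≠ 1 := hne hz1
  -- the third involution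
  set w := z * y with hw
  have hwV : w ∈ V := mul_mem hz hyV
  have hz2 : z * z = 1 := ((hV z).1 hz).2.1
  have hy2 : y * y = 1 := ((hV y).1 hyV).2.1
  have hw1 : w ≠ 1 := fun h => hn₀z (mul_left_cancel (h.trans hz2.symm))
  have hwz : z ≠ w := fun h => hy1 (mul_eq_left.1 h.symm)
  have hwy : y ≠ w := fun h => hz1 (mul_eq_right.1 h.symm)
  -- the orbit of `z`
  set A : Set G := {x | x ∈ V ∧ x ≠ 1} with hA
  have horb : ∀ x, x ∈ A ↔ ∃ k ∈ N, k * z * k⁻¹ = x := by
    intro x
    refine ⟨fun hx => ?_, fun ⟨k, hk, hkx⟩ => hkx ▸ ⟨hV.conj hk hz, hne hz1⟩⟩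
    rcases four_cases h4 hz hyV hwV hx.1 hz1 hy1 hw1 (Ne.symm hn₀z) hwz hwy with h | h | h | h
    · exact absurd h hx.2
    · exact ⟨1, one_mem _, by rw [h]; simp⟩
    · exact ⟨n₀, hn₀, h.symm⟩
    · -- otherwise `w` is fixed by `N(S)`
      by_contra hcon
      push Not at hcon
      rw [h] at hcon
      obtain ⟨n, hn, hnw⟩ := hM.exists_moving S ((hV w).1 hwV).1 (hV.nontriv hwV hw1)
      have h1 := hV.conj hn hwV
      rcases four_cases h4 hz hyV hwV h1 hz1 hy1 hw1 (Ne.symm hn₀z) hwz hwy with e | e | e | e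
      · exact hne hw1 e
      · refine hcon n⁻¹ (inv_mem hn) ?_
        rw [← e]; group
      · refine hcon (n⁻¹ * n₀) (mul_mem (inv_mem hn) hn₀) ?_
        calc n⁻¹ * n₀ * z * (n⁻¹ * n₀)⁻¹ = n⁻¹ * y * n := by rw [hy]; group
          _ = w := by rw [← e]; group
      · exact hnw e
  have hcA : Nat.card A = 3 := by
    have hAeq : A = ↑({z, y, w} : Finset G) := by
      ext x
      rw [hA, Set.mem_setOf_eq, Finset.coe_insert, Finset.coe_insert, Finset.coe_singleton]
      simp only [Set.mem_insert_iff, Set.mem_singleton_iff]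
      constructor
      · intro hx
        rcases four_cases h4 hz hyV hwV hx.1 hz1 hy1 hw1 (Ne.symm hn₀z) hwz hwy with h | h | h | h
        · exact absurd h hx.2
        · exact Or.inl h
        · exact Or.inr (Or.inl h)
        · exact Or.inr (Or.inr h)
      · rintro (h | h | h) <;> subst h
        exacts [⟨hz, hz1⟩, ⟨hyV, hy1⟩, ⟨hwV, hw1⟩]
    rw [hAeq, Nat.card_coe_set_eq, Set.ncard_coe_finset]
    simp [Ne.symm hn₀z, hwz, hwy]
  have h3 : 3 ∣ (Subgroup.centralizer ({z} : Set G)).relIndex N := by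
    rw [← card_conj_set N z A horb, hcA]
  obtain ⟨a, haN, ⟨k, hk⟩, haz⟩ : ∃ a ∈ N, (∃ k, orderOf a = 3 ^ k) ∧
      a ∉ Subgroup.centralizer ({z} : Set G) := by
    by_contra hcon
    push Not at hcon
    exact not_dvd_relIndex_of_forall (fun b hb hk => hcon b hb hk) h3
  rw [Subgroup.mem_centralizer_singleton_iff] at haz
  have h3π : 3 ∈ π := by
    by_contra h
    exact haz (hM.toHyp.commute (hM.piNum_sylow S) haN
      (hk ▸ piNum_prime_pow (π := πᶜ) Nat.prime_three h k) ((hV z).1 hz).1)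
  refine ⟨h3π, a, k, haN, hk, fun u hu hu1 hau => haz ?_⟩
  have hodd : Odd (orderOf a) := hk ▸ Odd.pow (by decide)
  -- `a` fixing `u` would fix the other two
  have hcu : Commute a u := mul_inv_eq_iff_eq_mul.1 hau
  by_cases huz : u = z
  · exact huz ▸ hcu
  obtain ⟨v, hv⟩ : ∃ v, v = u * z := ⟨_, rfl⟩
  have hvV : v ∈ V := hv ▸ mul_mem hu hz
  have hu2 : u * u = 1 := ((hV u).1 hu).2.1
  have hv1 : v ≠ 1 := fun h => huz (mul_left_cancel (hu2.trans (hv ▸ h).symm))
  have huv : u ≠ v := fun h => hz1 (mul_eq_left.1 (h.trans hv).symm)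
  have hzv : z ≠ v := fun h => hu1 (mul_eq_right.1 (h.trans hv).symm)
  have hconj := hV.conj haN hz
  rcases four_cases h4 hu hz hvV hconj hu1 hz1 hv1 huz huv hzv with e | e | e | e
  · exact absurd e (hne hz1)
  · exact absurd (mul_left_cancel (mul_right_cancel (e.trans hau.symm))) (Ne.symm huz)
  · exact mul_inv_eq_iff_eq_mul.1 e
  · have hsq : Commute (a * a) z := by
      refine mul_inv_eq_iff_eq_mul.1 ?_
      calc a * a * z * (a * a)⁻¹ = a * (a * z * a⁻¹) * a⁻¹ := by group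
        _ = a * (u * z) * a⁻¹ := by rw [e, hv]
        _ = (a * u * a⁻¹) * (a * z * a⁻¹) := by group
        _ = u * (u * z) := by rw [hau, e, hv]
        _ = z := by rw [← mul_assoc, hu2, one_mul]
    exact commute_of_sq hodd hsq

end Minimal

end CfsgLib.PiHomTwo
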