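import Cfsg.Agent.PiHomogeneousTwo.Proper
import Cfsg.Agent.HalfClasses.Structure
import Mathlib.FieldTheory.Finite.Basic

/-!
# `PSL(2,q)` is not minimal

With `3 ∈ π`: an element of order 3 is inverted unless `q` is a power of 3, and then an element of
odd prime order of the torus is inverted and normalizes, without centralizing, the unipotent group.
-/

set_option autoImplicit false
set_option linter.style.haveILetI false
set_option linter.unusedSectionVars false

namespace CfsgLib.PiHomTwo

open CfsgLib.GroupBasics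
open scoped MatrixGroups

universe u

variable {π : Set ℕ} {G : Type u} [Group G] [Finite G]

/-- An involution does not invert a nontrivial `π`-element of odd order. -/
theorem Hyp.false_of_inverted (hG : Hyp π G) {s x : G} (hs : s * s = 1) {p : ℕ} (hp : p.Prime)
    (hp2 : p ≠ 2) (hpπ : p ∈ π) (hxp : x ^ p = 1) (hx : x ≠ 1) (hinv : s * x * s⁻¹ = x⁻¹) :
    False := by
  haveI : Fact p.Prime := ⟨hp⟩
  haveI : Fact (Nat.Prime 2) := ⟨Nat.prime_two⟩
  have hxo : orderOf x = p := orderOf_eq_prime hxp hx
  obtain ⟨k, hk, hsk⟩ : ∃ k, k ≤ 1 ∧ orderOf s = 2 ^ k := (Nat.dvd_prime_pow Nat.prime_two).1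
    (by rw [pow_one]; exact orderOf_dvd_of_pow_eq_one (by rw [pow_two, hs]))
  have hn : s ∈ Subgroup.normalizer ((Subgroup.zpowers x : Subgroup G) : Set G) := by
    have hfwd : ∀ y ∈ Subgroup.zpowers x, s * y * s⁻¹ ∈ Subgroup.zpowers x := fun y hy => by
      obtain ⟨j, rfl⟩ := Subgroup.mem_zpowers_iff.1 hy
      rw [← conj_zpow, hinv]
      exact Subgroup.zpow_mem _ (inv_mem (Subgroup.mem_zpowers x)) j
    refine Subgroup.mem_normalizer_iff.2 fun y => ⟨hfwd y, fun h => ?_⟩
    have h' := hfwd _ h
    have hsi : s⁻¹ = s := inv_eq_of_mul_eq_one_right hs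
    rw [hsi] at h'
    simpa [mul_assoc, hs, ← mul_assoc s s] using h'
  have hodd : Odd (orderOf x) := hxo ▸ hp.odd_of_ne_two hp2
  have hc := hG.commute_two (E := Subgroup.zpowers x)
    (by rw [Nat.card_zpowers, hxo]; exact (pow_one p) ▸ piNum_prime_pow hp hpπ 1)
    (by rwa [Nat.card_zpowers]) hsk hn (Subgroup.mem_zpowers x)
  rw [hc, mul_inv_cancel_right] at hinv
  have h2 : orderOf x ∣ 2 := orderOf_dvd_of_pow_eq_one (by rw [pow_two]; exact mul_eq_one_iff_eq_inv.2 hinv)
  rw [hxo] at h2
  exact hp2 ((Nat.prime_dvd_prime_iff_eq hp Nat.prime_two).1 h2)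

variable {F : Type} [Field F] [Fintype F]

/-- The projection onto `PSL(2,F)`. -/
def toPSL : SL(2, F) →* Matrix.ProjectiveSpecialLinearGroup (Fin 2) F :=
  QuotientGroup.mk' (Subgroup.center SL(2, F))

theorem toPSL_eq_one {g : SL(2, F)} (h : toPSL g = 1) :
    (g : Matrix (Fin 2) (Fin 2) F) 0 1 = 0 ∧ (g : Matrix (Fin 2) (Fin 2) F) 1 0 = 0 ∧
      (g : Matrix (Fin 2) (Fin 2) F) 0 0 = (g : Matrix (Fin 2) (Fin 2) F) 1 1 := by
  obtain ⟨r, -, hr⟩ := Matrix.SpecialLinearGroup.mem_center_iff.1 ((QuotientGroup.eq_one_iff g).1 h)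
  rw [← hr]
  simp

/-- An element of `SL(2,F)` with zero trace is an involution in `PSL(2,F)`. -/
theorem toPSL_mul_self {w : SL(2, F)}
    (h : (w : Matrix (Fin 2) (Fin 2) F) 1 1 = -(w : Matrix (Fin 2) (Fin 2) F) 0 0) :
    toPSL w * toPSL w = 1 := by
  rw [← map_mul]
  refine (QuotientGroup.eq_one_iff (w * w)).2 (Matrix.SpecialLinearGroup.mem_center_iff.2
    ⟨-1, by simp, ?_⟩)
  have hdet := w.2
  rw [Matrix.det_fin_two, h] at hdet
  ext i j
  fin_cases i <;> fin_cases j <;> simp [Matrix.mul_apply, Fin.sum_univ_two, h]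
  · linear_combination hdet
  · ring
  · ring
  · linear_combination hdet

/-- The upper unitriangular matrix with a given corner. -/
def unipMat (x : F) : SL(2, F) := ⟨!![1, x; 0, 1], by simp [Matrix.det_fin_two]⟩

theorem coe_unipMat (x : F) : (unipMat x : Matrix (Fin 2) (Fin 2) F) = !![1, x; 0, 1] := rfl

/-- The unipotent root group. -/
def unip : Multiplicative F →* SL(2, F) where
  toFun x := unipMat x.toAdd
  map_one' := Subtype.ext (by
    ext i j
    fin_cases i <;> fin_cases j <;> simp [coe_unipMat])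
  map_mul' x y := Subtype.ext (by
    rw [Matrix.SpecialLinearGroup.coe_mul]
    ext i j
    fin_cases i <;> fin_cases j <;>
      simp [coe_unipMat, Matrix.mul_apply, Fin.sum_univ_two, add_comm])

theorem coe_unip (x : F) :
    (unip (Multiplicative.ofAdd x) : Matrix (Fin 2) (Fin 2) F) = !![1, x; 0, 1] := rfl

theorem false_of_psl_two (hG : Hyp π G) (e : G ≃* Matrix.ProjectiveSpecialLinearGroup (Fin 2) F)
    (hodd : Odd (Fintype.card F)) (hq : 3 < Fintype.card F) (h8 : ¬ 8 ∣ Nat.card G)
    (h3 : 3 ∈ π) : False := by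
  classical
  obtain ⟨k, hp, hk⟩ := FiniteField.card F (ringChar F)
  haveI : Fact (ringChar F).Prime := ⟨hp⟩
  have hp2 : ringChar F ≠ 2 := fun h => by
    rw [hk, h] at hodd
    exact absurd hodd (Nat.not_odd_iff_even.2 (Nat.even_pow.2 ⟨even_two, k.pos.ne'⟩))
  have h20 : (2 : F) ≠ 0 := Ring.two_ne_zero hp2
  have hne1 : ∀ {g : Matrix.ProjectiveSpecialLinearGroup (Fin 2) F}, g ≠ 1 → e.symm g ≠ 1 :=
    fun h h' => h (by simpa using congrArg e h')
  by_cases hq3 : ringChar F = 3
  · -- a torus element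
    have hmod := HalfClasses.mod_eight_of_not_dvd hodd (by rwa [← Nat.card_congr e.toEquiv])
    obtain ⟨r, hr, hr2, hrd⟩ : ∃ r, r.Prime ∧ r ≠ 2 ∧ r ∣ Fintype.card F - 1 := by
      by_contra hcon
      push Not at hcon
      have hpow : Fintype.card F - 1 = 2 ^ (Fintype.card F - 1).primeFactorsList.length :=
        Nat.eq_prime_pow_of_unique_prime_dvd (by omega) fun {d} hd hdd =>
          by_contra fun h => hcon d hd h hdd
      rw [hk, hq3] at hq hmod hpow
      rcases h : (3 ^ (k : ℕ) - 1).primeFactorsList.length with _ | _ | _ | j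
      all_goals rw [h] at hpow
      · omega
      · omega
      · have : (3 : ℕ) ^ (k : ℕ) = 5 := by omega
        have h3d : 3 ∣ 3 ^ (k : ℕ) := dvd_pow_self 3 k.pos.ne'
        omega
      · have : 8 ∣ 3 ^ (k : ℕ) - 1 := ⟨2 ^ j, by rw [hpow]; ring⟩
        omega
    haveI : Fact r.Prime := ⟨hr⟩
    obtain ⟨s, hs⟩ := exists_prime_orderOf_dvd_card' (G := Fˣ) r
      (by rwa [Nat.card_eq_fintype_card, Fintype.card_units])
    have hs2 : (s : F) * s ≠ 1 := fun h => by
      have : orderOf s ∣ 2 := orderOf_dvd_of_pow_eq_one (Units.ext (by simpa [pow_two] using h))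
      rw [hs] at this
      exact hr2 ((Nat.prime_dvd_prime_iff_eq hr Nat.prime_two).1 this)
    let d : SL(2, F) := ⟨!![(s : F), 0; 0, (↑s⁻¹ : F)], by simp [Matrix.det_fin_two]⟩
    have hd1 : toPSL d ≠ 1 := fun h => hs2 (by
      have h' := (toPSL_eq_one h).2.2
      simp [d] at h'
      nth_rw 2 [h']
      simp)
    have hdr : toPSL d ^ r = 1 := by
      have hpow : ∀ n : ℕ, ((d ^ n : SL(2, F)) : Matrix (Fin 2) (Fin 2) F) =
          !![(s : F) ^ n, 0; 0, (↑s⁻¹ : F) ^ n] := by
        intro n
        induction n with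
        | zero => ext i j; fin_cases i <;> fin_cases j <;> simp
        | succ n ih =>
          rw [pow_succ, Matrix.SpecialLinearGroup.coe_mul, ih]
          ext i j
          fin_cases i <;> fin_cases j <;>
            simp [d, Matrix.mul_apply, Fin.sum_univ_two, pow_succ]
      have hsr : (s : F) ^ r = 1 := by
        rw [← Units.val_pow_eq_pow_val, ← hs, pow_orderOf_eq_one, Units.val_one]
      rw [← map_pow, ← map_one toPSL]
      refine congrArg toPSL (Subtype.ext ?_)
      rw [hpow, Matrix.SpecialLinearGroup.coe_one, Units.val_inv_eq_inv_val, inv_pow, hsr]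
      ext i j; fin_cases i <;> fin_cases j <;> simp
    by_cases hrπ : r ∈ π
    · let w : SL(2, F) := ⟨!![0, 1; -1, 0], by simp [Matrix.det_fin_two]⟩
      have hwd : w * d = d⁻¹ * w := by
        rw [eq_inv_mul_iff_mul_eq]
        refine Subtype.ext ?_
        rw [Matrix.SpecialLinearGroup.coe_mul, Matrix.SpecialLinearGroup.coe_mul]
        ext i j
        fin_cases i <;> fin_cases j <;> simp [w, d, Matrix.mul_apply, Fin.sum_univ_two]
      refine hG.false_of_inverted (s := e.symm (toPSL w)) (x := e.symm (toPSL d)) ?_ hr hr2 hrπ ?_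
        (hne1 hd1) ?_
      · rw [← map_mul, toPSL_mul_self (by simp [w]), map_one]
      · rw [← map_pow, hdr, map_one]
      · rw [← map_inv e.symm, ← map_inv e.symm (toPSL d), ← map_mul, ← map_mul]
        refine congrArg e.symm ?_
        rw [mul_inv_eq_iff_eq_mul, ← map_inv, ← map_mul, ← map_mul, hwd]
    · let uf : Multiplicative F →* Matrix.ProjectiveSpecialLinearGroup (Fin 2) F :=
        toPSL.comp unip
      let ug : Multiplicative F →* G := e.symm.toMonoidHom.comp uf
      have hrel : ∀ x : F, toPSL d * uf (Multiplicative.ofAdd x) * (toPSL d)⁻¹ =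
          uf (Multiplicative.ofAdd ((s : F) * s * x)) := by
        intro x
        rw [mul_inv_eq_iff_eq_mul]
        simp only [uf, MonoidHom.comp_apply]
        rw [← map_mul, ← map_mul]
        refine congrArg toPSL (Subtype.ext ?_)
        rw [Matrix.SpecialLinearGroup.coe_mul, Matrix.SpecialLinearGroup.coe_mul]
        ext i j
        fin_cases i <;> fin_cases j <;> simp [d, coe_unip, Matrix.mul_apply, Fin.sum_univ_two]
        field_simp
      set a := e.symm (toPSL d) with ha
      have hrelG : ∀ x : F, a * ug (Multiplicative.ofAdd x) * a⁻¹ =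
          ug (Multiplicative.ofAdd ((s : F) * s * x)) := fun x => by
        simp only [ug, MonoidHom.comp_apply, MulEquiv.coe_toMonoidHom, ha]
        rw [← map_mul, ← map_inv, ← map_mul, hrel]
      have hn : a ∈ Subgroup.normalizer (ug.range : Set G) := by
        refine Subgroup.mem_normalizer_iff.2 fun y => ⟨?_, ?_⟩
        · rintro ⟨x, rfl⟩
          exact ⟨_, (hrelG x.toAdd).symm⟩
        · rintro ⟨x, hx⟩
          refine ⟨Multiplicative.ofAdd (x.toAdd / ((s : F) * s)), ?_⟩
          have h := hrelG (x.toAdd / ((s : F) * s))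
          rw [mul_div_cancel₀ _ (mul_ne_zero s.ne_zero s.ne_zero), ofAdd_toAdd, hx] at h
          exact mul_left_cancel (mul_right_cancel h)
      have hU : PiNum π (Nat.card ug.range) := by
        refine piNum_of_dvd ?_ (Subgroup.card_range_dvd ug)
        rw [Nat.card_congr Multiplicative.toAdd, Nat.card_eq_fintype_card, hk, hq3]
        exact piNum_prime_pow Nat.prime_three h3 _
      have hao : PiNum πᶜ (orderOf a) := by
        have h1 : orderOf a ∣ r ^ 1 := by
          rw [pow_one]; exact orderOf_dvd_of_pow_eq_one (by rw [ha, ← map_pow, hdr, map_one])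
        exact piNum_of_dvd (piNum_prime_pow hr hrπ 1) h1
      have hc := hG.commute hU hn hao (x := ug (Multiplicative.ofAdd 1)) ⟨_, rfl⟩
      have h := hrelG 1
      rw [hc, mul_inv_cancel_right, mul_one] at h
      simp only [ug, MonoidHom.comp_apply, MulEquiv.coe_toMonoidHom] at h
      have h' := e.symm.injective h
      rw [← div_eq_one, ← map_div, ← ofAdd_sub] at h'
      have h01 := (toPSL_eq_one (g := unip (Multiplicative.ofAdd (1 - (s : F) * s))) h').1
      rw [coe_unip] at h01
      simp at h01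
      exact hs2 (sub_eq_zero.1 h01).symm
  · -- an element of order three
    have h30 : (3 : F) ≠ 0 := fun h => by
      have h' : ringChar F ∣ 3 := (ringChar.spec F 3).1 (by exact_mod_cast h)
      rcases (Nat.dvd_prime Nat.prime_three).1 h' with h1 | h1
      · exact hp.ne_one h1
      · exact hq3 h1
    obtain ⟨x₀, c, hxc⟩ : ∃ a b : F, a ^ 2 + 4 + 3 * b ^ 2 = 0 := by
      obtain ⟨a, b, hab⟩ := FiniteField.exists_root_sum_quadratic (R := F)
        (f := Polynomial.X ^ 2 + Polynomial.C 4) (g := Polynomial.C 3 * Polynomial.X ^ 2)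
        (Polynomial.degree_X_pow_add_C two_pos 4) (Polynomial.degree_C_mul_X_pow 2 h30)
        (Nat.odd_iff.1 hodd)
      exact ⟨a, b, by simpa using hab⟩
    set a := (x₀ + c) / 2 with ha
    have h2a : 2 * a = x₀ + c := by rw [ha]; field_simp
    let y : SL(2, F) := ⟨!![0, -1; 1, -1], by simp [Matrix.det_fin_two]⟩
    have hdet : -(a * a) - (c - a) * c = 1 := by
      refine mul_left_cancel₀ (mul_ne_zero h20 h20) ?_
      linear_combination (-1 : F) * hxc + (-(2 * a) - x₀ + c) * h2a
    let w : SL(2, F) := ⟨!![a, c - a; c, -a], by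
      rw [Matrix.det_fin_two]; simp; linear_combination hdet⟩
    have hy3 : y ^ 3 = 1 := Subtype.ext (by
      rw [pow_succ, pow_two, Matrix.SpecialLinearGroup.coe_mul, Matrix.SpecialLinearGroup.coe_mul]
      ext i j
      fin_cases i <;> fin_cases j <;> simp [y, Matrix.mul_apply, Fin.sum_univ_two])
    have hy1 : toPSL y ≠ 1 := fun h => by
      have := (toPSL_eq_one h).2.1
      simp [y] at this
    have hwy : w * y = y⁻¹ * w := by
      rw [eq_inv_mul_iff_mul_eq]
      refine Subtype.ext ?_
      rw [Matrix.SpecialLinearGroup.coe_mul, Matrix.SpecialLinearGroup.coe_mul]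
      ext i j
      fin_cases i <;> fin_cases j <;> simp [w, y, Matrix.mul_apply, Fin.sum_univ_two] <;> ring
    refine hG.false_of_inverted (s := e.symm (toPSL w)) (x := e.symm (toPSL y)) ?_ Nat.prime_three
      (by norm_num) h3 ?_ (hne1 hy1) ?_
    · rw [← map_mul, toPSL_mul_self (by simp [w]), map_one]
    · rw [← map_pow, ← map_pow, hy3, map_one, map_one]
    · rw [← map_inv e.symm, ← map_inv e.symm (toPSL y), ← map_mul, ← map_mul]
      refine congrArg e.symm ?_
      rw [mul_inv_eq_iff_eq_mul, ← map_inv, ← map_mul, ← map_mul, hwy]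

end CfsgLib.PiHomTwo
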