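import Cfsg.Agent.PiHomogeneousTwo.UFourBlock
import Cfsg.Agent.PiHomogeneousTwo.Klein
import Cfsg.Agent.S0516
import Cfsg.Agent.UThreeSylow.Structure

/-!
# No minimal group exists

`PiHomTwo.iff_of_gw` is the statement S3258, given the Gorenstein–Walter theorem for simple groups.
-/

set_option autoImplicit false
set_option linter.style.haveILetI false
set_option linter.unusedSectionVars false

namespace CfsgLib.PiHomTwo

open Cfsg CfsgLib.GroupBasics

universe u

/-- The Sylow 2-subgroup of `PSU(3,4)` has the properties used. -/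
theorem udata_of_equiv {P : Type u} [Group P] [Finite P] {F : Type} [Field F] [Fintype F]
    (h : UThreeSylow.Good F 2 4) (e : UThreeSylow.uSub h ≃* P) : UData P := by
  open UThreeSylow in
  have hc : ∀ y : P, y ∈ Subgroup.center P ↔ cA (e.symm y) = 0 := by
    intro y
    rw [← UThreeSylow.mem_center_iff, Subgroup.mem_center_iff, Subgroup.mem_center_iff]
    constructor
    · intro hy g
      exact e.injective (by simpa using hy (e g))
    · intro hy g
      simpa using congrArg e (hy (e.symm g))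
  refine ⟨?_, ?_, fun x hx => (hc x).2 (UThreeSylow.sq_eq_one_iff.1 ?_),
    fun z hz => ?_, fun x => (hc _).2 ?_, fun x hx z hz => ?_⟩
  · rw [← Nat.card_congr e.toEquiv, UThreeSylow.card_uSub h]; norm_num
  · rw [← Nat.card_congr (Subgroup.centerCongr e).toEquiv, UThreeSylow.card_center h]
  · rw [← map_mul, hx, map_one]
  · have := UThreeSylow.sq_eq_one_iff.2 ((hc z).1 hz)
    rw [← map_mul] at this
    simpa using congrArg e this
  · rw [map_mul]; exact (UThreeSylow.coords_sq _).1
  · -- the commutator map is onto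
    set g := e.symm x with hg
    set a := UThreeSylow.cA g with ha
    have ha0 : a ≠ 0 := fun h0 => hx ((hc x).2 h0)
    set zc := e.symm z with hzc
    have hzA : UThreeSylow.cA zc = 0 := (hc z).1 hz
    have hzB : UThreeSylow.cB zc ^ 4 = UThreeSylow.cB zc := by
      obtain ⟨hk, -⟩ := UThreeSylow.zEl_cB hzA
      exact (UThreeSylow.mem_trace_ker h).1 hk
    obtain ⟨ω, hω⟩ := UThreeSylow.exists_trace h hzB
    set g' := UThreeSylow.gA h (ω / a ^ 4) with hg'
    have hmul : g' * g = zc * (g * g') := by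
      refine UThreeSylow.coords_ext ?_ ?_
      · rw [(UThreeSylow.coords_mul _ _).1, (UThreeSylow.coords_mul _ _).1,
          (UThreeSylow.coords_mul _ _).1, hzA, zero_add, add_comm]
      · rw [(UThreeSylow.coords_mul _ _).2, (UThreeSylow.coords_mul _ _).2,
          (UThreeSylow.coords_mul _ _).2, hzA, UThreeSylow.cA_gA, ← ha, div_pow,
          ← pow_mul a 4 4, show a ^ (4 * 4) = a by rw [pow_mul]; exact h.conj_conj a,
          div_mul_cancel₀ _ ha0, mul_div_cancel₀ _ (pow_ne_zero 4 ha0), zero_pow (by norm_num),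
          zero_mul, add_zero]
        linear_combination hω - ω * h.two
    refine ⟨e g', ?_⟩
    rw [mul_inv_eq_iff_eq_mul]
    refine e.symm.injective ?_
    simp only [map_mul, e.symm_apply_apply, ← hg, ← hzc]
    rw [hmul, mul_assoc]

variable {π : Set ℕ}

/-- No minimal group exists. -/
theorem Minimal.false_of_gw (hGW : ∀ m, GW.SimpleHyp.{u} m) {G : Type u} [Group G] [Finite G]
    (hM : Minimal π G) : False := by
  classical
  haveI : Fact (Nat.Prime 2) := ⟨Nat.prime_two⟩
  obtain ⟨S⟩ : Nonempty (Sylow 2 G) := inferInstance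
  let V : Subgroup G :=
    { carrier := {x | x ∈ (S : Subgroup G) ∧ x * x = 1 ∧ ∀ s ∈ (S : Subgroup G), s * x = x * s}
      one_mem' := ⟨one_mem _, one_mul 1, fun s _ => by rw [mul_one, one_mul]⟩
      mul_mem' := by
        rintro a b ⟨ha, ha2, hac⟩ ⟨hb, hb2, hbc⟩
        refine ⟨mul_mem ha hb, ?_, fun s hs => by rw [← mul_assoc, hac s hs, mul_assoc, hbc s hs, ← mul_assoc]⟩
        rw [Commute.mul_mul_mul_comm (hac b hb), ha2, hb2, one_mul]
      inv_mem' := by
        rintro a ⟨ha, ha2, hac⟩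
        rw [show a⁻¹ = a from inv_eq_of_mul_eq_one_right ha2]
        exact ⟨ha, ha2, hac⟩ }
  have hV : CentralInvols S V := fun x => Iff.rfl
  have hVel : Cfsg.IsElementaryAbelian 2 V :=
    ⟨⟨⟨fun a b => Subtype.ext (((hV _).1 b.2).2.2 a ((hV _).1 a.2).1)⟩⟩,
      fun a ha => by rw [pow_two]; exact ((hV a).1 ha).2.1⟩
  have hVp : IsPGroup 2 V := S.2.to_le fun x hx => ((hV x).1 hx).1
  obtain ⟨z, hz, hz1⟩ : ∃ z ∈ V, z ≠ 1 := by
    haveI : Nontrivial (S : Subgroup G) :=
      (Subgroup.nontrivial_iff_ne_bot _).2 (hM.sylow_ne_bot S)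
    haveI := S.2.center_nontrivial
    obtain ⟨m, hm⟩ := IsPGroup.iff_card.1 (S.2.to_subgroup (Subgroup.center (S : Subgroup G)))
    have h1 : 1 < Nat.card (Subgroup.center (S : Subgroup G)) := Finite.one_lt_card
    obtain ⟨c, hc⟩ := exists_prime_orderOf_dvd_card' (G := Subgroup.center (S : Subgroup G)) 2
      (hm ▸ dvd_pow_self 2 fun h0 => by rw [hm, h0] at h1; norm_num at h1)
    have hc2 : (c : G) * (c : G) = 1 := by
      have h := pow_orderOf_eq_one c
      rw [hc, pow_two] at h
      exact congrArg (fun t : Subgroup.center (S : Subgroup G) => ((t : (S : Subgroup G)) : G)) h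
    refine ⟨c, ⟨(c : (S : Subgroup G)).2, hc2,
      fun s hs => congrArg Subtype.val (Subgroup.mem_center_iff.1 c.2 ⟨s, hs⟩)⟩, fun h => ?_⟩
    rw [← orderOf_eq_one_iff, Subgroup.orderOf_coe, Subgroup.orderOf_coe, hc] at h
    norm_num at h
  obtain ⟨r, hr⟩ := IsPGroup.iff_card.1 hVp
  -- at least four central involutions
  have h4 : 4 ≤ Nat.card V := by
    rcases r with _ | _ | r
    · have hb : V = ⊥ := Subgroup.card_eq_one.1 hr
      exact absurd (Subgroup.mem_bot.1 (hb ▸ hz)) hz1
    · exfalso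
      obtain ⟨n, hn, hnz⟩ := hM.exists_moving S ((hV z).1 hz).1 (hV.nontriv hz hz1)
      haveI := Fintype.ofFinite V
      have hcard := Finset.card_le_univ
        ({(1 : V), ⟨z, hz⟩, ⟨n * z * n⁻¹, hV.conj hn hz⟩} : Finset V)
      have hne : n * z * n⁻¹ ≠ 1 := fun h => hz1 (conj_eq_one_iff.1 h)
      rw [← Nat.card_eq_fintype_card, hr,
        Finset.card_insert_of_notMem (by simp [← Subtype.val_inj, Ne.symm hz1, Ne.symm hne]),
        Finset.card_insert_of_notMem (by simp [← Subtype.val_inj, Ne.symm hnz]),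
        Finset.card_singleton] at hcard
      norm_num at hcard
    · rw [hr, pow_succ, pow_succ]
      have : 0 < 2 ^ r := by positivity
      omega
  -- no more
  by_cases h8 : 8 ≤ Nat.card V
  · exact hM.false_of_three S V V hV h4 hVel h8 le_rfl
  have hV4 : Nat.card V = 4 := by
    rcases r with _ | _ | _ | r
    · rw [hr] at h4; norm_num at h4
    · rw [hr] at h4; norm_num at h4
    · rw [hr]; norm_num
    · refine absurd ?_ h8
      rw [hr, pow_succ, pow_succ, pow_succ]
      have : 0 < 2 ^ r := by positivity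
      omega
  by_cases hout : ∃ t ∈ (S : Subgroup G), t * t = 1 ∧ t ∉ V
  · obtain ⟨t, htS, ht2, htV⟩ := hout
    have ht1 : t ≠ 1 := fun h => htV (h ▸ one_mem V)
    have hto : orderOf t = 2 := orderOf_eq_prime (by rwa [pow_two]) ht1
    have hcom : ∀ v ∈ V, t * v = v * t := fun v hv => ((hV v).1 hv).2.2 t htS
    have hn : Subgroup.zpowers t ≤ Subgroup.normalizer (V : Set G) :=
      Subgroup.zpowers_le.2 (Subgroup.mem_normalizer_iff.2 fun y =>
        ⟨fun hy => by rw [hcom y hy, mul_inv_cancel_right]; exact hy, fun hy => by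
          have h := hcom _ hy
          have e : y = t * y * t⁻¹ := by
            calc y = t⁻¹ * (t * y * t⁻¹ * t) := by group
              _ = t⁻¹ * (t * (t * y * t⁻¹)) := by rw [h]
              _ = t * y * t⁻¹ := by group
          exact e ▸ hy⟩)
    have hdisj : V ⊓ Subgroup.zpowers t = ⊥ := by
      refine eq_bot_iff.2 fun y hy => ?_
      rw [Subgroup.mem_inf] at hy
      obtain ⟨j, rfl⟩ := Subgroup.mem_zpowers_iff.1 hy.2
      rcases Int.even_or_odd j with ⟨i, rfl⟩ | ⟨i, rfl⟩
      · rw [Subgroup.mem_bot, ← two_mul, zpow_mul, zpow_two, ht2, one_zpow]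
      · refine absurd ?_ htV
        have h := hy.1
        rwa [zpow_add, zpow_mul, zpow_two, ht2, one_zpow, one_mul, zpow_one] at h
    refine hM.false_of_three S V (V ⊔ Subgroup.zpowers t) hV h4 ⟨⟨⟨fun a b => ?_⟩⟩, fun a ha => ?_⟩
      (by rw [Coprime.card_sup_eq hn hdisj, Nat.card_zpowers, hto, hV4]) le_sup_left
    · obtain ⟨v, hv, x, hx, hax⟩ := Coprime.exists_mul_of_mem_sup hn a.2
      obtain ⟨w, hw, y, hy, hby⟩ := Coprime.exists_mul_of_mem_sup hn b.2
      have hxS : x ∈ (S : Subgroup G) := Subgroup.zpowers_le.2 htS hx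
      have hyS : y ∈ (S : Subgroup G) := Subgroup.zpowers_le.2 htS hy
      have c1 : Commute v w := (((hV v).1 hv).2.2 w ((hV w).1 hw).1).symm
      have c2 : Commute v y := (((hV v).1 hv).2.2 y hyS).symm
      have c3 : Commute x w := ((hV w).1 hw).2.2 x hxS
      have c4 : Commute x y := by
        obtain ⟨i, rfl⟩ := Subgroup.mem_zpowers_iff.1 hx
        obtain ⟨j, rfl⟩ := Subgroup.mem_zpowers_iff.1 hy
        exact (Commute.refl t).zpow_zpow i j
      apply Subtype.ext
      show (a : G) * b = b * a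
      rw [← hax, ← hby]
      exact (c1.mul_right c2).mul_left (c3.mul_right c4)
    · obtain ⟨v, hv, x, hx, rfl⟩ := Coprime.exists_mul_of_mem_sup hn ha
      have hxS : x ∈ (S : Subgroup G) := Subgroup.zpowers_le.2 htS hx
      have c2 : Commute v x := (((hV v).1 hv).2.2 x hxS).symm
      rw [c2.mul_pow, hVel.2 v hv, one_mul]
      obtain ⟨i, rfl⟩ := Subgroup.mem_zpowers_iff.1 hx
      rw [← zpow_natCast, ← zpow_mul, mul_comm, zpow_mul, zpow_natCast, pow_two, ht2, one_zpow]
  push Not at hout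
  -- rank two
  have hrank : Cfsg.PRankLE 2 2 G := by
    intro A hAc hA
    have hp : IsPGroup 2 A := fun a => ⟨1, Subtype.ext (by simpa using hA a a.2)⟩
    obtain ⟨S', hS'⟩ := hp.exists_le_sylow
    obtain ⟨c, rfl⟩ := MulAction.exists_smul_eq G S S'
    refine le_trans (Nat.card_le_card_of_injective (fun a : A => (⟨c⁻¹ * a * c, ?_⟩ : V))
      fun a b h => Subtype.ext (by simpa using congrArg Subtype.val h)) (by rw [hV4]; norm_num)
    refine hout _ ?_ ?_
    · have := hS' a.2
      rwa [Sylow.coe_subgroup_smul, Coprime.mem_conj_smul] at this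
    · rw [show c⁻¹ * (a : G) * c * (c⁻¹ * a * c) = c⁻¹ * ((a : G) * a) * c by group,
        ← pow_two, hA a a.2]
      group
  have hinv : ∀ x : (S : Subgroup G), x * x = 1 → ∀ y, y * x = x * y := fun x hx y =>
    Subtype.ext (((hV _).1 (hout x x.2 (congrArg Subtype.val hx))).2.2 y y.2)
  haveI := hM.simple
  let F := GaloisField 2 4
  haveI : Fintype F := Fintype.ofFinite F
  have hF : Fintype.card F = 16 := by
    rw [← Nat.card_eq_fintype_card, GaloisField.card 2 4 (by norm_num)]; norm_num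
  obtain ⟨P⟩ : Nonempty (Sylow 2 (Cfsg.PSU 3 F 4)) := inferInstance
  rcases Cfsg.Agent.S0516.result hM.nonabelian hrank S hF P with ⟨n, hn, ⟨e⟩⟩ | hQ | hW | ⟨⟨e⟩⟩
  · rcases (show n = 2 ∨ 3 ≤ n by omega) with rfl | h3
    · -- a four-group
      have hcS : Nat.card (S : Subgroup G) = 4 := by
        rw [Nat.card_congr e.toEquiv, DihedralGroup.nat_card]
      obtain ⟨h3π, -⟩ := hM.exists_three hV hV4
      have h8 : ¬ 8 ∣ Nat.card G := fun h => by
        have := S.pow_dvd_card_of_pow_dvd_card (n := 3) h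
        rw [hcS] at this
        norm_num at this
      rcases hGW (Nat.card G) G hM.simple le_rfl S 2 le_rfl ⟨e⟩ with
        ⟨F', _, _, hodd, hq, ⟨e'⟩⟩ | ⟨e'⟩
      · exact false_of_psl_two hM.toHyp e' hodd hq h8 h3π
      · refine h8 ?_
        obtain ⟨e'⟩ := e'
        rw [Nat.card_congr e'.toEquiv, nat_card_alternatingGroup, Nat.card_fin]
        decide
    · -- noncommuting
      haveI : Fact (2 < n) := ⟨h3⟩
      have h := hinv (e.symm (DihedralGroup.sr 0)) (by rw [← map_mul, DihedralGroup.sr_mul_self, map_one])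
        (e.symm (DihedralGroup.r 1))
      rw [← map_mul, ← map_mul, e.symm.injective.eq_iff, DihedralGroup.r_mul_sr,
        DihedralGroup.sr_mul_r, DihedralGroup.sr.injEq, zero_sub, zero_add] at h
      exact ZMod.neg_one_ne_one h
  · obtain ⟨n, hn, -, x, y, hx, hy, hxy⟩ := hQ
    have h := hinv y (by
      have h' := pow_orderOf_eq_one y
      rwa [hy, pow_two] at h') x
    rw [← h, mul_inv_cancel_right] at hxy
    have h2 := (pow_eq_pow_iff_modEq (x := x) (m := 1) (n := 2 ^ (n - 1) - 1)).1 (by rw [pow_one]; exact hxy.symm)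
    rw [hx] at h2
    obtain ⟨n, rfl⟩ : ∃ k, n = k + 3 := ⟨n - 3, by omega⟩
    rw [show n + 3 - 1 = n + 2 by omega] at h2
    have h5 : 2 ^ (n + 3) = 2 ^ (n + 2) * 2 := pow_succ 2 (n + 2)
    have h6 : 0 < 2 ^ (n + 2) := by positivity
    have hlt : 2 ^ (n + 2) - 1 < 2 ^ (n + 3) := by omega
    have h1 : 1 < 2 ^ (n + 3) := Nat.one_lt_pow (by omega) one_lt_two
    have h4 : 2 ^ 2 ≤ 2 ^ (n + 2) := Nat.pow_le_pow_right two_pos (by omega)
    unfold Nat.ModEq at h2
    rw [Nat.mod_eq_of_lt hlt, Nat.mod_eq_of_lt h1] at h2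
    norm_num at h4
    omega
  · obtain ⟨n, hn, -, x, y, w, hx, -, hdis, hw, hwx⟩ := hW
    have h := hinv w (by
      have h' := pow_orderOf_eq_one w
      rwa [hw, pow_two] at h') x
    rw [← h, mul_inv_cancel_right] at hwx
    rw [← hwx, inf_idem, Subgroup.zpowers_eq_bot] at hdis
    rw [hdis, orderOf_one] at hx
    exact absurd hx (Nat.one_lt_pow (by omega) one_lt_two).ne
  · have hgood : UThreeSylow.Good F 2 4 := ⟨by norm_num, by norm_num, by rw [hF]; norm_num⟩
    obtain ⟨e₀⟩ := UThreeSylow.nonempty_equiv_sylow_PSU hgood P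
    exact hM.false_of_udata S (udata_of_equiv hgood (e₀.trans e.symm))

/-- **The theorem, given Gorenstein–Walter.** -/
theorem iff_of_gw (hGW : ∀ m, GW.SimpleHyp.{u} m) {G : Type u} [Group G] [Finite G] (π : Set ℕ)
    (h2 : 2 ∈ π)
    (hcl : ∀ H : Subgroup G, (∀ p : ℕ, p.Prime → p ∣ Nat.card ↥H → p ∈ π) →
      ∀ P : Sylow 2 ↥H, (P : Subgroup ↥H).Normal) :
    (∃ K : Subgroup G, ∀ x : G, x ∈ K ↔ ∀ p : ℕ, p.Prime → p ∣ orderOf x → p ∉ π) ↔
      (∀ H : Subgroup G, H ≠ ⊥ → (∀ p : ℕ, p.Prime → p ∣ Nat.card ↥H → p ∈ π) →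
        ∀ p : ℕ, p.Prime → p ∣ (Subgroup.centralizer (H : Set G)).relIndex
          (Subgroup.normalizer (H : Set G)) → p ∈ π) :=
  iff_of_minimal (fun _ _ _ hX => hX.false_of_gw hGW) h2 hcl

end CfsgLib.PiHomTwo
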