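import Cfsg.Agent.PiHomogeneousTwo.Basic
import Cfsg.Agent.Coprime.Basic
import Cfsg.Agent.Small.BaerSuzuki

/-!
# Proper subgroups of a minimal group

Every proper subgroup is `core · H`, with `core` the subgroup of `π'`-elements and `H` a Hall
`π`-subgroup, which is 2-closed.  The normalizer of a Sylow 2-subgroup controls fusion of
2-subgroups, and every `π`-subgroup of even order normalizes some Sylow 2-subgroup.
-/

set_option autoImplicit false
set_option linter.style.haveILetI false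
set_option linter.unusedSectionVars false

namespace CfsgLib.PiHomTwo

open CfsgLib.GroupBasics
open scoped Pointwise

universe u

variable {π : Set ℕ} {G : Type u} [Group G]

/-- The subgroup generated by the `π'`-elements of `X`. -/
def core (π : Set ℕ) (X : Subgroup G) : Subgroup G :=
  Subgroup.closure {x | x ∈ X ∧ PiNum πᶜ (orderOf x)}

theorem core_le (X : Subgroup G) : core π X ≤ X :=
  (Subgroup.closure_le X).2 fun _ hx => hx.1

/-- `H` is a Hall `π`-subgroup complementing the core of `X`. -/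
structure IsHallIn (π : Set ℕ) (H X : Subgroup G) : Prop where
  le : H ≤ X
  piNum : PiNum π (Nat.card H)
  mul : ∀ x ∈ X, ∃ k ∈ core π X, ∃ h ∈ H, x = k * h

theorem orderOf_conj (g x : G) : orderOf (g * x * g⁻¹) = orderOf x :=
  orderOf_injective (MulAut.conj g).toMonoidHom (MulAut.conj g).injective x

variable [Finite G]

/-- An element normalizing a `π`-subgroup, of `π'`-order, centralizes it. -/
theorem Hyp.commute (hG : Hyp π G) {H : Subgroup G} (hH : PiNum π (Nat.card H)) {a : G}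
    (ha : a ∈ Subgroup.normalizer (H : Set G)) (hao : PiNum πᶜ (orderOf a)) {x : G} (hx : x ∈ H) :
    a * x = x * a :=
  (Subgroup.mem_centralizer_iff.1
    (hG.homog H (fun p hp hd h => h (hH p hp hd)) a ha hao) x hx).symm

/-- The normal Sylow 2-subgroup of a `π`-subgroup. -/
theorem Hyp.exists_normal_two (hG : Hyp π G) {X : Subgroup G} (hX : PiNum π (Nat.card X)) :
    ∃ T : Subgroup G, T ≤ X ∧ IsPGroup 2 T ∧ X ≤ Subgroup.normalizer (T : Set G) ∧
      ¬ 2 ∣ T.relIndex X ∧ ∀ U ≤ X, IsPGroup 2 U → U ≤ T := by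
  haveI : Fact (Nat.Prime 2) := ⟨Nat.prime_two⟩
  obtain ⟨P⟩ : Nonempty (Sylow 2 X) := inferInstance
  haveI := hG.closed X hX P
  refine ⟨(P : Subgroup X).map X.subtype, Subgroup.map_subtype_le _, P.2.map _, ?_, ?_, ?_⟩
  · intro x hx
    exact Subgroup.le_normalizer_map X.subtype
      ⟨⟨x, hx⟩, by rw [Subgroup.normalizer_eq_top]; exact Subgroup.mem_top _, rfl⟩
  · rw [Subgroup.relIndex, Subgroup.subgroupOf, Subgroup.comap_map_eq_self_of_injective
      X.subtype_injective]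
    exact P.not_dvd_index
  · intro U hU hU2
    have h2 : IsPGroup 2 (U.subgroupOf X) :=
      hU2.of_equiv (Subgroup.subgroupOfEquivOfLe hU).symm
    obtain ⟨Q, hQ⟩ := h2.exists_le_sylow
    have hQP : Q = P := by
      obtain ⟨g, hg⟩ := MulAction.exists_smul_eq X P Q
      rw [← hg, Sylow.smul_eq_of_normal]
    intro u hu
    exact ⟨⟨u, hU hu⟩, hQP ▸ hQ (show (⟨u, hU hu⟩ : X) ∈ U.subgroupOf X from hu), rfl⟩

theorem card_eq_of_normal_two {X T : Subgroup G} (hT : IsPGroup 2 T)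
    (h2 : ¬ 2 ∣ T.relIndex X) (hTX : T ≤ X) {k : ℕ} (hk : 2 ^ k ∣ Nat.card X) :
    2 ^ k ∣ Nat.card T := by
  have h : T.relIndex X * Nat.card T = Nat.card X := by
    rw [← Subgroup.relIndex_bot_left T, ← Subgroup.relIndex_bot_left X, mul_comm,
      Subgroup.relIndex_mul_relIndex _ _ _ bot_le hTX]
  rw [← h] at hk
  exact Nat.Coprime.dvd_of_dvd_mul_left (Nat.Coprime.pow_left k
    (Nat.prime_two.coprime_iff_not_dvd.2 h2)) hk

/-- A 2-element normalizing a `π`-subgroup of odd order centralizes it. -/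
theorem Hyp.commute_two (hG : Hyp π G) {E : Subgroup G} (hE : PiNum π (Nat.card E))
    (hodd : Odd (Nat.card E)) {s : G} {k : ℕ} (hs : orderOf s = 2 ^ k)
    (hn : s ∈ Subgroup.normalizer (E : Set G)) {x : G} (hx : x ∈ E) : s * x = x * s := by
  haveI : Fact (Nat.Prime 2) := ⟨Nat.prime_two⟩
  set Z := Subgroup.zpowers s with hZ
  have hZn : Z ≤ Subgroup.normalizer (E : Set G) := Subgroup.zpowers_le.2 hn
  have hdisj : E ⊓ Z = ⊥ := CfsgLib.Coprime.inf_eq_bot_of_coprime (by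
    rw [hZ, Nat.card_zpowers, hs]
    exact (Nat.coprime_two_right.2 hodd).pow_right k)
  have hcard : Nat.card ↥(E ⊔ Z) = Nat.card E * 2 ^ k := by
    rw [CfsgLib.Coprime.card_sup_eq hZn hdisj, hZ, Nat.card_zpowers, hs]
  obtain ⟨T, hTX, hT, hTn, hT2, hTmax⟩ := hG.exists_normal_two
    (X := E ⊔ Z) (hcard ▸ piNum_mul hE (piNum_two_pow hG.two k))
  have hZT : Z ≤ T := hTmax Z le_sup_right
    (IsPGroup.of_card (n := k) (by rw [hZ, Nat.card_zpowers, hs]))
  have hTE : E ⊓ T = ⊥ := by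
    obtain ⟨n, hn'⟩ := IsPGroup.iff_card.1 hT
    exact CfsgLib.Coprime.inf_eq_bot_of_coprime
      (hn' ▸ (Nat.coprime_two_right.2 hodd).pow_right n)
  have h1 : s * x * s⁻¹ * x⁻¹ ∈ E ⊓ T := by
    refine Subgroup.mem_inf.2 ⟨mul_mem ((Subgroup.mem_normalizer_iff.1 hn x).1 hx) (inv_mem hx), ?_⟩
    rw [show s * x * s⁻¹ * x⁻¹ = s * (x * s⁻¹ * x⁻¹) by group]
    have hsT : s ∈ T := hZT (Subgroup.mem_zpowers s)
    exact mul_mem hsT
      ((Subgroup.mem_normalizer_iff.1 (hTn (Subgroup.mem_sup_left hx)) _).1 (inv_mem hsT))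
  rw [hTE, Subgroup.mem_bot] at h1
  exact mul_inv_eq_iff_eq_mul.1 (mul_inv_eq_one.1 h1)

theorem card_lt_of_lt {A B : Subgroup G} (h : A < B) : Nat.card A < Nat.card B :=
  lt_of_le_of_ne (Subgroup.card_le_of_le h.le) fun he =>
    h.ne (Subgroup.eq_of_le_of_card_ge h.le he.ge)

namespace Minimal

variable (hM : Minimal π G)
include hM

theorem mem_core {X : Subgroup G} (hX : X ≠ ⊤) {x : G} :
    x ∈ core π X ↔ x ∈ X ∧ PiNum πᶜ (orderOf x) := by
  refine ⟨fun hx => ?_, fun h => Subgroup.subset_closure h⟩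
  obtain ⟨K, hK⟩ := hM.proper_closed X hX
  have hle : core π X ≤ K.map X.subtype := (Subgroup.closure_le _).2 fun y hy =>
    ⟨⟨y, hy.1⟩, (hK _).2 (by rw [Subgroup.orderOf_mk]; exact hy.2), rfl⟩
  obtain ⟨y, hy, rfl⟩ := hle hx
  exact ⟨y.2, by rw [Subgroup.coe_subtype, Subgroup.orderOf_coe]; exact (hK y).1 hy⟩

theorem piNum_core {X : Subgroup G} (hX : X ≠ ⊤) : PiNum πᶜ (Nat.card (core π X)) := by
  intro p hp hd
  haveI : Fact p.Prime := ⟨hp⟩
  obtain ⟨x, hx⟩ := exists_prime_orderOf_dvd_card' p hd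
  exact ((hM.mem_core hX).1 x.2).2 p hp (by rw [Subgroup.orderOf_coe, hx])

theorem odd_core {X : Subgroup G} (hX : X ≠ ⊤) : Odd (Nat.card (core π X)) :=
  odd_of_compl hM.two (hM.piNum_core hX)

theorem solvable_core {X : Subgroup G} (hX : X ≠ ⊤) : Group.IsSolvable (core π X) :=
  Cfsg.Agent.S0205.result (hM.odd_core hX)

theorem conj_core {X : Subgroup G} (hX : X ≠ ⊤) {g : G}
    (hg : g ∈ Subgroup.normalizer (X : Set G)) {x : G} (hx : x ∈ core π X) :
    g * x * g⁻¹ ∈ core π X :=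
  (hM.mem_core hX).2 ⟨(Subgroup.mem_normalizer_iff.1 hg x).1 ((hM.mem_core hX).1 hx).1,
    by rw [orderOf_conj]; exact ((hM.mem_core hX).1 hx).2⟩

theorem normalizer_core {X : Subgroup G} (hX : X ≠ ⊤) :
    Subgroup.normalizer (X : Set G) ≤ Subgroup.normalizer ((core π X : Subgroup G) : Set G) :=
  fun g hg => Subgroup.mem_normalizer_iff.2 fun x => ⟨hM.conj_core hX hg, fun h => by
    simpa [mul_assoc] using hM.conj_core hX (inv_mem hg) h⟩

/-- The `π'`-elements of a normalizer centralize a `π`-subgroup. -/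
theorem core_commute {X H : Subgroup G} (hX : X ≠ ⊤) (hH : PiNum π (Nat.card H))
    (hn : X ≤ Subgroup.normalizer (H : Set G)) {k : G} (hk : k ∈ core π X) {x : G} (hx : x ∈ H) :
    k * x = x * k :=
  hM.toHyp.commute hH (hn ((hM.mem_core hX).1 hk).1) ((hM.mem_core hX).1 hk).2 hx

theorem card_eq_one_of_inf {X H : Subgroup G} (hX : X ≠ ⊤) (hH : PiNum π (Nat.card H)) :
    core π X ⊓ H = ⊥ :=
  CfsgLib.Coprime.inf_eq_bot_of_coprime (coprime_compl hH (hM.piNum_core hX)).symm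

theorem exists_hall {X : Subgroup G} (hX : X ≠ ⊤) : ∃ H, IsHallIn π H X := by
  set N := (core π X).subgroupOf X
  haveI : N.Normal :=
    Subgroup.normal_subgroupOf_of_le_normalizer (Subgroup.le_normalizer.trans (hM.normalizer_core hX))
  have hidx : PiNum π N.index := by
    obtain ⟨K, hK⟩ := hM.proper_closed X hX
    have hKN : K = N := by
      ext y
      rw [hK, Subgroup.mem_subgroupOf, hM.mem_core hX, Subgroup.orderOf_coe]
      exact ⟨fun h => ⟨y.2, h⟩, fun h => h.2⟩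
    exact fun p hp hd => not_not.1 ((card_of_closed hK).2 p hp (hKN.symm ▸ hd))
  have hcN : Nat.card N = Nat.card (core π X) :=
    Nat.card_congr (Subgroup.subgroupOfEquivOfLe (core_le X)).toEquiv
  obtain ⟨B, hB⟩ := Subgroup.exists_right_complement'_of_coprime (N := N)
    (hcN ▸ (coprime_compl hidx (hM.piNum_core hX)).symm)
  refine ⟨B.map X.subtype, Subgroup.map_subtype_le _, ?_, fun x hx => ?_⟩
  · rw [Subgroup.card_map_of_injective X.subtype_injective, ← hB.symm.index_eq_card]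
    exact hidx
  · obtain ⟨⟨⟨n, hn⟩, ⟨b, hb⟩⟩, hnb⟩ := hB.2 ⟨x, hx⟩
    exact ⟨n, hn, b, ⟨b, hb, rfl⟩, (congrArg Subtype.val hnb).symm⟩

/-- A `π`-subgroup of `X` is conjugate under the core into any Hall subgroup. -/
theorem hall_conj {X H Y : Subgroup G} (hX : X ≠ ⊤) (hH : IsHallIn π H X) (hYX : Y ≤ X)
    (hY : PiNum π (Nat.card Y)) : ∃ k ∈ core π X, ∀ y ∈ Y, k * y * k⁻¹ ∈ H := by
  set N := (core π X).subgroupOf X
  haveI : N.Normal :=
    Subgroup.normal_subgroupOf_of_le_normalizer (Subgroup.le_normalizer.trans (hM.normalizer_core hX))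
  have hcN : Nat.card N = Nat.card (core π X) :=
    Nat.card_congr (Subgroup.subgroupOfEquivOfLe (core_le X)).toEquiv
  haveI : Group.IsSolvable (core π X) := hM.solvable_core hX
  have hNs : Group.IsSolvable N := Group.isSolvable_of_isSolvable_injective
    (f := (Subgroup.subgroupOfEquivOfLe (core_le X)).toMonoidHom)
    (Subgroup.subgroupOfEquivOfLe (core_le X)).injective
  have hcompl : Subgroup.IsComplement' N (H.subgroupOf X) := by
    refine Subgroup.isComplement'_of_disjoint_and_mul_eq_univ ?_ ?_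
    · rw [disjoint_iff, eq_bot_iff]
      rintro x ⟨hx1, hx2⟩
      have : (x : G) ∈ core π X ⊓ H := ⟨hx1, hx2⟩
      rw [hM.card_eq_one_of_inf hX hH.piNum, Subgroup.mem_bot] at this
      exact Subgroup.mem_bot.2 (Subtype.ext this)
    · refine Set.eq_univ_of_forall fun x => ?_
      obtain ⟨k, hk, h, hh, e⟩ := hH.mul x x.2
      exact Set.mem_mul.2 ⟨⟨k, core_le X hk⟩, hk, ⟨h, hH.le hh⟩, hh, Subtype.ext e.symm⟩
  obtain ⟨n, hn, hle⟩ := Solvable.exists_conj_le_of_coprime (N := N) (H := H.subgroupOf X)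
    (U := Y.subgroupOf X) (Or.inl hNs) hcompl (by
      rw [Nat.card_congr (Subgroup.subgroupOfEquivOfLe hYX).toEquiv, hcN]
      exact coprime_compl hY (hM.piNum_core hX))
  refine ⟨n, hn, fun y hy => ?_⟩
  exact hle (Coprime.conj_mem_conj_smul (g := n) (x := (⟨y, hYX hy⟩ : X)) hy)

/-- Every `π`-subgroup of `X` lies in a Hall subgroup. -/
theorem exists_hall_ge {X Y : Subgroup G} (hX : X ≠ ⊤) (hYX : Y ≤ X)
    (hY : PiNum π (Nat.card Y)) : ∃ H, IsHallIn π H X ∧ Y ≤ H := by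
  obtain ⟨H, hH⟩ := hM.exists_hall hX
  obtain ⟨k, hk, hkY⟩ := hM.hall_conj hX hH hYX hY
  have hkX : k ∈ X := core_le X hk
  refine ⟨MulAut.conj k⁻¹ • H, ⟨Coprime.conj_smul_le_of_mem (inv_mem hkX) hH.le, ?_,
    fun x hx => ?_⟩, fun y hy => ?_⟩
  · rw [Coprime.card_conj_smul]; exact hH.piNum
  · obtain ⟨c, hc, h, hh, e⟩ := hH.mul (k * x * k⁻¹) (mul_mem (mul_mem hkX hx) (inv_mem hkX))
    refine ⟨k⁻¹ * c * k, ?_, k⁻¹ * h * k, by rw [Coprime.mem_conj_smul]; simpa [mul_assoc], ?_⟩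
    · simpa using hM.conj_core hX (Subgroup.le_normalizer (inv_mem hkX)) hc
    · rw [show x = k⁻¹ * (k * x * k⁻¹) * k by group, e]; group
  · rw [Coprime.mem_conj_smul, inv_inv]; exact hkY y hy

/-- The orders of a proper subgroup and its Hall subgroup. -/
theorem card_mul {X H : Subgroup G} (hX : X ≠ ⊤) (hH : IsHallIn π H X) :
    Nat.card X = Nat.card (core π X) * Nat.card H := by
  rw [← Coprime.card_sup_eq ((hH.le.trans Subgroup.le_normalizer).trans (hM.normalizer_core hX))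
    (hM.card_eq_one_of_inf hX hH.piNum)]
  rw [show core π X ⊔ H = X from le_antisymm (sup_le (core_le X) hH.le) fun x hx => by
    obtain ⟨k, hk, h, hh, rfl⟩ := hH.mul x hx
    exact Subgroup.mul_mem_sup hk hh]

theorem dvd_hall {X H : Subgroup G} (hX : X ≠ ⊤) (hH : IsHallIn π H X) {p : ℕ} (hp : p.Prime)
    (hpπ : p ∈ π) {k : ℕ} (hd : p ^ k ∣ Nat.card X) : p ^ k ∣ Nat.card H :=
  (coprime_compl (piNum_prime_pow hp hpπ k) (hM.piNum_core hX)).dvd_of_dvd_mul_left
    (hM.card_mul hX hH ▸ hd)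

theorem center_eq_bot : Subgroup.center G = ⊥ :=
  (hM.simple.eq_bot_or_eq_top_of_normal _ inferInstance).resolve_right fun h =>
    hM.nonabelian ⟨⟨fun a b => Subgroup.mem_center_iff.1 (h ▸ Subgroup.mem_top b) a⟩⟩

theorem centralizer_ne_top {x : G} (hx : x ≠ 1) : Subgroup.centralizer ({x} : Set G) ≠ ⊤ := by
  intro h
  refine hx (Subgroup.mem_bot.1 (hM.center_eq_bot ▸ Subgroup.mem_center_iff.2 fun g => ?_))
  exact Subgroup.mem_centralizer_singleton_iff.1 (h ▸ Subgroup.mem_top g)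

theorem ne_top_of_pi {H : Subgroup G} (hH : PiNum π (Nat.card H)) : H ≠ ⊤ := by
  rintro rfl
  rw [Subgroup.card_top] at hH
  exact hM.not_closed (piClosed_of_card (Or.inr fun p hp hd h => h (hH p hp hd)))

theorem ne_top_of_compl {K : Subgroup G} (hK : PiNum πᶜ (Nat.card K)) : K ≠ ⊤ := by
  rintro rfl
  rw [Subgroup.card_top] at hK
  exact hM.not_closed (piClosed_of_card (Or.inl hK))

theorem normalizer_ne_top {H : Subgroup G} (hH : PiNum π (Nat.card H)) (hb : H ≠ ⊥) :
    Subgroup.normalizer (H : Set G) ≠ ⊤ := fun h =>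
  ((hM.simple.eq_bot_or_eq_top_of_normal H (Subgroup.normalizer_eq_top_iff.1 h)).resolve_left hb
    |> hM.ne_top_of_pi hH)

theorem even_card : 2 ∣ Nat.card G := by
  by_contra h
  haveI := Cfsg.Agent.S0205.result (G := G) (Nat.not_even_iff_odd.1 fun he => h he.two_dvd)
  haveI := hM.simple
  exact hM.nonabelian ⟨⟨fun a b => IsSimpleGroup.comm_iff_isSolvable.2 ‹_› a b⟩⟩

theorem sylow_ne_bot (S : Sylow 2 G) : (S : Subgroup G) ≠ ⊥ := fun h => by
  haveI : Fact (Nat.Prime 2) := ⟨Nat.prime_two⟩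
  have h1 := S.not_dvd_index
  rw [h, Subgroup.index_bot] at h1
  exact h1 hM.even_card

theorem piNum_sylow (S : Sylow 2 G) : PiNum π (Nat.card (S : Subgroup G)) :=
  piNum_of_isPGroup_two hM.two S.2

/-- A `π`-subgroup of even order normalizes a Sylow 2-subgroup. -/
theorem exists_le_normalizer {X : Subgroup G} (hX : PiNum π (Nat.card X))
    (he : 2 ∣ Nat.card X) : ∃ S : Sylow 2 G, X ≤ Subgroup.normalizer ((S : Subgroup G) : Set G) := by
  haveI : Fact (Nat.Prime 2) := ⟨Nat.prime_two⟩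
  suffices H : ∀ n, ∀ T X : Subgroup G, PiNum π (Nat.card X) → T ≠ ⊥ → IsPGroup 2 T → T ≤ X →
      X ≤ Subgroup.normalizer (T : Set G) → Nat.card G - Nat.card T < n →
      ∃ S : Sylow 2 G, X ≤ Subgroup.normalizer ((S : Subgroup G) : Set G) by
    obtain ⟨T, hTX, hT, hTn, h2, -⟩ := hM.toHyp.exists_normal_two hX
    refine H _ T X hX (fun hb => ?_) hT hTX hTn (Nat.lt_succ_self _)
    have := card_eq_of_normal_two hT h2 hTX (k := 1) (by rwa [pow_one])
    rw [hb, Subgroup.card_bot] at this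
    norm_num at this
  intro n
  induction n with
  | zero => intros; omega
  | succ n ih =>
    intro T X hX hTb hT hTX hTn hn
    obtain ⟨S, hTS⟩ := hT.exists_le_sylow
    by_cases hTS' : T = (S : Subgroup G)
    · exact ⟨S, hTS' ▸ hTn⟩
    have hN := hM.normalizer_ne_top (piNum_of_isPGroup_two hM.two hT) hTb
    obtain ⟨H, hH, hXH⟩ := hM.exists_hall_ge hN hTn hX
    obtain ⟨T', hT'H, hT', hT'n, h2, hmax⟩ := hM.toHyp.exists_normal_two hH.piNum
    have hlt : Nat.card T < Nat.card T' := by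
      set U := Subgroup.normalizer (T : Set G) ⊓ (S : Subgroup G) with hU
      have h1 : Nat.card T < Nat.card U := card_lt_of_lt (by
        rw [hU, inf_comm]
        exact Small.lt_inf_normalizer_of_pGroup S.2 (lt_of_le_of_ne hTS hTS'))
      obtain ⟨j, hj⟩ := IsPGroup.iff_card.1 (S.2.to_le (inf_le_right : U ≤ (S : Subgroup G)))
      refine h1.trans_le (hj ▸ Nat.le_of_dvd Nat.card_pos ?_)
      exact card_eq_of_normal_two hT' h2 hT'H (hM.dvd_hall hN hH Nat.prime_two hM.two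
        (hj ▸ Subgroup.card_dvd_of_le inf_le_left))
    refine (ih T' H hH.piNum (fun hb => ?_) hT' hT'H hT'n ?_).imp fun S' h => hXH.trans h
    · rw [hb, Subgroup.card_bot] at hlt
      have : 0 < Nat.card T := Nat.card_pos
      omega
    · have := Nat.le_of_dvd Nat.card_pos T'.card_subgroup_dvd_card
      omega

/-- Two Sylow 2-subgroups containing `T` are conjugate under the centralizer of `T`. -/
theorem sylow_conj_centralizer {T : Subgroup G} (S₁ S₂ : Sylow 2 G) (h₁ : T ≤ S₁) (h₂ : T ≤ S₂) :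
    ∃ c ∈ Subgroup.centralizer (T : Set G), c • S₁ = S₂ := by
  haveI : Fact (Nat.Prime 2) := ⟨Nat.prime_two⟩
  suffices H : ∀ n, ∀ T : Subgroup G, Nat.card G - Nat.card T < n → ∀ S₁ S₂ : Sylow 2 G,
      T ≤ S₁ → T ≤ S₂ → ∃ c ∈ Subgroup.centralizer (T : Set G), c • S₁ = S₂ from
    H _ T (Nat.lt_succ_self _) S₁ S₂ h₁ h₂
  intro n
  induction n with
  | zero => intros; omega
  | succ n ih =>
    intro T hn S₁ S₂ h₁ h₂
    by_cases hTb : T = ⊥
    · obtain ⟨c, hc⟩ := MulAction.exists_smul_eq G S₁ S₂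
      exact ⟨c, Subgroup.mem_centralizer_iff.2 fun x hx => by
        rw [show x = 1 from Subgroup.mem_bot.1 (hTb ▸ hx), one_mul, mul_one], hc⟩
    by_cases hmax : ∃ S : Sylow 2 G, T = (S : Subgroup G)
    · obtain ⟨S, rfl⟩ := hmax
      refine ⟨1, one_mem _, ?_⟩
      rw [one_smul]
      exact Sylow.ext ((S.is_maximal' S₁.2 h₁).trans (S.is_maximal' S₂.2 h₂).symm)
    have hT : IsPGroup 2 T := S₁.2.to_le h₁
    have hN := hM.normalizer_ne_top (piNum_of_isPGroup_two hM.two hT) hTb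
    obtain ⟨H, hH⟩ := hM.exists_hall hN
    obtain ⟨T', hT'H, hT', -, -, hmax'⟩ := hM.toHyp.exists_normal_two hH.piNum
    obtain ⟨S₃, hT'S⟩ := hT'.exists_le_sylow
    have key : ∀ S : Sylow 2 G, T ≤ S → ∃ c ∈ Subgroup.centralizer (T : Set G), c • S = S₃ := by
      intro S hTS
      set U := Subgroup.normalizer (T : Set G) ⊓ (S : Subgroup G) with hU
      have hUlt : Nat.card T < Nat.card U := card_lt_of_lt (by
        rw [hU, inf_comm]
        exact Small.lt_inf_normalizer_of_pGroup S.2 (lt_of_le_of_ne hTS fun h => hmax ⟨S, h⟩))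
      obtain ⟨k, hk, hkU⟩ := hM.hall_conj hN hH (inf_le_left : U ≤ _)
        (piNum_of_isPGroup_two hM.two (S.2.to_le inf_le_right))
      have hkC : k ∈ Subgroup.centralizer (T : Set G) := Subgroup.mem_centralizer_iff.2 fun x hx =>
        (hM.core_commute hN (piNum_of_isPGroup_two hM.two hT) le_rfl hk hx).symm
      set U' := MulAut.conj k • U with hU'
      have hU'T : U' ≤ T' := hmax' U' (fun y hy => by
        rw [hU', Coprime.mem_conj_smul] at hy
        simpa [mul_assoc] using hkU _ hy)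
        ((S.2.to_le inf_le_right : IsPGroup 2 U).of_equiv (Subgroup.equivSMul (MulAut.conj k) U))
      have hU'S : U' ≤ ((k • S : Sylow 2 G) : Subgroup G) := by
        rw [hU', Sylow.coe_subgroup_smul]
        exact Subgroup.pointwise_smul_le_pointwise_smul_iff.2 inf_le_right
      have hU'n : Nat.card G - Nat.card U' < n := by
        rw [hU', Coprime.card_conj_smul]
        have := Nat.le_of_dvd Nat.card_pos U.card_subgroup_dvd_card
        omega
      obtain ⟨c, hc, hcS⟩ := ih U' hU'n (k • S) S₃ hU'S (hU'T.trans hT'S)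
      refine ⟨c * k, mul_mem ?_ hkC, by rw [mul_smul, hcS]⟩
      refine Subgroup.centralizer_le (fun x hx => ?_) hc
      show x ∈ U'
      rw [hU', Coprime.mem_conj_smul]
      rw [show k⁻¹ * x * k = x by
        rw [mul_assoc, Subgroup.mem_centralizer_iff.1 hkC x hx, inv_mul_cancel_left]]
      exact ⟨Subgroup.le_normalizer hx, hTS hx⟩
    obtain ⟨c₁, hc₁, e₁⟩ := key S₁ h₁
    obtain ⟨c₂, hc₂, e₂⟩ := key S₂ h₂
    exact ⟨c₂⁻¹ * c₁, mul_mem (inv_mem hc₂) hc₁, by rw [mul_smul, e₁, ← e₂, inv_smul_smul]⟩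

/-- The normalizer of a Sylow 2-subgroup controls the fusion of its subgroups. -/
theorem fusion (S : Sylow 2 G) {g : G} {T : Subgroup G} (hT : T ≤ S)
    (hgT : ∀ t ∈ T, g * t * g⁻¹ ∈ (S : Subgroup G)) :
    ∃ n ∈ Subgroup.normalizer ((S : Subgroup G) : Set G), ∀ t ∈ T, n * t * n⁻¹ = g * t * g⁻¹ := by
  obtain ⟨c, hc, hcS⟩ := hM.sylow_conj_centralizer S (g⁻¹ • S) hT (fun t ht => by
    rw [Sylow.coe_subgroup_smul, Coprime.mem_conj_smul, inv_inv]
    exact hgT t ht)
  refine ⟨g * c, ?_, fun t ht => ?_⟩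
  · exact Sylow.smul_eq_iff_mem_normalizer.1 (by rw [mul_smul, hcS, smul_inv_smul])
  · calc g * c * t * (g * c)⁻¹ = g * (c * t) * c⁻¹ * g⁻¹ := by group
      _ = g * (t * c) * c⁻¹ * g⁻¹ := by rw [Subgroup.mem_centralizer_iff.1 hc t ht]
      _ = g * t * g⁻¹ := by group

/-- Fusion of elements. -/
theorem fusion_elem (S : Sylow 2 G) {g x : G} (hx : x ∈ (S : Subgroup G))
    (hgx : g * x * g⁻¹ ∈ (S : Subgroup G)) :
    ∃ n ∈ Subgroup.normalizer ((S : Subgroup G) : Set G), n * x * n⁻¹ = g * x * g⁻¹ := by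
  obtain ⟨n, hn, h⟩ := hM.fusion S (g := g) (Subgroup.zpowers_le.2 hx) fun t ht => by
    obtain ⟨j, rfl⟩ := ht
    show g * x ^ j * g⁻¹ ∈ _
    rw [← conj_zpow]
    exact Subgroup.zpow_mem _ hgx j
  exact ⟨n, hn, h x (Subgroup.mem_zpowers x)⟩

end Minimal

end CfsgLib.PiHomTwo
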