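import Mathlib

/-!
# Automorphisms of the Sylow 2-subgroup of `PSU(3,4)`, abstractly

`UData P` records the structure used: order 64, centre a four-group equal to the set of elements
with square one, elementary quotient, and full commutator map off the centre.  An automorphism of
odd order fixing the centre has order 1 or 5; with an automorphism permuting the centre transitively
the images on `P/Z(P)` of a group of such automorphisms commute.
-/

set_option autoImplicit false
set_option linter.style.haveILetI false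
set_option linter.unusedSectionVars false

namespace CfsgLib.PiHomTwo

open Subgroup

universe u

/-- The structure of a Sylow 2-subgroup of `PSU(3,4)`. -/
structure UData (P : Type u) [Group P] : Prop where
  card : Nat.card P = 64
  card_center : Nat.card (center P) = 4
  invol : ∀ x : P, x * x = 1 → x ∈ center P
  center_sq : ∀ z ∈ center P, z * z = 1
  sq : ∀ x : P, x * x ∈ center P
  full : ∀ x : P, x ∉ center P → ∀ z ∈ center P, ∃ s : P, s * x * s⁻¹ = z * x

variable {P : Type u} [Group P]

/-- The induced automorphism of `P/Z(P)`. -/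
noncomputable def mapV : MulAut P →* MulAut (P ⧸ center P) where
  toFun f := QuotientGroup.congr (center P) (center P) f
    (Subgroup.characteristic_iff_map_eq.1 inferInstance f)
  map_one' := by
    ext v
    induction v using QuotientGroup.induction_on
    rfl
  map_mul' f g := by
    ext v
    induction v using QuotientGroup.induction_on
    rfl

theorem mapV_mk (f : MulAut P) (x : P) :
    mapV f (x : P ⧸ center P) = ((f x : P) : P ⧸ center P) := rfl

/-- The square, as a map from `P/Z(P)` to `Z(P)`. -/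
noncomputable def sqV (hP : UData P) : P ⧸ center P → center P :=
  Quotient.lift (fun x => (⟨x * x, hP.sq x⟩ : center P)) fun a b hab => Subtype.ext (by
    have hz : a⁻¹ * b ∈ center P := QuotientGroup.leftRel_apply.1 hab
    have hb : b = a * (a⁻¹ * b) := by group
    show a * a = b * b
    rw [hb]
    generalize a⁻¹ * b = z at hz
    calc a * a = a * a * (z * z) := by rw [hP.center_sq z hz, mul_one]
      _ = a * (a * z) * z := by group
      _ = a * (z * a) * z := by rw [(mem_center_iff.1 hz a)]
      _ = a * z * (a * z) := by group)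

theorem sqV_mk (hP : UData P) (x : P) : (sqV hP (x : P ⧸ center P) : P) = x * x := rfl

/-- The automorphism fixes the centre pointwise. -/
def FixesCenter (f : MulAut P) : Prop := ∀ z ∈ center P, f z = z

theorem FixesCenter.pow {f : MulAut P} (h : FixesCenter f) (n : ℕ) : FixesCenter (f ^ n) := by
  induction n with
  | zero => intro z _; simp
  | succ n ih => intro z hz; rw [pow_succ, MulAut.mul_apply, h z hz, ih z hz]

theorem fixesCenter_conj (s : P) : FixesCenter (MulAut.conj s) := fun z hz => by
  rw [MulAut.conj_apply, mem_center_iff.1 hz s, mul_inv_cancel_right]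

theorem mapV_conj (hP : UData P) (s : P) : mapV (MulAut.conj s) = 1 := by
  ext v
  induction v using QuotientGroup.induction_on with
  | H x =>
    have hexp : ∀ w : P ⧸ center P, w * w = 1 := fun w => by
      induction w using QuotientGroup.induction_on with
      | H y => rw [← QuotientGroup.mk_mul]; exact (QuotientGroup.eq_one_iff _).2 (hP.sq y)
    rw [mapV_mk, MulAut.conj_apply, MulAut.one_apply, QuotientGroup.mk_mul, QuotientGroup.mk_mul,
      QuotientGroup.mk_inv]
    have hinv : ∀ w : P ⧸ center P, w⁻¹ = w := fun w => inv_eq_of_mul_eq_one_right (hexp w)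
    have hc : (s : P ⧸ center P) * x = x * s := by
      rw [← hinv ((s : P ⧸ center P) * x), _root_.mul_inv_rev, hinv, hinv]
    rw [hc, mul_inv_cancel_right]

theorem sqV_mapV (hP : UData P) (f : MulAut P) (v : P ⧸ center P) :
    (sqV hP (mapV f v) : P) = f (sqV hP v : P) := by
  induction v using QuotientGroup.induction_on with
  | H x => rw [mapV_mk, sqV_mk, sqV_mk, map_mul]

/-- Automorphisms preserve the centre. -/
theorem map_mem_center (f : MulAut P) {z : P} (hz : z ∈ center P) : f z ∈ center P :=
  mem_center_iff.2 fun y => f.symm.injective (by simpa using mem_center_iff.1 hz (f.symm y))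

variable [Finite P]

theorem card_quotient (hP : UData P) : Nat.card (P ⧸ center P) = 16 := by
  have h := Subgroup.card_eq_card_quotient_mul_card_subgroup (center P)
  rw [hP.card, hP.card_center] at h
  omega

theorem sqV_eq_one (hP : UData P) (v : P ⧸ center P) : sqV hP v = 1 ↔ v = 1 := by
  induction v using QuotientGroup.induction_on with
  | H x =>
    rw [QuotientGroup.eq_one_iff, Subtype.ext_iff, sqV_mk]
    exact ⟨hP.invol x, hP.center_sq x⟩

/-- An automorphism of odd order fixing the centre and at least six cosets is trivial. -/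
theorem eq_one_of_fix (hP : UData P) {f : MulAut P} {n : ℕ} (hn : Odd n) (hfn : f ^ n = 1)
    (hZ : FixesCenter f) (h6 : 6 ≤ Nat.card {v : P ⧸ center P // mapV f v = v}) : f = 1 := by
  haveI : Fact (Nat.Prime 2) := ⟨Nat.prime_two⟩
  set W : Subgroup (P ⧸ center P) :=
    MonoidHom.eqLocus (mapV f).toMonoidHom (MonoidHom.id _) with hW
  have hWc : Nat.card W = Nat.card {v : P ⧸ center P // mapV f v = v} := rfl
  have hdvd : Nat.card W ∣ 16 := card_quotient hP ▸ W.card_subgroup_dvd_card
  have h8 : 8 ≤ Nat.card W := by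
    rw [show (16 : ℕ) = 2 ^ 4 from rfl] at hdvd
    obtain ⟨k, hk, hk'⟩ := (Nat.dvd_prime_pow Nat.prime_two).1 hdvd
    rw [hk'] at hWc ⊢
    interval_cases k <;> omega
  have hidx : ∀ v w : P ⧸ center P, v ∉ W → w ∉ W → v⁻¹ * w ∈ W := by
    intro v w hv hw
    have hmul := W.card_mul_index
    rw [card_quotient hP] at hmul
    have hle : W.index ≤ 2 := by nlinarith
    have hpos : W.index ≠ 0 := Subgroup.index_ne_zero_of_finite
    have h2 : W.index = 2 := by
      rcases (show W.index = 1 ∨ W.index = 2 by omega) with h | h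
      · exact absurd ((Subgroup.index_eq_one.1 h).symm ▸ Subgroup.mem_top v) hv
      · exact h
    rw [Subgroup.mul_mem_iff_of_index_two h2, inv_mem_iff]
    exact iff_of_false hv hw
  have hpow : ∀ x c : P, f x = x * c → f c = c → c = 1 := by
    intro x c hx hc
    have hk : ∀ k : ℕ, (f ^ k) x = x * c ^ k := by
      intro k
      induction k with
      | zero => simp
      | succ k ih => rw [pow_succ', MulAut.mul_apply, ih, map_mul, map_pow, hc, hx, mul_assoc, ← pow_succ']
    have h1 : c ^ n = 1 := by
      have := hk n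
      rw [hfn, MulAut.one_apply] at this
      exact mul_eq_left.1 this.symm
    have h2 : c ^ 64 = 1 := hP.card ▸ pow_card_eq_one'
    have h3 : Nat.Coprime n 64 := (Nat.coprime_two_right.2 hn).pow_right 6
    have := pow_gcd_eq_one.2 ⟨h1, h2⟩
    rwa [h3.gcd_eq_one, pow_one] at this
  have hWfix : ∀ x : P, (x : P ⧸ center P) ∈ W → f x = x := by
    intro x hx
    have hx' : ((f x : P) : P ⧸ center P) = (x : P ⧸ center P) := hx
    have hc : x⁻¹ * f x ∈ center P := by
      rw [← QuotientGroup.eq_one_iff, QuotientGroup.mk_mul, QuotientGroup.mk_inv, hx', inv_mul_cancel]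
    have := hpow x _ (mul_inv_cancel_left x (f x)).symm (hZ _ hc)
    exact (inv_mul_eq_one.1 this).symm
  ext x
  by_cases hx : (x : P ⧸ center P) ∈ W
  · rw [hWfix x hx, MulAut.one_apply]
  · have hfx : ((f x : P) : P ⧸ center P) ∉ W := fun h => hx (by
      have h' : mapV f (mapV f (x : P ⧸ center P)) = mapV f (x : P ⧸ center P) := h
      exact (mapV f).injective h')
    have hm := hidx _ _ hx hfx
    rw [← QuotientGroup.mk_inv, ← QuotientGroup.mk_mul] at hm
    have := hpow x _ (mul_inv_cancel_left x (f x)).symm (hWfix _ hm)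
    rw [MulAut.one_apply, (inv_mul_eq_one.1 this).symm]

variable {g : MulAut P}

/-- `g` moves every involution. -/
def Moves (g : MulAut P) : Prop := ∀ z ∈ center P, z ≠ 1 → g z ≠ z

theorem center_cases (hP : UData P) (hg : Moves g) {z : center P} (hz : z ≠ 1) (w : center P) :
    w = 1 ∨ (w : P) = z ∨ (w : P) = g z ∨ (w : P) = g (g z) := by
  classical
  haveI := Fintype.ofFinite (center P)
  have hmem : ∀ c : center P, g (c : P) ∈ center P := fun c => map_mem_center g c.2
  set gz : center P := ⟨g z, hmem z⟩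
  set ggz : center P := ⟨g (g z), hmem gz⟩
  have hz' : (z : P) ≠ 1 := fun h => hz (Subtype.ext h)
  have hgz : g (z : P) ≠ 1 := fun h => hz' (g.injective (h.trans (map_one g).symm))
  have hggz : g (g (z : P)) ≠ 1 := fun h => hgz (g.injective (h.trans (map_one g).symm))
  have h1 : gz ≠ z := fun h => hg z z.2 hz' (congrArg Subtype.val h)
  have h2 : ggz ≠ gz := fun h => hg _ (hmem z) hgz (congrArg Subtype.val h)
  have h3 : ggz ≠ z := by
    intro h
    have hsum : g ((z : P) * g z) = (z : P) * g z := by
      rw [map_mul, show g (g (z : P)) = z from congrArg Subtype.val h]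
      exact mem_center_iff.1 z.2 _
    refine hg _ (mul_mem z.2 (hmem z)) (fun e => hg z z.2 hz' ?_) hsum
    calc g (z : P) = (z : P) * z * g z := by rw [hP.center_sq z z.2, one_mul]
      _ = (z : P) := by rw [mul_assoc, e, mul_one]
  by_contra hcon
  push Not at hcon
  obtain ⟨w1, w2, w3, w4⟩ := hcon
  have hne : ({1, z, gz, ggz, w} : Finset (center P)).card = 5 := by
    have a1 : (1 : center P) ≠ z := Ne.symm hz
    have a2 : (1 : center P) ≠ gz := fun h => hgz (congrArg Subtype.val h).symm
    have a3 : (1 : center P) ≠ ggz := fun h => hggz (congrArg Subtype.val h).symm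
    have b1 : z ≠ w := fun h => w2 (congrArg Subtype.val h.symm)
    have b2 : gz ≠ w := fun h => w3 (congrArg Subtype.val h.symm)
    have b3 : ggz ≠ w := fun h => w4 (congrArg Subtype.val h.symm)
    simp [a1, a2, a3, h1.symm, h2.symm, h3.symm, b1, b2, b3, Ne.symm w1]
  have := Finset.card_le_univ ({1, z, gz, ggz, w} : Finset (center P))
  rw [hne, ← Nat.card_eq_fintype_card, hP.card_center] at this
  omega

/-- Each involution is the square of five cosets. -/
theorem card_fibre (hP : UData P) (hg : Moves g) {z : center P} (hz : z ≠ 1) :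
    Nat.card {v : P ⧸ center P // sqV hP v = z} = 5 := by
  classical
  haveI := Fintype.ofFinite (center P)
  haveI := Fintype.ofFinite (P ⧸ center P)
  set c : center P → ℕ := fun w => Nat.card {v : P ⧸ center P // sqV hP v = w} with hc
  have hstep : ∀ w w' : center P, g (w : P) = w' → c w = c w' := fun w w' h => by
    refine Nat.card_congr ((mapV g).toEquiv.subtypeEquiv fun v => ?_)
    rw [Subtype.ext_iff, Subtype.ext_iff]
    show _ ↔ (sqV hP (mapV g v) : P) = _
    rw [sqV_mapV, ← h, g.injective.eq_iff]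
  have hmem : ∀ d : center P, g (d : P) ∈ center P := fun d => map_mem_center g d.2
  have hall : ∀ w : center P, w ≠ 1 → c w = c z := by
    intro w hw
    rcases center_cases hP hg hz w with h | h | h | h
    · exact absurd h hw
    · rw [Subtype.ext h]
    · exact (hstep z w h.symm).symm
    · exact ((hstep z ⟨g z, hmem z⟩ rfl).trans (hstep _ w h.symm)).symm
  have h1 : c 1 = 1 := by
    rw [hc]
    refine Nat.card_eq_one_iff_unique.2 ⟨⟨fun a b => Subtype.ext ?_⟩,
      ⟨1, (sqV_eq_one hP 1).2 rfl⟩⟩
    rw [(sqV_eq_one hP _).1 a.2, (sqV_eq_one hP _).1 b.2]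
  have hsum : ∑ w, c w = 16 := by
    rw [← card_quotient hP, ← Nat.card_congr (Equiv.sigmaFiberEquiv (sqV hP)), Nat.card_sigma]
  rw [← Finset.add_sum_erase _ _ (Finset.mem_univ (1 : center P)), h1,
    Finset.sum_congr rfl fun w hw => hall w (Finset.ne_of_mem_erase hw), Finset.sum_const,
    smul_eq_mul, Finset.card_erase_of_mem (Finset.mem_univ _), Finset.card_univ,
    ← Nat.card_eq_fintype_card, hP.card_center] at hsum
  show c z = 5
  omega

/-- Fixed cosets with a given square. -/
theorem card_fix_fibre (hP : UData P) (hg : Moves g) {z : center P} (hz : z ≠ 1)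
    {q j : ℕ} [Fact q.Prime] {f : MulAut P} (hf : f ^ q ^ j = 1) (hZ : FixesCenter f) :
    Nat.card {v : P ⧸ center P // sqV hP v = z ∧ mapV f v = v} ≡ 5 [MOD q] ∧
      Nat.card {v : P ⧸ center P // sqV hP v = z ∧ mapV f v = v} ≤ 5 := by
  classical
  haveI := Fintype.ofFinite (P ⧸ center P)
  have hinv : ∀ v, sqV hP (mapV f v) = z ↔ sqV hP v = z := fun v => by
    rw [show sqV hP (mapV f v) = sqV hP v from
      Subtype.ext (by rw [sqV_mapV, hZ _ (sqV hP v).2])]
  let σ : Equiv.Perm {v : P ⧸ center P // sqV hP v = z} :=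
    Equiv.Perm.subtypePerm (mapV f).toEquiv hinv
  have hσapp : ∀ (k : ℕ) v, ((σ ^ k) v).1 = mapV (f ^ k) v.1 := by
    intro k
    induction k with
    | zero => intro v; simp
    | succ k ih =>
      intro v
      rw [pow_succ, Equiv.Perm.mul_apply, ih]
      show mapV (f ^ k) (mapV f v.1) = _
      rw [← MulAut.mul_apply, ← map_mul, ← pow_succ]
  have hσ : σ ^ q ^ j = 1 := by
    ext v
    rw [hσapp, hf, map_one, MulAut.one_apply, Equiv.Perm.one_apply]
  have e : Nat.card {v : P ⧸ center P // sqV hP v = z ∧ mapV f v = v} = σ.supportᶜ.card := by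
    rw [← Nat.card_eq_finsetCard]
    refine Nat.card_congr
      { toFun := fun v => ⟨⟨v.1, v.2.1⟩, by
          rw [Finset.mem_compl, Equiv.Perm.mem_support, not_not]; exact Subtype.ext v.2.2⟩
        invFun := fun v => ⟨v.1.1, v.1.2, by
          have := v.2
          rw [Finset.mem_compl, Equiv.Perm.mem_support, not_not] at this
          exact congrArg Subtype.val this⟩
        left_inv := fun v => rfl
        right_inv := fun v => rfl }
  have h5 : Fintype.card {v : P ⧸ center P // sqV hP v = z} = 5 := by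
    rw [← Nat.card_eq_fintype_card]; exact card_fibre hP hg hz
  rw [e]
  exact ⟨h5 ▸ Equiv.Perm.card_compl_support_modEq hσ, h5 ▸ Finset.card_le_univ _⟩

/-- Automorphisms of order prime to 10 fixing the centre are trivial. -/
theorem eq_one_of_pow (hP : UData P) (hg : Moves g) :
    ∀ (m : ℕ) {f : MulAut P}, Odd m → ¬ 5 ∣ m → f ^ m = 1 → FixesCenter f → f = 1 := by
  classical
  intro m
  induction m using Nat.strong_induction_on with
  | _ m ih =>
    intro f hm h5 hf hZ
    by_cases hm1 : m = 1
    · rwa [hm1, pow_one] at hf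
    obtain ⟨q, hq, hqd⟩ := Nat.exists_prime_and_dvd hm1
    haveI : Fact q.Prime := ⟨hq⟩
    obtain ⟨j, m', hm', rfl⟩ := Nat.exists_eq_pow_mul_and_not_dvd hm.pos.ne' q hq.ne_one
    have hj : j ≠ 0 := by rintro rfl; simp at hqd; exact hm' hqd
    have hodd : Odd (q ^ j) ∧ Odd m' := Nat.odd_mul.1 hm
    have h1 : f ^ m' = 1 := by
      have hfq : (f ^ m') ^ q ^ j = 1 := by rw [← pow_mul, mul_comm, hf]
      refine eq_one_of_fix hP hodd.1 hfq (hZ.pow m') ?_
      set F := f ^ m'
      haveI := Fintype.ofFinite (center P)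
      haveI := Fintype.ofFinite (P ⧸ center P)
      have hq2 : q ≠ 2 := by
        rintro rfl
        exact hm.not_two_dvd_nat hqd
      have hq5 : q ≠ 5 := by rintro rfl; exact h5 hqd
      have hge : ∀ z : center P, z ≠ 1 →
          2 ≤ Nat.card {v : P ⧸ center P // sqV hP v = z ∧ mapV F v = v} := by
        intro z hz
        obtain ⟨h, hle⟩ := card_fix_fibre hP hg hz hfq (hZ.pow m')
        by_contra hlt
        push Not at hlt
        have h3 : q ≥ 3 := by have := hq.two_le; omega
        unfold Nat.ModEq at h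
        rw [Nat.mod_eq_of_lt (by omega : _ < q)] at h
        rcases (show q = 3 ∨ q = 4 ∨ q ≥ 6 by omega) with rfl | rfl | h6
        · rw [show 5 % 3 = 2 from rfl] at h; omega
        · norm_num at hq
        · rw [Nat.mod_eq_of_lt (by omega : 5 < q)] at h; omega
      have hsum : Nat.card {v : P ⧸ center P // mapV F v = v} =
          ∑ z : center P, Nat.card {v : P ⧸ center P // sqV hP v = z ∧ mapV F v = v} := by
        rw [← Nat.card_congr (Equiv.sigmaFiberEquiv
          (fun v : {v : P ⧸ center P // mapV F v = v} => sqV hP v.1)), Nat.card_sigma]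
        exact Finset.sum_congr rfl fun z _ => Nat.card_congr
          { toFun := fun v => ⟨v.1.1, v.2, v.1.2⟩
            invFun := fun v => ⟨⟨v.1, v.2.2⟩, v.2.1⟩
            left_inv := fun v => rfl
            right_inv := fun v => rfl }
      rw [hsum, ← Finset.add_sum_erase _ _ (Finset.mem_univ (1 : center P))]
      have h2 : (Finset.univ.erase (1 : center P)).card • 2 ≤
          ∑ z ∈ Finset.univ.erase (1 : center P),
            Nat.card {v : P ⧸ center P // sqV hP v = z ∧ mapV F v = v} :=
        Finset.card_nsmul_le_sum _ _ _ fun z hz => hge z (Finset.ne_of_mem_erase hz)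
      rw [Finset.card_erase_of_mem (Finset.mem_univ _), Finset.card_univ,
        ← Nat.card_eq_fintype_card, hP.card_center] at h2
      simp only [smul_eq_mul] at h2
      omega
    refine ih m' ?_ hodd.2 (fun h => h5 (h.mul_left _)) h1 hZ
    exact lt_mul_of_one_lt_left hodd.2.pos (Nat.one_lt_pow hj hq.one_lt)

/-- A 5-element fixing the centre and one fibre is trivial. -/
theorem eq_one_of_fix_fibre (hP : UData P) (hg : Moves g) {z : center P} (hz : z ≠ 1)
    {f : MulAut P} {j : ℕ} (hf : f ^ 5 ^ j = 1) (hZ : FixesCenter f)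
    (h : ∀ v, sqV hP v = z → mapV f v = v) : f = 1 := by
  classical
  refine eq_one_of_fix hP ((by decide : Odd 5).pow) hf hZ ?_
  have e : Nat.card (Option {v : P ⧸ center P // sqV hP v = z}) ≤
      Nat.card {v : P ⧸ center P // mapV f v = v} := by
    refine Nat.card_le_card_of_injective
      (fun o => o.elim ⟨1, map_one _⟩ fun v => ⟨v.1, h v.1 v.2⟩) ?_
    have h1 : ∀ v : {v : P ⧸ center P // sqV hP v = z}, v.1 ≠ 1 := fun v e => hz (by
      rw [← v.2, (sqV_eq_one hP _).2 e])
    rintro (_ | a) (_ | b) hab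
    · rfl
    · exact absurd (congrArg Subtype.val hab).symm (h1 b)
    · exact absurd (congrArg Subtype.val hab) (h1 a)
    · exact congrArg some (Subtype.ext (congrArg Subtype.val hab :))
  rw [Finite.card_option, card_fibre hP hg hz] at e
  omega

/-- **The image on `P/Z(P)` is commutative.** -/
theorem mapV_commute (hP : UData P) {N : Type u} [Group N] [Finite N] (φ : N →* MulAut P)
    (hsplit : ∀ n, ∃ s : P, ∃ f : MulAut P, ∃ m : ℕ, Odd m ∧ f ^ m = 1 ∧ φ n = MulAut.conj s * f)
    {a : N} {k : ℕ} (ha : a ^ 3 ^ k = 1) (hmov : Moves (φ a))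
    (hgen : ∀ n, ∃ i : ℕ, FixesCenter (φ ((a ^ i)⁻¹ * n))) (x y : N) :
    mapV (φ x) * mapV (φ y) = mapV (φ y) * mapV (φ x) := by
  classical
  set ψ : N →* MulAut (P ⧸ center P) := mapV.comp φ with hψ
  let K : Subgroup N :=
    { carrier := {n | FixesCenter (φ n)}
      one_mem' := fun z _ => by simp
      mul_mem' := fun {n m} hn hm z hz => by rw [map_mul, MulAut.mul_apply, hm z hz, hn z hz]
      inv_mem' := fun {n} hn z hz => by
        rw [map_inv]
        exact (φ n).injective (by rw [MulAut.apply_inv_self, hn z hz]) }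
  set E := K.map ψ with hE
  -- elements of `E` are induced by 5-elements
  have hlift : ∀ e ∈ E, ∃ f : MulAut P, ∃ j, f ^ 5 ^ j = 1 ∧ FixesCenter f ∧ mapV f = e := by
    rintro _ ⟨n, hn, rfl⟩
    obtain ⟨s, f, m, hm, hfm, hne⟩ := hsplit n
    have hfZ : FixesCenter f := fun z hz => by
      have h := hn z hz
      rw [hne, MulAut.mul_apply] at h
      exact (MulAut.conj s).injective (h.trans (fixesCenter_conj s z hz).symm)
    obtain ⟨j, m', hm', rfl⟩ := Nat.exists_eq_pow_mul_and_not_dvd hm.pos.ne' 5 (by norm_num)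
    refine ⟨f, j, eq_one_of_pow hP hmov m' (Nat.odd_mul.1 hm).2 hm'
      (by rw [← pow_mul, hfm]) (hfZ.pow _), hfZ, ?_⟩
    show mapV f = mapV (φ n)
    rw [hne, map_mul, mapV_conj hP, one_mul]
  obtain ⟨z, hz⟩ : ∃ z : center P, z ≠ 1 := by
    haveI : Nontrivial (center P) := Finite.one_lt_card_iff_nontrivial.1 (by rw [hP.card_center]; norm_num)
    exact exists_ne 1
  have hinv : ∀ e : E, ∀ v, sqV hP ((e : MulAut (P ⧸ center P)) v) = z ↔ sqV hP v = z := by
    intro e v
    obtain ⟨f, j, -, hfZ, he⟩ := hlift e e.2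
    rw [← he, show sqV hP (mapV f v) = sqV hP v from
      Subtype.ext (by rw [sqV_mapV, hfZ _ (sqV hP v).2])]
  let r : E →* Equiv.Perm {v : P ⧸ center P // sqV hP v = z} :=
    { toFun := fun e => Equiv.Perm.subtypePerm (e : MulAut (P ⧸ center P)).toEquiv (hinv e)
      map_one' := by ext v; rfl
      map_mul' := fun e e' => by ext v; rfl }
  have hr : Function.Injective r := by
    rw [injective_iff_map_eq_one]
    intro e he
    obtain ⟨f, j, hf, hfZ, hfe⟩ := hlift e e.2
    have hf1 : f = 1 := eq_one_of_fix_fibre hP hmov hz hf hfZ fun v hv => by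
      rw [hfe]
      exact congrArg Subtype.val (Equiv.congr_fun he ⟨v, hv⟩ :)
    exact Subtype.ext (by rw [← hfe, hf1, map_one, OneMemClass.coe_one])
  haveI : Fact (Nat.Prime 5) := ⟨by norm_num⟩
  have hEp : IsPGroup 5 E := fun e => by
    obtain ⟨f, j, hf, -, hfe⟩ := hlift e e.2
    exact ⟨j, Subtype.ext (by rw [SubmonoidClass.coe_pow, ← hfe, ← map_pow, hf, map_one,
      OneMemClass.coe_one])⟩
  have hcard : Nat.card E = 1 ∨ Nat.card E = 5 := by
    obtain ⟨i, hi⟩ := IsPGroup.iff_card.1 hEp
    have h := Subgroup.card_dvd_of_injective r hr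
    rw [Nat.card_perm, card_fibre hP hmov hz, hi] at h
    have h' : Nat.factorial 5 = 120 := rfl
    rw [h'] at h
    rcases i with _ | _ | i
    · left; simpa using hi
    · right; simpa using hi
    · exfalso
      have h25 : 25 ∣ 120 := dvd_trans ⟨5 ^ i, by ring⟩ h
      norm_num at h25
  -- `E` is central in the image
  have hKn : ∀ n m : N, m ∈ K → n * m * n⁻¹ ∈ K := fun n m hm w hw => by
    rw [map_mul, map_mul, map_inv, MulAut.mul_apply, MulAut.mul_apply]
    have hw' : (φ n)⁻¹ w ∈ center P := map_mem_center _ hw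
    rw [hm _ hw', MulAut.apply_inv_self]
  have hEc : ∀ e ∈ E, ψ a * e * (ψ a)⁻¹ = e := by
    intro e he
    rcases hcard with h | h
    · rw [Subgroup.card_eq_one] at h
      rw [h, Subgroup.mem_bot] at he
      rw [he, mul_one, mul_inv_cancel]
    haveI : Fintype E := Fintype.ofFinite _
    have hconj : ∀ b : E, ψ a * b * (ψ a)⁻¹ ∈ E := by
      rintro ⟨_, m, hm, rfl⟩
      exact ⟨a * m * a⁻¹, hKn a m hm, by simp⟩
    have hconj' : ∀ b : E, (ψ a)⁻¹ * b * ψ a ∈ E := by
      rintro ⟨_, m, hm, rfl⟩
      exact ⟨a⁻¹ * m * a, by simpa using hKn a⁻¹ m hm, by simp⟩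
    let c : Equiv.Perm {b : E // b ≠ 1} :=
      { toFun := fun b => ⟨⟨_, hconj b.1⟩, fun h => b.2 (Subtype.ext (conj_eq_one_iff.1 (congrArg Subtype.val h :)))⟩
        invFun := fun b => ⟨⟨_, hconj' b.1⟩, fun h => b.2 (Subtype.ext (by
          have h' := congrArg Subtype.val h
          simp only [OneMemClass.coe_one] at h'
          rw [mul_assoc, inv_mul_eq_one] at h'
          exact mul_eq_right.1 h'.symm))⟩
        left_inv := fun b => Subtype.ext (Subtype.ext (by simp [mul_assoc]))
        right_inv := fun b => Subtype.ext (Subtype.ext (by simp [mul_assoc])) }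
    have hck : ∀ (i : ℕ) b, (((c ^ i) b).1 : MulAut (P ⧸ center P)) =
        ψ (a ^ i) * b.1 * (ψ (a ^ i))⁻¹ := by
      intro i
      induction i with
      | zero => intro b; simp
      | succ i ih =>
        intro b
        rw [pow_succ, Equiv.Perm.mul_apply, ih, pow_succ, map_mul]
        show ψ (a ^ i) * (ψ a * b.1 * (ψ a)⁻¹) * (ψ (a ^ i))⁻¹ = _
        group
    haveI : Fact (Nat.Prime 3) := ⟨Nat.prime_three⟩
    have hc1 : c ^ 3 ^ k = 1 := by
      ext b
      rw [hck, ha, map_one]
      simp
    have h4 : ¬ 3 ∣ Fintype.card {b : E // b ≠ 1} := by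
      rw [Fintype.card_subtype_compl, Fintype.card_subtype_eq, ← Nat.card_eq_fintype_card, h]
      norm_num
    obtain ⟨b, hb⟩ := Equiv.Perm.exists_fixed_point_of_prime h4 hc1
    have hb' : ψ a * b.1 * (ψ a)⁻¹ = b.1 := congrArg (fun t => (t.1 : MulAut (P ⧸ center P))) hb
    have hgen' : (⟨e, he⟩ : E) ∈ Subgroup.zpowers b.1 :=
      mem_zpowers_of_prime_card h b.2
    obtain ⟨i, hi⟩ := Subgroup.mem_zpowers_iff.1 hgen'
    have hi' : (b.1 : MulAut (P ⧸ center P)) ^ i = e := by
      rw [← SubgroupClass.coe_zpow, hi]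
    rw [← hi', ← conj_zpow, hb']
  have hEE : ∀ e ∈ E, ∀ e' ∈ E, e * e' = e' * e := by
    intro e he e' he'
    rcases hcard with h | h
    · rw [Subgroup.card_eq_one] at h
      rw [h, Subgroup.mem_bot] at he
      rw [he, one_mul, mul_one]
    · haveI := isCyclic_of_prime_card (α := E) h
      exact congrArg Subtype.val (mul_comm' (⟨e, he⟩ : E) ⟨e', he'⟩)
  obtain ⟨i, hi⟩ := hgen x
  obtain ⟨j, hj⟩ := hgen y
  have hx : ψ x = ψ a ^ i * ψ ((a ^ i)⁻¹ * x) := by rw [map_mul, map_inv, map_pow, mul_inv_cancel_left]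
  have hy : ψ y = ψ a ^ j * ψ ((a ^ j)⁻¹ * y) := by rw [map_mul, map_inv, map_pow, mul_inv_cancel_left]
  have hxE : ψ ((a ^ i)⁻¹ * x) ∈ E := Subgroup.mem_map_of_mem ψ hi
  have hyE : ψ ((a ^ j)⁻¹ * y) ∈ E := Subgroup.mem_map_of_mem ψ hj
  have hca : ∀ e ∈ E, Commute (ψ a) e := fun e he => mul_inv_eq_iff_eq_mul.1 (hEc e he)
  show ψ x * ψ y = ψ y * ψ x
  rw [hx, hy]
  exact (((Commute.refl (ψ a)).pow_pow i j).mul_right ((hca _ hyE).pow_left i)).mul_left
    (((hca _ hxE).pow_left j).symm.mul_right (hEE _ hxE _ hyE))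

end CfsgLib.PiHomTwo
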