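import Cfsg.Agent.PiHomogeneousTwo.Isolated
import Cfsg.Agent.PiHomogeneousTwo.UFourAut
import Cfsg.Agent.Transfer.Fusion

/-!
# `N(S)` for a Sylow 2-subgroup of type `PSU(3,4)` in a minimal group

An element of `N(S)` fixing an involution of `S` induces an inner automorphism of `S`: the only
other possibility is an automorphism of order 5, which the focal subgroup theorem for the prime 5
excludes.
-/

set_option autoImplicit false
set_option linter.style.haveILetI false
set_option linter.unusedSectionVars false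

namespace CfsgLib.PiHomTwo

open CfsgLib.GroupBasics
open scoped Pointwise commutatorElement

universe u

variable {π : Set ℕ} {G : Type u} [Group G] [Finite G]

/-- The centre of `S`, as a subgroup of `G`. -/
def centerOf (S : Sylow 2 G) : Subgroup G :=
  (Subgroup.center (S : Subgroup G)).map (S : Subgroup G).subtype

theorem mem_centerOf {S : Sylow 2 G} {x : G} :
    x ∈ centerOf S ↔ ∃ h : x ∈ (S : Subgroup G),
      (⟨x, h⟩ : (S : Subgroup G)) ∈ Subgroup.center (S : Subgroup G) := by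
  constructor
  · rintro ⟨y, hy, rfl⟩
    exact ⟨y.2, hy⟩
  · rintro ⟨h, hc⟩
    exact ⟨⟨x, h⟩, hc, rfl⟩

theorem centralInvols_centerOf {S : Sylow 2 G} (hP : UData (S : Subgroup G)) :
    CentralInvols S (centerOf S) := by
  intro x
  rw [mem_centerOf]
  constructor
  · rintro ⟨h, hc⟩
    exact ⟨h, congrArg Subtype.val (hP.center_sq _ hc),
      fun s hs => congrArg Subtype.val (Subgroup.mem_center_iff.1 hc ⟨s, hs⟩)⟩
  · rintro ⟨h, -, hc⟩
    exact ⟨h, Subgroup.mem_center_iff.2 fun g => Subtype.ext (hc g g.2)⟩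

theorem card_centerOf {S : Sylow 2 G} (hP : UData (S : Subgroup G)) :
    Nat.card (centerOf S) = 4 := by
  rw [centerOf, Subgroup.card_map_of_injective (S : Subgroup G).subtype_injective, hP.card_center]

/-- An element of `N(S)` fixing one involution of `V` fixes all. -/
theorem fix_all {S : Sylow 2 G} {V : Subgroup G} (hV : CentralInvols S V) (h4 : Nat.card V = 4)
    {g z : G} (hg : g ∈ Subgroup.normalizer ((S : Subgroup G) : Set G)) (hz : z ∈ V) (hz1 : z ≠ 1)
    (hc : Commute g z) {w : G} (hw : w ∈ V) : Commute g w := by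
  obtain ⟨s, g', hs, hg', hodd, -, hgp, he⟩ := exists_split S hg
  rw [he]
  refine Commute.mul_left (((hV w).1 hw).2.2 s hs) ?_
  have hc' : Commute g' z := by
    obtain ⟨j, hj⟩ := Subgroup.mem_zpowers_iff.1 hgp
    rw [← hj]
    exact hc.zpow_left j
  by_cases hw1 : w = 1
  · rw [hw1]; exact Commute.one_right _
  by_cases hwz : w = z
  · rw [hwz]; exact hc'
  have hz2 : z * z = 1 := ((hV z).1 hz).2.1
  have hzw : z * w ∈ V := mul_mem hz hw
  have h1 : z * w ≠ 1 := fun h => hwz (mul_left_cancel (h.trans hz2.symm))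
  have h2 : z ≠ z * w := fun h => hw1 (mul_eq_left.1 h.symm)
  have h3 : w ≠ z * w := fun h => hz1 (mul_eq_right.1 h.symm)
  rcases four_cases h4 hz hw hzw (hV.conj hg' hw) hz1 hw1 h1 (Ne.symm hwz) h2 h3
    with e | e | e | e
  · exact absurd (conj_eq_one_iff.1 e) hw1
  · have hzz : g' * z * g'⁻¹ = z := mul_inv_eq_iff_eq_mul.2 hc'
    exact absurd (mul_left_cancel (mul_right_cancel (e.trans hzz.symm))) hwz
  · exact mul_inv_eq_iff_eq_mul.1 e
  · refine commute_of_sq hodd (mul_inv_eq_iff_eq_mul.1 ?_)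
    calc g' * g' * w * (g' * g')⁻¹ = g' * (g' * w * g'⁻¹) * g'⁻¹ := by group
      _ = g' * (z * w) * g'⁻¹ := by rw [e]
      _ = g' * z * g'⁻¹ * (g' * w * g'⁻¹) := by group
      _ = z * (z * w) := by rw [e, mul_inv_eq_iff_eq_mul.2 hc']
      _ = w := by rw [← mul_assoc, hz2, one_mul]

/-- Modulo a cyclic permutation, every element of `N(S)` fixes all of `V`. -/
theorem exists_pow_fix {S : Sylow 2 G} {V : Subgroup G} (hV : CentralInvols S V)
    (h4 : Nat.card V = 4) {a : G} (ha : a ∈ Subgroup.normalizer ((S : Subgroup G) : Set G))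
    (hodd : Odd (orderOf a)) (hmov : ∀ z ∈ V, z ≠ 1 → a * z * a⁻¹ ≠ z) {g : G}
    (hg : g ∈ Subgroup.normalizer ((S : Subgroup G) : Set G)) :
    ∃ i, i < 3 ∧ ∀ w ∈ V, Commute ((a ^ i)⁻¹ * g) w := by
  obtain ⟨z, hz, hz1⟩ := V.bot_or_exists_ne_one.resolve_left
    fun hb => by rw [hb, Subgroup.card_bot] at h4; omega
  have hne : ∀ n : G, n * z * n⁻¹ ≠ 1 := fun n h => hz1 (conj_eq_one_iff.1 h)
  have hV1 := hV.conj ha hz
  have hV2 := hV.conj (mul_mem ha ha) hz
  have d1 : z ≠ a * z * a⁻¹ := (hmov z hz hz1).symm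
  have d2 : z ≠ a * a * z * (a * a)⁻¹ := fun h => hmov z hz hz1
    (mul_inv_eq_iff_eq_mul.2 (commute_of_sq hodd (mul_inv_eq_iff_eq_mul.1 h.symm)))
  have d3 : a * z * a⁻¹ ≠ a * a * z * (a * a)⁻¹ := fun h => hmov _ hV1 (hne a) (by
    rw [show a * (a * z * a⁻¹) * a⁻¹ = a * a * z * (a * a)⁻¹ by group]
    exact h.symm)
  obtain ⟨i, hi, he⟩ : ∃ i, i < 3 ∧ g * z * g⁻¹ = a ^ i * z * (a ^ i)⁻¹ := by
    rcases four_cases h4 hz hV1 hV2 (hV.conj hg hz) hz1 (hne a) (hne _) d1 d2 d3
      with e | e | e | e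
    · exact absurd e (hne g)
    · exact ⟨0, by omega, by rw [e]; simp⟩
    · exact ⟨1, by omega, by rw [e, pow_one]⟩
    · exact ⟨2, by omega, by rw [e, pow_two]⟩
  refine ⟨i, hi, fun w hw => fix_all hV h4 (mul_mem (inv_mem (pow_mem ha i)) hg) hz hz1
    (mul_inv_eq_iff_eq_mul.1 ?_) hw⟩
  calc (a ^ i)⁻¹ * g * z * ((a ^ i)⁻¹ * g)⁻¹ = (a ^ i)⁻¹ * (g * z * g⁻¹) * a ^ i := by group
    _ = z := by rw [he]; group

namespace Minimal

variable (hM : Minimal π G) {S : Sylow 2 G} (hP : UData (S : Subgroup G))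
include hM hP

/-- The focal subgroup theorem at the prime 5. -/
theorem mem_commutator_of_five {d : G}
    (hd : d ∈ Subgroup.normalizer ((S : Subgroup G) : Set G)) {j : ℕ} (hdo : orderOf d = 5 ^ j)
    (h5 : 5 ∈ π) (hdZ : ∀ w ∈ centerOf S, Commute d w) :
    d ∈ ⁅Subgroup.normalizer ((S : Subgroup G) : Set G),
      Subgroup.normalizer ((S : Subgroup G) : Set G)⁆ := by
  haveI : Fact (Nat.Prime 2) := ⟨Nat.prime_two⟩
  haveI : Fact (Nat.Prime 5) := ⟨by norm_num⟩
  by_cases hd1 : d = 1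
  · rw [hd1]; exact one_mem _
  have hV := centralInvols_centerOf hP
  have h4 := card_centerOf hP
  set Z := centerOf S
  set NS := Subgroup.normalizer ((S : Subgroup G) : Set G) with hNS
  have hNle : NS ≤ Subgroup.normalizer (Z : Set G) := fun n hn =>
    Subgroup.mem_normalizer_iff.2 fun x => ⟨hV.conj hn, fun h => by
      simpa [mul_assoc] using hV.conj (inv_mem hn) h⟩
  have hZb : Z ≠ ⊥ := fun hb => by rw [hb, Subgroup.card_bot] at h4; omega
  have hZp : IsPGroup 2 Z := IsPGroup.of_card (n := 2) h4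
  have hZt := hM.normalizer_ne_top (piNum_of_isPGroup_two hM.two hZp) hZb
  -- a Hall subgroup of `N(Z)` containing `S` and `d`
  have hdn : Subgroup.zpowers d ≤ NS := Subgroup.zpowers_le.2 hd
  set X := (S : Subgroup G) ⊔ Subgroup.zpowers d with hX
  have hXpi : PiNum π (Nat.card X) := by
    rw [hX, Coprime.card_sup_eq hdn (Coprime.inf_eq_bot_of_coprime ?_)]
    · refine piNum_mul (hM.piNum_sylow S) ?_
      rw [Nat.card_zpowers, hdo]
      exact piNum_prime_pow (by norm_num) h5 j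
    · rw [hP.card, Nat.card_zpowers, hdo]
      exact (Nat.Coprime.pow 6 j (by norm_num : Nat.Coprime 2 5))
  obtain ⟨H, hH, hXH⟩ := hM.exists_hall_ge hZt
    ((sup_le Subgroup.le_normalizer hdn).trans hNle) hXpi
  have hHN : H ≤ NS := by
    obtain ⟨T, hTH, hT, hTn, -, hmax⟩ := hM.toHyp.exists_normal_two hH.piNum
    have hST : (S : Subgroup G) ≤ T := hmax _ ((le_sup_left).trans hXH) S.2
    rw [S.is_maximal' hT hST] at hTn
    exact hTn
  -- a Sylow 5-subgroup of it
  have hdH : d ∈ H := hXH (Subgroup.mem_sup_right (Subgroup.mem_zpowers d))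
  have hdp : IsPGroup 5 (Subgroup.zpowers (⟨d, hdH⟩ : H)) :=
    IsPGroup.of_card (n := j) (by rw [Nat.card_zpowers, Subgroup.orderOf_mk, hdo])
  obtain ⟨P, hdP⟩ := hdp.exists_le_sylow
  set P₀ := (P : Subgroup H).map H.subtype with hP₀
  have hP₀H : P₀ ≤ H := Subgroup.map_subtype_le _
  have hP₀p : IsPGroup 5 P₀ := P.2.map _
  have hdP₀ : d ∈ P₀ := ⟨⟨d, hdH⟩, hdP (Subgroup.mem_zpowers _), rfl⟩
  have hP₀card : ∀ k, 5 ^ k ∣ Nat.card (Subgroup.normalizer (Z : Set G)) → 5 ^ k ∣ Nat.card P₀ := by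
    intro k hk
    rw [hP₀, Subgroup.card_map_of_injective H.subtype_injective]
    exact P.pow_dvd_card_of_pow_dvd_card (hM.dvd_hall hZt hH (by norm_num) h5 hk)
  have hZP₀ : ∀ x ∈ P₀, ∀ w ∈ Z, Commute x w := by
    intro x hx w hw
    obtain ⟨k, hk⟩ := hP₀p ⟨x, hx⟩
    have hk' : x ^ 5 ^ k = 1 := congrArg Subtype.val hk
    have hodd : Odd (orderOf x) :=
      ((by decide : Odd 5).pow).of_dvd_nat (orderOf_dvd_of_pow_eq_one hk')
    by_cases hw1 : w = 1
    · rw [hw1]; exact Commute.one_right _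
    -- a 5-element cannot permute three points
    by_contra hne
    have hxN : x ∈ NS := hHN (hP₀H hx)
    set v := x * w * x⁻¹ with hv
    have hvZ : v ∈ Z := hV.conj hxN hw
    have hv1 : v ≠ 1 := fun h => hw1 (conj_eq_one_iff.1 h)
    have hvw : v ≠ w := fun h => hne (mul_inv_eq_iff_eq_mul.1 h)
    have hw2 : w * w = 1 := ((hV w).1 hw).2.1
    have hv2 : v * v = 1 := ((hV v).1 hvZ).2.1
    have hwv1 : w * v ≠ 1 := fun h => hvw (mul_left_cancel (h.trans hw2.symm))
    have d2 : w ≠ w * v := fun h => hv1 (mul_eq_left.1 h.symm)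
    have d3 : v ≠ w * v := fun h => hw1 (mul_eq_right.1 h.symm)
    rcases four_cases h4 hw hvZ (mul_mem hw hvZ) (hV.conj hxN hvZ) hw1 hv1 hwv1 (Ne.symm hvw) d2 d3
      with e | e | e | e
    · exact hv1 (conj_eq_one_iff.1 e)
    · refine hne (commute_of_sq hodd (mul_inv_eq_iff_eq_mul.1 ?_))
      rw [show x * x * w * (x * x)⁻¹ = x * v * x⁻¹ by rw [hv]; group, e]
    · refine hvw (mul_left_cancel (a := x) (mul_right_cancel (b := x⁻¹) ?_))
      exact e
    · have h3 : Commute (x ^ 3) w := by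
        refine mul_inv_eq_iff_eq_mul.1 ?_
        calc x ^ 3 * w * (x ^ 3)⁻¹ = x * (x * v * x⁻¹) * x⁻¹ := by
              simp [hv, pow_succ, mul_assoc]
          _ = x * (w * v) * x⁻¹ := by rw [e]
          _ = x * w * x⁻¹ * (x * v * x⁻¹) := by group
          _ = v * (w * v) := by rw [e]
          _ = v * (v * w) := by rw [((hV v).1 hvZ).2.2 w ((hV w).1 hw).1]
          _ = w := by rw [← mul_assoc, hv2, one_mul]
      refine hne ?_
      obtain ⟨l, hl⟩ : ∃ l, 3 * l % 5 ^ k = 1 % 5 ^ k := by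
        rcases Nat.eq_zero_or_pos k with h0 | h0
        · exact ⟨0, by subst h0; simp⟩
        obtain ⟨l, -, hl⟩ := Nat.exists_mul_mod_eq_one_of_coprime
          ((Nat.Coprime.pow_right k (by norm_num : Nat.Coprime 3 5)))
          (Nat.one_lt_pow h0.ne' (by norm_num))
        exact ⟨l, hl.trans (Nat.mod_eq_of_lt (Nat.one_lt_pow h0.ne' (by norm_num))).symm⟩
      have h1 : x = (x ^ 3) ^ l := by
        rw [← pow_mul, pow_eq_pow_mod (3 * l) hk', hl, ← pow_eq_pow_mod 1 hk', pow_one]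
      rw [h1]
      exact h3.pow_left l
  -- Sylow in `G`
  haveI := hM.simple
  have hP₀S : ∀ Q : Subgroup G, IsPGroup 5 Q → P₀ ≤ Q → Q = P₀ := by
    intro Q hQ hle
    by_contra hne
    have hlt := Small.lt_inf_normalizer_of_pGroup hQ (lt_of_le_of_ne hle (Ne.symm hne))
    set U := Q ⊓ Subgroup.normalizer (P₀ : Set G)
    have hUp : IsPGroup 5 U := hQ.to_le inf_le_left
    have hNb : Subgroup.normalizer (P₀ : Set G) ≠ ⊤ := by
      obtain ⟨l, hl⟩ := IsPGroup.iff_card.1 hP₀p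
      exact hM.normalizer_ne_top (hl ▸ piNum_prime_pow (by norm_num) h5 l) fun hb =>
        hd1 (Subgroup.mem_bot.1 (hb ▸ hdP₀))
    obtain ⟨l', hl'⟩ := IsPGroup.iff_card.1 hUp
    have hZn : Z ≤ Subgroup.normalizer (P₀ : Set G) := fun w hw =>
      Subgroup.mem_normalizer_iff.2 fun x => by
        constructor
        · intro hx
          rwa [← (hZP₀ x hx w hw).eq, mul_inv_cancel_right]
        · intro hx
          have := (hZP₀ _ hx w hw).eq
          have e : x = w * x * w⁻¹ := by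
            calc x = w⁻¹ * (w * x * w⁻¹ * w) := by group
              _ = w⁻¹ * (w * (w * x * w⁻¹)) := by rw [this]
              _ = w * x * w⁻¹ := by group
          exact e ▸ hx
    obtain ⟨H₁, hH₁, hZH₁⟩ := hM.exists_hall_ge hNb hZn (piNum_of_isPGroup_two hM.two hZp)
    obtain ⟨S', hS'⟩ := hM.exists_le_normalizer hH₁.piNum (dvd_trans
      (h4.symm ▸ (by norm_num : 2 ∣ 4)) (Subgroup.card_dvd_of_le hZH₁))
    have hcard : Nat.card (Subgroup.normalizer ((S' : Subgroup G) : Set G)) = Nat.card NS := by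
      obtain ⟨c, rfl⟩ := MulAction.exists_smul_eq G S S'
      rw [hNS, Sylow.coe_subgroup_smul]
      refine (Nat.card_congr ((MulAut.conj c).toEquiv.subtypeEquiv fun x => ?_)).symm
      rw [Subgroup.mem_normalizer_iff, Subgroup.mem_normalizer_iff]
      constructor
      · intro h y
        rw [Coprime.mem_conj_smul, Coprime.mem_conj_smul, h]
        simp [mul_assoc]
      · intro h y
        have := h (c * y * c⁻¹)
        rw [Coprime.mem_conj_smul, Coprime.mem_conj_smul] at this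
        simpa [mul_assoc] using this
    have hdvd : 5 ^ l' ∣ Nat.card P₀ := hP₀card l'
      (((hM.dvd_hall hNb hH₁ (by norm_num) h5
        (hl' ▸ Subgroup.card_dvd_of_le inf_le_right)).trans
          (Subgroup.card_dvd_of_le hS')).trans (hcard ▸ Subgroup.card_dvd_of_le hNle))
    have := card_lt_of_lt hlt
    rw [hl'] at this
    have := Nat.le_of_dvd Nat.card_pos hdvd
    omega
  let P5 : Sylow 5 G := ⟨P₀, hP₀p, fun {Q} hQ hle => hP₀S Q hQ hle⟩
  -- control of fusion
  have hcf : Transfer.ControlsFusion H (P5 : Subgroup G) := by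
    intro x hx g hgx
    change g * x * g⁻¹ ∈ P₀ at hgx
    change x ∈ P₀ at hx
    by_cases hx1 : x = 1
    · exact ⟨1, one_mem _, by rw [hx1]; simp⟩
    set y := g * x * g⁻¹ with hy
    have hy1 : y ≠ 1 := fun h => hx1 (conj_eq_one_iff.1 h)
    have hCt := hM.centralizer_ne_top hy1
    have hZy : Z ≤ Subgroup.centralizer ({y} : Set G) := fun w hw =>
      Subgroup.mem_centralizer_singleton_iff.2 (hZP₀ y hgx w hw).eq.symm
    set Z' := MulAut.conj g • Z with hZ'
    have hZ'y : Z' ≤ Subgroup.centralizer ({y} : Set G) := fun w hw => by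
      rw [hZ', Coprime.mem_conj_smul] at hw
      rw [Subgroup.mem_centralizer_singleton_iff, hy]
      calc w * (g * x * g⁻¹) = g * ((g⁻¹ * w * g) * x) * g⁻¹ := by group
        _ = g * (x * (g⁻¹ * w * g)) * g⁻¹ := by rw [(hZP₀ x hx _ hw).eq]
        _ = g * x * g⁻¹ * w := by group
    have hZ'p : IsPGroup 2 Z' := hZp.of_equiv (Subgroup.equivSMul (MulAut.conj g) Z)
    obtain ⟨Hy, hHy, hZHy⟩ := hM.exists_hall_ge hCt hZy (piNum_of_isPGroup_two hM.two hZp)
    obtain ⟨k, hk, hkZ⟩ := hM.hall_conj hCt hHy hZ'y (piNum_of_isPGroup_two hM.two hZ'p)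
    obtain ⟨T, hTH, hT, -, -, hmax⟩ := hM.toHyp.exists_normal_two hHy.piNum
    obtain ⟨S', hTS'⟩ := hT.exists_le_sylow
    obtain ⟨c, rfl⟩ := MulAction.exists_smul_eq G S S'
    have key : ∀ W : Subgroup G, W ≤ ((c • S : Sylow 2 G) : Subgroup G) → (∀ w ∈ W, w * w = 1) →
        Nat.card W = 4 → W = MulAut.conj c • Z := by
      intro W hW h2 hc4
      refine Subgroup.eq_of_le_of_card_ge (fun w hw => ?_) (by rw [Coprime.card_conj_smul, h4, hc4])
      have hwS := hW hw
      rw [Sylow.coe_subgroup_smul, Coprime.mem_conj_smul] at hwS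
      rw [Coprime.mem_conj_smul]
      refine mem_centerOf.2 ⟨hwS, hP.invol _ (Subtype.ext ?_)⟩
      show c⁻¹ * w * c * (c⁻¹ * w * c) = 1
      rw [show c⁻¹ * w * c * (c⁻¹ * w * c) = c⁻¹ * (w * w) * c by group, h2 w hw]
      group
    have e1 : Z = MulAut.conj c • Z := key Z
      ((hmax Z hZHy hZp).trans hTS') (fun w hw => ((hV w).1 hw).2.1) h4
    set Z'' := MulAut.conj (k * g) • Z with hZ''
    have hZ''p : IsPGroup 2 Z'' := hZp.of_equiv (Subgroup.equivSMul (MulAut.conj (k * g)) Z)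
    have hZ''H : Z'' ≤ Hy := fun w hw => by
      rw [hZ'', Coprime.mem_conj_smul] at hw
      have h1 : k⁻¹ * w * k ∈ Z' := by
        rw [hZ', Coprime.mem_conj_smul]
        simpa [mul_assoc] using hw
      simpa [mul_assoc] using hkZ _ h1
    have e2 : Z'' = MulAut.conj c • Z := key Z'' ((hmax Z'' hZ''H hZ''p).trans hTS')
      (fun w hw => by
        rw [hZ'', Coprime.mem_conj_smul] at hw
        have h2 := ((hV _).1 hw).2.1
        rw [show (k * g)⁻¹ * w * (k * g) * ((k * g)⁻¹ * w * (k * g)) =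
          (k * g)⁻¹ * (w * w) * (k * g) by group, mul_eq_one_iff_eq_inv, mul_eq_left] at h2
        exact h2)
      (by rw [hZ'', Coprime.card_conj_smul, h4])
    have hkg : k * g ∈ Subgroup.normalizer (Z : Set G) :=
      Coprime.mem_normalizer_iff_conj_smul_eq.2 (e2.trans e1.symm)
    obtain ⟨k₀, hk₀, h, hh, he⟩ := hH.mul _ hkg
    refine ⟨h, hh, ?_⟩
    have hky : k * y * k⁻¹ = y := by
      rw [Subgroup.mem_centralizer_singleton_iff.1 (core_le _ hk), mul_inv_cancel_right]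
    have hxy : y = k₀ * (h * x * h⁻¹) * k₀⁻¹ := by
      calc y = k * g * x * (k * g)⁻¹ := by rw [← hky, hy]; group
        _ = _ := by rw [he]; group
    set x' := h * x * h⁻¹
    have hxH : x' ∈ H := mul_mem (mul_mem hh (hP₀H hx)) (inv_mem hh)
    have hmem : y * x'⁻¹ ∈ core π (Subgroup.normalizer (Z : Set G)) ⊓ H := by
      refine Subgroup.mem_inf.2 ⟨?_, mul_mem (hP₀H hgx) (inv_mem hxH)⟩
      rw [hxy, show k₀ * x' * k₀⁻¹ * x'⁻¹ = k₀ * (x' * k₀⁻¹ * x'⁻¹) by group]
      exact mul_mem hk₀ (hM.conj_core hZt (Subgroup.le_normalizer (hH.le hxH)) (inv_mem hk₀))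
    rw [hM.card_eq_one_of_inf hZt hH.piNum, Subgroup.mem_bot, mul_inv_eq_one] at hmem
    exact hmem.symm
  have hperf : commutator G = ⊤ :=
    (hM.simple.eq_bot_or_eq_top_of_normal _ inferInstance).resolve_left fun h =>
      hM.nonabelian ⟨⟨fun x y => commutatorElement_eq_one_iff_mul_comm.1 (Subgroup.mem_bot.1
        (h ▸ Subgroup.commutator_mem_commutator (Subgroup.mem_top x) (Subgroup.mem_top y)))⟩⟩
  have hfoc := Transfer.commutator_inf_eq_of_controlsFusion P5 hP₀H hcf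
  rw [hperf, top_inf_eq] at hfoc
  have hd' : d ∈ ⁅H, H⁆ ⊓ (P5 : Subgroup G) := hfoc ▸ hdP₀
  exact Subgroup.commutator_mono hHN hHN hd'.1

/-- **An element of `N(S)` centralizing `Z(S)` induces an inner automorphism of `S`.** -/
theorem exists_inner {g : G} (hg : g ∈ Subgroup.normalizer ((S : Subgroup G) : Set G))
    (hgZ : ∀ w ∈ centerOf S, Commute g w) :
    ∃ s ∈ (S : Subgroup G), ∀ x ∈ (S : Subgroup G), g * x * g⁻¹ = s * x * s⁻¹ := by
  classical
  haveI : Fact (Nat.Prime 5) := ⟨by norm_num⟩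
  have hV := centralInvols_centerOf hP
  have h4 := card_centerOf hP
  obtain ⟨-, a, k, haN, hak, hmov⟩ := hM.exists_three hV h4
  set NS := Subgroup.normalizer ((S : Subgroup G) : Set G) with hNS
  let φ : NS →* MulAut (S : Subgroup G) := (S : Subgroup G).normalizerMonoidHom
  have hφ : ∀ (n : NS) (x : (S : Subgroup G)),
      ((φ n x : (S : Subgroup G)) : G) = (n : G) * x * (n : G)⁻¹ := fun n x => rfl
  have hsplit : ∀ n : NS, ∃ s : (S : Subgroup G), ∃ f : MulAut (S : Subgroup G), ∃ m : ℕ,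
      Odd m ∧ f ^ m = 1 ∧ φ n = MulAut.conj s * f := by
    intro n
    obtain ⟨s, g', hs, hg', hodd, -, -, he⟩ := exists_split S n.2
    refine ⟨⟨s, hs⟩, φ ⟨g', hg'⟩, orderOf g', hodd, ?_, ?_⟩
    · rw [← map_pow, ← map_one φ]
      exact congrArg φ (Subtype.ext (by simp [pow_orderOf_eq_one]))
    · have hn : n = ⟨s, Subgroup.le_normalizer hs⟩ * ⟨g', hg'⟩ := Subtype.ext he
      rw [hn, map_mul]
      exact congrArg (· * φ ⟨g', hg'⟩) (MulEquiv.ext fun x => Subtype.ext rfl)
  have hmovA : Moves (φ ⟨a, haN⟩) := fun z hz hz1 h =>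
    hmov z ⟨z, hz, rfl⟩ (fun e => hz1 (Subtype.ext e)) (congrArg Subtype.val h)
  have hfixC : ∀ n : NS, (∀ w ∈ centerOf S, Commute (n : G) w) → FixesCenter (φ n) :=
    fun n h z hz => Subtype.ext (mul_inv_eq_iff_eq_mul.2 (h z ⟨z, hz, rfl⟩))
  have hgen : ∀ n : NS, ∃ i : ℕ, FixesCenter (φ (((⟨a, haN⟩ : NS) ^ i)⁻¹ * n)) := fun n => by
    obtain ⟨i, -, hi⟩ := exists_pow_fix hV h4 haN (hak ▸ Odd.pow (by decide)) hmov n.2
    exact ⟨i, hfixC _ (by simpa using hi)⟩
  have hcomm : ∀ x y : NS, mapV (φ x) * mapV (φ y) = mapV (φ y) * mapV (φ x) :=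
    mapV_commute hP φ hsplit (a := ⟨a, haN⟩) (k := k)
      (Subtype.ext (by simp [← hak, pow_orderOf_eq_one])) hmovA hgen
  -- 5-elements centralizing the centre act trivially
  have hfive : ∀ (d : G) (j : ℕ), d ∈ NS → orderOf d = 5 ^ j → (∀ w ∈ centerOf S, Commute d w) →
      ∀ x ∈ (S : Subgroup G), d * x = x * d := by
    intro d j hd hdo hdZ x hx
    by_cases h5 : 5 ∈ π
    · have hmem := hM.mem_commutator_of_five hP hd hdo h5 hdZ
      let L : Subgroup G := (mapV.comp φ).ker.map NS.subtype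
      have hle : ⁅NS, NS⁆ ≤ L := Subgroup.commutator_le.2 fun u hu v hv => by
        refine ⟨⁅(⟨u, hu⟩ : NS), ⟨v, hv⟩⁆, ?_, rfl⟩
        rw [SetLike.mem_coe, MonoidHom.mem_ker, map_commutatorElement,
          commutatorElement_eq_one_iff_mul_comm]
        exact hcomm _ _
      obtain ⟨⟨d', hd'⟩, hker, rfl⟩ := hle hmem
      have hf : φ ⟨d', hd'⟩ = 1 := by
        refine eq_one_of_fix hP ((by decide : Odd 5).pow (n := j)) ?_
          (hfixC _ hdZ) ?_
        · rw [← map_pow, ← map_one φ]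
          refine congrArg φ (Subtype.ext ?_)
          rw [SubmonoidClass.coe_pow, OneMemClass.coe_one, ← hdo]
          exact pow_orderOf_eq_one _
        · have hall : ∀ v, mapV (φ ⟨d', hd'⟩) v = v := fun v =>
            congrArg (fun f : MulAut _ => f v) (MonoidHom.mem_ker.1 hker)
          rw [Nat.card_congr (Equiv.subtypeUnivEquiv hall), card_quotient hP]
          norm_num
      exact mul_inv_eq_iff_eq_mul.1 (congrArg (fun f : MulAut _ => ((f ⟨x, hx⟩ : (S : Subgroup G)) : G)) hf :)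
    · exact hM.toHyp.commute (hM.piNum_sylow S) hd
        (hdo ▸ piNum_prime_pow (π := πᶜ) (by norm_num) h5 j) hx
  obtain ⟨s, g', hs, hg', hodd, -, hgp, he⟩ := exists_split S hg
  refine ⟨s, hs, fun x hx => ?_⟩
  have hg'Z : ∀ w ∈ centerOf S, Commute g' w := fun w hw => by
    obtain ⟨j, hj⟩ := Subgroup.mem_zpowers_iff.1 hgp
    rw [← hj]
    exact (hgZ w hw).zpow_left j
  obtain ⟨j, m, hm, hnm⟩ := Nat.exists_eq_pow_mul_and_not_dvd hodd.pos.ne' 5 (by norm_num)
  rw [hnm, Nat.odd_mul] at hodd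
  have hf : φ ⟨g', hg'⟩ = 1 := by
    refine eq_one_of_pow hP hmovA m hodd.2 hm ?_ (hfixC _ hg'Z)
    rw [← map_pow]
    refine MulEquiv.ext fun y => Subtype.ext ?_
    rw [hφ, SubmonoidClass.coe_pow, MulAut.one_apply, mul_inv_eq_iff_eq_mul]
    refine hfive (g' ^ m) j (pow_mem hg' m) ?_ (fun w hw => (hg'Z w hw).pow_left m) y y.2
    rw [orderOf_pow_of_dvd (by rintro rfl; exact hm (dvd_zero 5))
      ⟨5 ^ j, by rw [hnm, mul_comm]⟩, hnm, Nat.mul_div_cancel _ hodd.2.pos]
  have hfx : g' * x * g'⁻¹ = x :=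
    congrArg (fun f : MulAut _ => ((f ⟨x, hx⟩ : (S : Subgroup G)) : G)) hf
  calc g * x * g⁻¹ = s * (g' * x * g'⁻¹) * s⁻¹ := by rw [he]; group
    _ = s * x * s⁻¹ := by rw [hfx]

/-- An element of `N(S)` fixing an involution of `S` induces an inner automorphism. -/
theorem exists_inner_of_fix {g z : G} (hg : g ∈ Subgroup.normalizer ((S : Subgroup G) : Set G))
    (hz : z ∈ centerOf S) (hz1 : z ≠ 1) (hc : Commute g z) :
    ∃ s ∈ (S : Subgroup G), ∀ x ∈ (S : Subgroup G), g * x * g⁻¹ = s * x * s⁻¹ :=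
  hM.exists_inner hP hg fun _ hw =>
    fix_all (centralInvols_centerOf hP) (card_centerOf hP) hg hz hz1 hc hw

end Minimal

end CfsgLib.PiHomTwo
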