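import Cfsg.Agent.PiHomogeneousTwo.UFourLocal
import Cfsg.Agent.PiHomogeneousTwo.Columns
import Cfsg.Agent.InvolColumn.Basic
import Cfsg.Agent.CharactersDeep.LinearChar
import Cfsg.Agent.Characters.Linear
import Cfsg.Agent.Characters.Integrality

/-!
# No Sylow 2-subgroup of type `PSU(3,4)` in a minimal group

The principal 2-block has a second character of degree one.
-/

set_option autoImplicit false
set_option linter.style.haveILetI false
set_option linter.unusedSectionVars false

namespace CfsgLib.PiHomTwo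

open Cfsg CfsgLib.GroupBasics CfsgLib.Blocks CfsgLib.BlocksLocal CfsgLib.PrincipalBlock
open scoped Pointwise ComplexConjugate

universe u

variable {π : Set ℕ} {G : Type u} [Group G]

/-- A character value at an element of square one is a rational integer. -/
theorem exists_int_value [Fintype G] (χ : Cfsg.IrrCharacter G) {t : G} (ht : t * t = 1) :
    ∃ z : ℤ, (χ : G → ℂ) t = z := by
  obtain ⟨d, ρ, hρ, hρc⟩ := χ.2
  obtain ⟨μ, hμ, hj, -⟩ := Characters.exists_eigenvalues ρ t
  have hz : ∀ i, ∃ z : ℤ, μ i = z := fun i => by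
    have hsq : μ i * μ i = 1 := by
      obtain ⟨k, hk⟩ := orderOf_dvd_of_pow_eq_one (show t ^ 2 = 1 by rw [sq, ht])
      rw [← sq, hk, pow_mul, hμ i, one_pow]
    rcases mul_self_eq_one_iff.1 hsq with e | e
    exacts [⟨1, by simp [e]⟩, ⟨-1, by simp [e]⟩]
  choose z hz using hz
  refine ⟨∑ i, z i, ?_⟩
  rw [← hρc, ← pow_one t, hj 1]
  push_cast
  exact Finset.sum_congr rfl fun i _ => by rw [pow_one, hz]

variable [Finite G]

/-- A simple non-abelian group has no nontrivial linear character. -/
theorem Minimal.hom_eq_one (hM : Minimal π G) (F : G →* ℂˣ) (g : G) : F g = 1 := by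
  rcases hM.simple.eq_bot_or_eq_top_of_normal F.ker inferInstance with h | h
  · exact (hM.nonabelian ⟨⟨fun a b => (MonoidHom.ker_eq_bot_iff F).1 h
      (by rw [map_mul, map_mul, mul_comm])⟩⟩).elim
  · exact MonoidHom.mem_ker.1 (h ▸ Subgroup.mem_top g)

open Classical in
/-- **The case of a Sylow 2-subgroup of type `PSU(3,4)`.** -/
theorem Minimal.false_of_udata (hM : Minimal π G) (S : Sylow 2 G)
    (hP : UData (S : Subgroup G)) : False := by
  haveI := Fintype.ofFinite G
  haveI : Fact (Nat.Prime 2) := ⟨Nat.prime_two⟩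
  have hV := centralInvols_centerOf hP
  have h4 := card_centerOf hP
  obtain ⟨-, a, k, haN, hak, hmov⟩ := hM.exists_three hV h4
  have hodd : Odd (orderOf a) := hak ▸ Odd.pow (by decide)
  obtain ⟨M, hMod⟩ := exists_isPModular 2 Nat.prime_two
  haveI : M.IsPrime := IsPModular.isPrime hMod
  set NS := Subgroup.normalizer ((S : Subgroup G) : Set G) with hNS
  let φ : NS →* MulAut (S : Subgroup G) := (S : Subgroup G).normalizerMonoidHom
  let φa := φ ⟨a, haN⟩
  have hφa : ∀ x : (S : Subgroup G), ((φa x : (S : Subgroup G)) : G) = a * x * a⁻¹ := fun x => rfl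
  -- the quotient as a small additive group
  have hexp : ∀ w : (S : Subgroup G) ⧸ Subgroup.center (S : Subgroup G), w * w = 1 := fun w => by
    induction w using QuotientGroup.induction_on with
    | H y => rw [← QuotientGroup.mk_mul]; exact (QuotientGroup.eq_one_iff _).2 (hP.sq y)
  letI cg : CommGroup ((S : Subgroup G) ⧸ Subgroup.center (S : Subgroup G)) :=
    { (inferInstance : Group ((S : Subgroup G) ⧸ Subgroup.center (S : Subgroup G))) with
      mul_comm := fun x y => by
        have hi : ∀ w : (S : Subgroup G) ⧸ Subgroup.center (S : Subgroup G), w⁻¹ = w :=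
          fun w => inv_eq_of_mul_eq_one_right (hexp w)
        rw [← hi (x * y), _root_.mul_inv_rev, hi, hi] }
  let Q := (S : Subgroup G) ⧸ Subgroup.center (S : Subgroup G)
  let V := Additive (Shrink.{0} Q)
  haveI : Finite V := Finite.of_equiv Q ((equivShrink.{0} Q).trans Additive.ofMul)
  haveI := Fintype.ofFinite V
  let eV : V ≃ Q := Additive.toMul.trans (equivShrink.{0} Q).symm
  have heV : ∀ v w, eV (v + w) = eV v * eV w := fun v w => equivShrink_symm_mul _ _
  have heV0 : eV 0 = 1 := by
    have h := heV 0 0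
    rw [add_zero] at h
    exact mul_eq_left.1 h.symm
  have heV1 : ∀ v, eV v = 1 ↔ v = 0 := fun v =>
    ⟨fun h => eV.injective (h.trans heV0.symm), fun h => h ▸ heV0⟩
  let α : V ≃+ V :=
    { toFun := fun v => eV.symm (mapV φa (eV v))
      invFun := fun v => eV.symm ((mapV φa).symm (eV v))
      left_inv := fun v => by simp
      right_inv := fun v => by simp
      map_add' := fun v w => eV.injective (by simp [heV]) }
  have hα : ∀ v, eV (α v) = mapV φa (eV v) := fun v => eV.apply_symm_apply _
  have hcube : mapV φa ^ 3 = 1 := by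
    have hfix := hM.cube_fix hP haN hodd hmov
    obtain ⟨s, hs, hsx⟩ := hM.exists_inner hP (pow_mem haN 3) hfix
    have h : φa ^ 3 = MulAut.conj (⟨s, hs⟩ : (S : Subgroup G)) := by
      rw [← map_pow]
      exact MulEquiv.ext fun x => Subtype.ext (hsx x x.2)
    rw [← map_pow, h, mapV_conj hP]
  have hα3 : ∀ v, α (α (α v)) = v := fun v => eV.injective (by
    rw [hα, hα, hα]
    exact congrArg (fun f : MulAut Q => f (eV v)) hcube)
  have hfpf : ∀ v, α v = v → v = 0 := by
    intro v hv
    have h : mapV φa (eV v) = eV v := by rw [← hα, hv]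
    have h2 := congrArg (fun w => ((sqV hP w : Subgroup.center (S : Subgroup G)) : (S : Subgroup G))) h
    simp only [sqV_mapV] at h2
    refine (heV1 v).1 ((sqV_eq_one hP _).1 (by_contra fun hne => ?_))
    refine hmov _ ⟨_, (sqV hP (eV v)).2, rfl⟩ ?_ (congrArg Subtype.val h2)
    exact fun e => hne (Subtype.ext (Subtype.ext e))
  -- representatives
  let rep : Q → ↥(S : Subgroup G) := fun q => Quotient.out q
  have hrep : ∀ q : Q, ((rep q : (S : Subgroup G)) : Q) = q := fun q => QuotientGroup.out_eq' q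
  let ι : V → G := fun v => ((rep (eV v) : (S : Subgroup G)) : G)
  have hιS : ∀ v, ι v ∈ (S : Subgroup G) := fun v => (rep (eV v)).2
  have hιZ : ∀ v, v ≠ 0 → ι v ∉ centerOf S := by
    intro v hv h
    obtain ⟨h', hc⟩ := mem_centerOf.1 h
    refine hv ((heV1 v).1 ?_)
    rw [← hrep (eV v)]
    exact (QuotientGroup.eq_one_iff _).2 hc
  have hι1 : ∀ v, v ≠ 0 → ι v ≠ 1 := fun v hv h => hιZ v hv (h ▸ one_mem _)
  have hclassfun : ∀ (χ : IrrCharacter G) {x y : G}, IsConj x y → (χ : G → ℂ) y = (χ : G → ℂ) x := by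
    intro χ x y h
    obtain ⟨c, rfl⟩ := isConj_iff.1 h
    exact Characters.isClassFunction_of_isIrr χ.2 _ _
  have hclass : ∀ (χ : IrrCharacter G) (v : V) (g : (S : Subgroup G)), v ≠ 0 → (g : Q) = eV v →
      (χ : G → ℂ) g = (χ : G → ℂ) (ι v) := by
    intro χ v g hv hg
    have hmem : g * (rep (eV v))⁻¹ ∈ Subgroup.center (S : Subgroup G) := by
      rw [← QuotientGroup.eq_one_iff, QuotientGroup.mk_mul, QuotientGroup.mk_inv, hrep, hg,
        mul_inv_cancel]
    have h := hM.isConj_mul_center hP (hιS v) (hιZ v hv)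
      (c := ((g * (rep (eV v))⁻¹ : (S : Subgroup G)) : G)) ⟨_, hmem, rfl⟩
    have e : ((g * (rep (eV v))⁻¹ : (S : Subgroup G)) : G) * ι v = g := by simp [ι]
    exact hclassfun χ (e ▸ h)
  have hinv : ∀ (χ : IrrCharacter G) v, v ≠ 0 → (χ : G → ℂ) (ι (α v)) = (χ : G → ℂ) (ι v) := by
    intro χ v hv
    have hαv : α v ≠ 0 := fun h => hv (α.injective (h.trans (map_zero α).symm))
    rw [← hclass χ (α v) (φa (rep (eV v))) hαv (by rw [hα, ← mapV_mk, hrep]), hφa]
    exact Characters.isClassFunction_of_isIrr χ.2 _ _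
  -- fusion gives the orbits
  have hfusion : ∀ v w, v ≠ 0 → w ≠ 0 → IsConj (ι v) (ι w) → w = v ∨ w = α v ∨ w = α (α v) := by
    intro v w hv hw hc
    obtain ⟨i, hi, s, hs, he⟩ := hM.exists_fusion hP haN hodd hmov (hιS v) (hιS w) hc
    have h1 : rep (eV w) = (φa ^ i) (MulAut.conj ⟨s, hs⟩ (rep (eV v))) := by
      rw [← map_pow]
      exact Subtype.ext he
    have h2 : eV w = (mapV φa ^ i) (eV v) := by
      rw [← hrep (eV w), h1, ← mapV_mk, ← mapV_mk, mapV_conj hP, MulAut.one_apply, hrep, map_pow]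
    interval_cases i
    · left; exact eV.injective (by simpa using h2)
    · right; left; exact eV.injective (by rw [hα]; simpa using h2)
    · right; right; exact eV.injective (by rw [hα, hα]; simpa [pow_two] using h2)
  -- the involution
  obtain ⟨z, hz, hz1⟩ := (centerOf S).bot_or_exists_ne_one.resolve_left
    fun hb => by rw [hb, Subgroup.card_bot] at h4; omega
  have hzo : orderOf z = 2 := hV.nontriv hz hz1
  have hzS : z ∈ (S : Subgroup G) := ((hV z).1 hz).1
  choose av hav using fun χ : IrrCharacter G => exists_int_value χ ((hV z).1 hz).2.1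
  have hinvol : ∀ (χ : IrrCharacter G) c, c ∈ centerOf S → c ≠ 1 → (χ : G → ℂ) c = av χ := by
    intro χ c hc hc1
    have hne : ∀ n : G, n * z * n⁻¹ ≠ 1 := fun n h => hz1 (conj_eq_one_iff.1 h)
    have d2 : z ≠ a * a * z * (a * a)⁻¹ := fun h => hmov z hz hz1
      (mul_inv_eq_iff_eq_mul.2 (commute_of_sq hodd (mul_inv_eq_iff_eq_mul.1 h.symm)))
    have d3 : a * z * a⁻¹ ≠ a * a * z * (a * a)⁻¹ := fun h =>
      hmov _ (hV.conj haN hz) (hne a) (by
        rw [show a * (a * z * a⁻¹) * a⁻¹ = a * a * z * (a * a)⁻¹ by group]; exact h.symm)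
    rcases four_cases h4 hz (hV.conj haN hz) (hV.conj (mul_mem haN haN) hz) hc hz1 (hne a) (hne _)
      (hmov z hz hz1).symm d2 d3 with e | e | e | e
    · exact absurd e hc1
    · rw [e, hav]
    all_goals
      rw [e, ← hav χ]
      exact Characters.isClassFunction_of_isIrr χ.2 _ _
  -- sums over `S`
  haveI := Fintype.ofFinite (S : Subgroup G)
  haveI := Fintype.ofFinite Q
  haveI := Fintype.ofFinite (Subgroup.center (S : Subgroup G))
  have hsumP : ∀ Φ : ↥(S : Subgroup G) → ℂ,
      (∀ (v : V) (g : (S : Subgroup G)), v ≠ 0 → (g : Q) = eV v → Φ g = Φ (rep (eV v))) →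
      ∑ g, Φ g = ∑ c : Subgroup.center (S : Subgroup G), Φ c +
        4 * ∑ v ∈ Finset.univ.erase (0 : V), Φ (rep (eV v)) := by
    intro Φ hΦ
    rw [← Finset.sum_fiberwise Finset.univ (fun g : (S : Subgroup G) => eV.symm (g : Q)) Φ,
      ← Finset.add_sum_erase _ _ (Finset.mem_univ (0 : V)), Finset.mul_sum]
    congr 1
    · refine Finset.sum_subtype _ (fun g => ?_) Φ
      rw [Finset.mem_filter, Equiv.symm_apply_eq, heV0]
      exact (and_iff_right (Finset.mem_univ g)).trans (QuotientGroup.eq_one_iff g)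
    · intros
      refine Finset.sum_congr rfl fun v hv => ?_
      have hv0 : v ≠ 0 := Finset.ne_of_mem_erase hv
      have hcard : (Finset.univ.filter fun g : (S : Subgroup G) => eV.symm (g : Q) = v).card = 4 := by
        rw [← hP.card_center, ← Nat.card_eq_finsetCard]
        refine Nat.card_congr
          { toFun := fun g => ⟨(rep (eV v))⁻¹ * g.1, by
              rw [← QuotientGroup.eq_one_iff, QuotientGroup.mk_mul, QuotientGroup.mk_inv, hrep,
                show ((g.1 : (S : Subgroup G)) : Q) = eV v from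
                  eV.symm_apply_eq.1 (Finset.mem_filter.1 g.2).2, inv_mul_cancel]⟩
            invFun := fun c => ⟨rep (eV v) * c, Finset.mem_filter.2 ⟨Finset.mem_univ _, by
              rw [QuotientGroup.mk_mul, (QuotientGroup.eq_one_iff _).2 c.2, mul_one, hrep,
                Equiv.symm_apply_apply]⟩⟩
            left_inv := fun g => Subtype.ext (mul_inv_cancel_left _ _)
            right_inv := fun c => Subtype.ext (inv_mul_cancel_left _ _) }
      rw [Finset.sum_congr rfl (g := fun _ => Φ (rep (eV v))) fun g hg =>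
        hΦ v g hv0 (eV.symm_apply_eq.1 (Finset.mem_filter.1 hg).2),
        Finset.sum_const, hcard, nsmul_eq_mul]
      push_cast
      ring
  have hsumC : ∀ (Φ : ↥(S : Subgroup G) → ℂ) (w : ℂ),
      (∀ c : Subgroup.center (S : Subgroup G), c ≠ 1 → Φ c = w) →
      ∑ c : Subgroup.center (S : Subgroup G), Φ c = Φ 1 + 3 * w := by
    intro Φ w hw
    rw [← Finset.add_sum_erase _ _ (Finset.mem_univ (1 : Subgroup.center (S : Subgroup G))),
      Finset.sum_congr rfl fun c hc => hw c (Finset.ne_of_mem_erase hc), Finset.sum_const,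
      Finset.card_erase_of_mem (Finset.mem_univ _), Finset.card_univ, ← Nat.card_eq_fintype_card,
      hP.card_center, nsmul_eq_mul]
    norm_num
  have hcenval : ∀ (χ : IrrCharacter G) (c : Subgroup.center (S : Subgroup G)), c ≠ 1 →
      (χ : G → ℂ) ((c : (S : Subgroup G)) : G) = av χ := fun χ c hc =>
    hinvol χ _ ⟨c, c.2, rfl⟩ fun e => hc (Subtype.ext (Subtype.ext e))
  -- the block
  set B := Cfsg.principalBlock M G with hB
  have hBb : Cfsg.IsPBlock M B := isPBlock_principalBlock
  have hBu := isBlockUnion_of_isPBlock hBb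
  let I := {χ : IrrCharacter G // χ ∈ B}
  have hsum : ∀ g : IrrCharacter G → ℂ, ∑ i : I, g i.1 = ∑ χ, if χ ∈ B then g χ else 0 := by
    intro g
    rw [← Finset.sum_filter, Finset.sum_subtype (p := (· ∈ B)) (Finset.univ.filter (· ∈ B))
      (fun χ => by simp) g]
  have hord2 : ∀ {x : G}, x ∈ (S : Subgroup G) → ∃ j, orderOf x = 2 ^ j := fun {x} hx => by
    obtain ⟨j, hj⟩ := IsPGroup.iff_orderOf.1 S.isPGroup' ⟨x, hx⟩
    exact ⟨j, by rwa [Subgroup.orderOf_mk] at hj⟩
  have hpart : ∀ {x : G}, x ∈ (S : Subgroup G) → Cfsg.IsPPart 2 x x := fun {x} hx =>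
    ⟨1, mul_one _, Commute.one_right _, hord2 hx, by rw [orderOf_one]; norm_num⟩
  have hsing : ∀ v, v ≠ 0 → 2 ∣ orderOf (ι v) := fun v hv => by
    obtain ⟨j, hj⟩ := hord2 (hιS v)
    rcases j with _ | j
    · rw [pow_zero, orderOf_eq_one_iff] at hj
      exact absurd hj (hι1 v hv)
    · rw [hj, pow_succ]; exact Dvd.intro_left _ rfl
  let dd : I → ℕ := fun i => Cfsg.charDegree ((i.1 : IrrCharacter G) : G → ℂ)
  let F : I → V → ℂ := fun i v =>
    if v = 0 then ((dd i : ℂ) + 3 * (av i.1 : ℂ)) / 4 else (i.1 : G → ℂ) (ι v)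
  have hF : ∀ i v, v ≠ 0 → F i v = (i.1 : G → ℂ) (ι v) := fun i v hv => if_neg hv
  have hF0 : ∀ i, 4 * F i 0 = (dd i : ℂ) + 3 * (av i.1 : ℂ) := fun i => by
    simp only [F, if_true]; ring
  have hdd : ∀ i : I, (dd i : ℂ) = (i.1 : G → ℂ) 1 := fun i => charDegree_cast i.1
  have hVcard : Fintype.card V = 16 := by
    rw [← Nat.card_eq_fintype_card, Nat.card_congr eV, card_quotient hP]
  -- the sums against linear characters of `S/Z(S)`
  have hinner : ∀ (i : I) (ψ : AddChar V ℂ), ∃ n : ℤ,
      ∑ v, F i v * conj (ψ v) = (Fintype.card V : ℂ) * n := by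
    intro i ψ
    let hom : (S : Subgroup G) →* ℂˣ := MonoidHom.toHomUnits
      { toFun := fun g => ψ (eV.symm (g : Q))
        map_one' := by
          rw [QuotientGroup.mk_one, show eV.symm 1 = 0 from eV.injective (by simp [heV0]),
            AddChar.map_zero_eq_one]
        map_mul' := fun g h => by
          rw [← AddChar.map_add_eq_mul]
          refine congrArg ψ (eV.injective ?_)
          simp [heV] }
    obtain ⟨n, hn⟩ := Characters.classInner_characters
      (Characters.isCharacter_restrict (S : Subgroup G) (Characters.isCharacter_of_isIrr i.1.2))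
      (CharactersDeep.LinearChar.isCharacter_hom hom)
    refine ⟨(n : ℤ), ?_⟩
    rw [Cfsg.classInner, inv_mul_eq_iff_eq_mul₀ Characters.natCard_ne_zero, hP.card] at hn
    have hh : ∀ g : (S : Subgroup G), (hom g : ℂ) = ψ (eV.symm (g : Q)) := fun g => rfl
    simp only [hh] at hn
    rw [hsumP (fun g => (i.1 : G → ℂ) g * conj (ψ (eV.symm (g : Q)))) fun v g hv hg => by
        show (i.1 : G → ℂ) g * conj (ψ (eV.symm (g : Q))) = _
        rw [hclass i.1 v g hv hg, hg, hrep],
      hsumC (fun g => (i.1 : G → ℂ) g * conj (ψ (eV.symm (g : Q)))) (av i.1) fun c hc => by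
        show (i.1 : G → ℂ) ((c : (S : Subgroup G)) : G) * _ = _
        rw [hcenval i.1 c hc, (QuotientGroup.eq_one_iff _).2 c.2,
          show eV.symm 1 = 0 from eV.injective (by simp [heV0]), AddChar.map_zero_eq_one, map_one,
          mul_one]] at hn
    rw [hVcard, ← Finset.add_sum_erase _ _ (Finset.mem_univ (0 : V)), AddChar.map_zero_eq_one,
      map_one, mul_one]
    simp only [QuotientGroup.mk_one, show eV.symm 1 = 0 from eV.injective (by simp [heV0]),
      AddChar.map_zero_eq_one, map_one, mul_one, OneMemClass.coe_one] at hn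
    rw [← hdd i] at hn
    have e : ∑ v ∈ Finset.univ.erase (0 : V), F i v * conj (ψ v) =
        ∑ v ∈ Finset.univ.erase (0 : V), (i.1 : G → ℂ) ((rep (eV v) : (S : Subgroup G)) : G) *
          conj (ψ (eV.symm ((rep (eV v) : (S : Subgroup G)) : Q))) :=
      Finset.sum_congr rfl fun v hv => by
        rw [hF i v (Finset.ne_of_mem_erase hv), hrep, Equiv.symm_apply_apply]
    rw [e]
    push_cast at hn ⊢
    linear_combination (1 / 4 : ℂ) * hn + (1 / 4 : ℂ) * hF0 i
  -- the congruence
  have hmod : ∀ i : I, (16 : ℤ) ∣ (dd i : ℤ) - av i.1 := by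
    intro i
    choose c hc using hinner i
    have hparse : ∑ v, F i v * conj (F i v) = 16 * ((∑ ψ, c ψ * c ψ : ℤ) : ℂ) := by
      have h1 : ∑ ψ : AddChar V ℂ, (∑ v, F i v * conj (ψ v)) * conj (∑ w, F i w * conj (ψ w)) =
          16 * ∑ v, F i v * conj (F i v) := by
        simp only [map_sum, Finset.sum_mul_sum, map_mul, Complex.conj_conj]
        rw [Finset.sum_comm, Finset.mul_sum]
        refine Finset.sum_congr rfl fun v _ => ?_
        rw [Finset.sum_comm, Finset.sum_eq_single v]
        · rw [Finset.sum_congr rfl (g := fun _ => F i v * conj (F i v)) fun ψ _ => ?_,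
            Finset.sum_const, Finset.card_univ, AddChar.card_eq, hVcard, nsmul_eq_mul]
          · push_cast; ring
          · have h : conj (ψ v) * ψ v = 1 := by
              rw [← AddChar.map_neg_eq_conj, ← AddChar.map_add_eq_mul, neg_add_cancel,
                AddChar.map_zero_eq_one]
            linear_combination (F i v * conj (F i v)) * h
        · intro w _ hw
          rw [Finset.sum_congr rfl (g := fun ψ => F i v * conj (F i w) * ψ (-v + w)) fun ψ _ => ?_,
            ← Finset.mul_sum, AddChar.sum_apply_eq_ite,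
            if_neg (fun h => hw (neg_add_eq_zero.1 h).symm), mul_zero]
          rw [AddChar.map_add_eq_mul, AddChar.map_neg_eq_conj]
          ring
        · simp
      simp only [hc, hVcard, map_mul, map_intCast, Complex.conj_natCast] at h1
      push_cast
      rw [Finset.mul_sum]
      have h16 : (16 : ℂ) ≠ 0 := by norm_num
      refine mul_left_cancel₀ h16 ?_
      rw [← h1, Finset.mul_sum]
      exact Finset.sum_congr rfl fun ψ _ => by push_cast; ring
    have hnorm : ∃ n : ℕ, (dd i : ℂ) * dd i + 3 * ((av i.1 : ℂ) * av i.1) +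
        4 * ∑ v ∈ Finset.univ.erase (0 : V), F i v * conj (F i v) = 64 * n := by
      obtain ⟨n, hn⟩ := Characters.classInner_characters
        (Characters.isCharacter_restrict (S : Subgroup G) (Characters.isCharacter_of_isIrr i.1.2))
        (Characters.isCharacter_restrict (S : Subgroup G) (Characters.isCharacter_of_isIrr i.1.2))
      refine ⟨n, ?_⟩
      rw [Cfsg.classInner, inv_mul_eq_iff_eq_mul₀ Characters.natCard_ne_zero, hP.card,
        hsumP (fun g => (i.1 : G → ℂ) g * conj ((i.1 : G → ℂ) g)) fun v g hv hg => by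
          show (i.1 : G → ℂ) g * conj ((i.1 : G → ℂ) g) = _
          rw [hclass i.1 v g hv hg],
        hsumC (fun g => (i.1 : G → ℂ) g * conj ((i.1 : G → ℂ) g)) ((av i.1 : ℂ) * av i.1)
          fun c hc => by
            show (i.1 : G → ℂ) ((c : (S : Subgroup G)) : G) * conj _ = _
            rw [hcenval i.1 c hc, map_intCast]] at hn
      simp only [OneMemClass.coe_one, ← hdd i, Complex.conj_natCast] at hn
      rw [Finset.sum_congr rfl fun v hv => by rw [hF i v (Finset.ne_of_mem_erase hv)]]
      push_cast at hn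
      exact hn
    obtain ⟨n, hn⟩ := hnorm
    rw [← Finset.add_sum_erase _ _ (Finset.mem_univ (0 : V))] at hparse
    have hF0c : conj (F i 0) = F i 0 := by
      simp only [F, if_true, map_div₀, map_add, map_mul, map_intCast, Complex.conj_natCast,
        map_ofNat]
    rw [hF0c] at hparse
    have hkey : (3 : ℤ) * (((dd i : ℤ) - av i.1) * ((dd i : ℤ) - av i.1)) =
        256 * ((n : ℤ) - ∑ ψ, c ψ * c ψ) := by
      apply Int.cast_injective (α := ℂ)
      push_cast at hparse ⊢
      linear_combination 4 * hn - 16 * hparse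
        + (4 * F i 0 + ((dd i : ℂ) + 3 * (av i.1 : ℂ))) * hF0 i
    have h256 : (16 : ℤ) ^ 2 ∣ ((dd i : ℤ) - av i.1) ^ 2 := by
      rw [pow_two ((dd i : ℤ) - av i.1)]
      exact (Int.isCoprime_iff_gcd_eq_one.2 (by decide : Int.gcd ((16 : ℤ) ^ 2) 3 = 1)).dvd_of_dvd_mul_left
        ⟨(n : ℤ) - ∑ ψ, c ψ * c ψ, by rw [hkey]; norm_num⟩
    exact (Int.pow_dvd_pow_iff two_ne_zero).1 h256
  -- the column argument
  obtain ⟨v₀, hv₀⟩ : ∃ v : V, v ≠ 0 := by
    haveI : Nontrivial V := Fintype.one_lt_card_iff_nontrivial.1 (by rw [hVcard]; norm_num)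
    exact exists_ne 0
  have hzone : ¬ (2 : ℕ) ∣ orderOf (1 : G) := by rw [orderOf_one]; norm_num
  have hstr := (InvolColumn.three_relations hMod hBb hzo (hord2 (hιS v₀))
    (hM.not_inverted hP hzo (hιS v₀) (hιZ v₀ hv₀))).1
  obtain ⟨i, hi, hdeg1⟩ := Columns.exists_second_linear_row α (I := I) dd (fun i => av i.1) F
    hα3 hfpf (fun i => Nat.pos_of_ne_zero (charDegree_ne_zero i.1)) hF0 hVcard
    (fun i v => by
      by_cases hv : v = 0
      · rw [hv, map_zero]
      · rw [hF i v hv, hF i (α v) fun h => hv (α.injective (h.trans (map_zero α).symm))]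
        exact hinv i.1 v hv)
    hinner
    ⟨trivChar G, trivChar_mem⟩
    (by
      have h := hdd ⟨trivChar G, trivChar_mem⟩
      change ((dd ⟨trivChar G, trivChar_mem⟩ : ℕ) : ℂ) = 1 at h
      exact_mod_cast h)
    (by
      have h := (hav (trivChar G)).symm
      change ((av (trivChar G) : ℤ) : ℂ) = 1 at h
      exact_mod_cast h)
    (fun v => by
      by_cases hv : v = 0
      · have h := hF0 ⟨trivChar G, trivChar_mem⟩
        have h1 := hdd ⟨trivChar G, trivChar_mem⟩
        have h2 := (hav (trivChar G)).symm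
        change ((dd ⟨trivChar G, trivChar_mem⟩ : ℕ) : ℂ) = 1 at h1
        change ((av (trivChar G) : ℤ) : ℂ) = 1 at h2
        rw [h1, h2] at h
        rw [hv]
        linear_combination (1 / 4 : ℂ) * h
      · rw [hF _ v hv]; rfl)
    (fun v w hv hw => by
      simp only [hF _ v hv, hF _ w hw]
      rw [hsum fun χ => (χ : G → ℂ) (ι v) * conj ((χ : G → ℂ) (ι w))]
      split_ifs with h
      · have hn := hM.sum_norm hP hMod (hιS v) (hι1 v hv)
        rw [(hM.card_centralizer_inf hP (hιS v)).2 (hιZ v hv)] at hn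
        rw [hVcard, ← hn]
        refine Finset.sum_congr rfl fun χ _ => ?_
        have hαv : α v ≠ 0 := fun h' => hv (α.injective (h'.trans (map_zero α).symm))
        rcases h with rfl | rfl | rfl
        · rfl
        · simp only [hinv χ v hv]; rfl
        · simp only [hinv χ _ hαv, hinv χ v hv]; rfl
      · have hnc : ¬ IsConj (ι v) (ι w) := fun hc => h (hfusion v w hv hw hc)
        refine Eq.trans (Finset.sum_congr rfl fun χ _ => ?_)
          (sum_block_mul_inv_eq_zero hMod (hpart (hιS v)) (hpart (hιS w)) hnc hBb)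
        rw [Characters.character_inv (Characters.isCharacter_of_isIrr χ.2)])
    (fun v hv => by
      simp only [hF _ v hv]
      rw [hsum fun χ => (Cfsg.charDegree (χ : G → ℂ) : ℂ) * (χ : G → ℂ) (ι v)]
      have h := congrArg conj (sum_union_mul_conj_eq_zero hMod hBu (x := (1 : G)) (y := ι v)
        hzone (hsing v hv))
      rw [map_zero, map_sum] at h
      refine Eq.trans (Finset.sum_congr rfl fun χ _ => ?_) h
      rw [← charDegree_cast χ]
      split_ifs <;> simp)
    (fun v hv => by
      simp only [hF _ v hv]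
      rw [hsum fun χ => (av χ : ℂ) * (χ : G → ℂ) (ι v)]
      have hnc : ¬ IsConj (ι v) z := by
        intro hc
        obtain ⟨c, hc⟩ := isConj_iff.1 hc
        refine hιZ v hv (mem_centerOf.2 ⟨hιS v, hP.invol _ (Subtype.ext ?_)⟩)
        show ι v * ι v = 1
        have : ι v = c⁻¹ * z * c := by rw [← hc]; group
        rw [this, show c⁻¹ * z * c * (c⁻¹ * z * c) = c⁻¹ * (z * z) * c by group,
          ((hV z).1 hz).2.1]
        group
      refine Eq.trans (Finset.sum_congr rfl fun χ _ => ?_)
        (sum_block_mul_inv_eq_zero hMod (hpart (hιS v)) (hpart hzS) hnc hBb)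
      rw [inv_eq_of_mul_eq_one_right ((hV z).1 hz).2.1, hav, mul_comm])
    (by
      have hn := hM.sum_norm hP hMod hzS hz1
      rw [(hM.card_centralizer_inf hP hzS).1 hz] at hn
      have h : ∑ i : I, ((av i.1 : ℂ) * av i.1) = 64 := by
        rw [hsum fun χ => (av χ : ℂ) * (av χ : ℂ), show (64 : ℂ) = ((64 : ℕ) : ℂ) by norm_num, ← hn]
        refine Finset.sum_congr rfl fun χ _ => ?_
        rw [hav χ, map_intCast]
      exact_mod_cast h)
    hmod hv₀
    (by
      simp only [hF _ v₀ hv₀]
      rw [hsum fun χ => (av χ : ℂ) ^ 2 / (Cfsg.charDegree (χ : G → ℂ) : ℂ) *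
        (χ : G → ℂ) (ι v₀)]
      refine Eq.trans (Finset.sum_congr rfl fun χ _ => ?_) hstr
      rw [charDegree_cast, hav χ])
  obtain ⟨Fh, hFh⟩ := Characters.exists_hom_of_degree_one
    (Characters.isCharacter_of_isIrr i.1.2) (by rw [← hdd, hdeg1, Nat.cast_one])
  refine hi (Subtype.ext (Subtype.ext (funext fun g => ?_)))
  rw [hFh]
  show (Fh g : ℂ) = 1
  rw [hM.hom_eq_one Fh g, Units.val_one]

end CfsgLib.PiHomTwo
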