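import Cfsg.Agent.PiHomogeneousTwo.UFour
import Cfsg.Agent.BlocksLocal.PrincipalSection
import Cfsg.Agent.BlocksLocal.HomocyclicSylow

/-!
# Fusion and centralizers of 2-elements for a Sylow 2-subgroup of type `PSU(3,4)`

Two elements of `S` off the centre are conjugate only along the orbits of an automorphism of order
three of `S/Z(S)`; the centralizer of a nontrivial element of `S` has a normal 2-complement, so its
principal block column has norm the order of the Sylow subgroup of the centralizer.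
-/

set_option autoImplicit false
set_option linter.style.haveILetI false
set_option linter.unusedSectionVars false

namespace CfsgLib.PiHomTwo

open CfsgLib.GroupBasics
open scoped Pointwise ComplexConjugate

universe u

variable {π : Set ℕ} {G : Type u} [Group G] [Finite G]

/-- An odd-order element acting as an inner automorphism of a 2-group acts trivially. -/
theorem commute_of_inner {T : Subgroup G} (hT : IsPGroup 2 T) {g s : G} (hs : s ∈ T)
    (hg : Odd (orderOf g)) (h : ∀ x ∈ T, g * x * g⁻¹ = s * x * s⁻¹) :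
    ∀ x ∈ T, g * x = x * g := by
  haveI : Fact (Nat.Prime 2) := ⟨Nat.prime_two⟩
  have hiter : ∀ n : ℕ, ∀ x ∈ T, g ^ n * x * (g ^ n)⁻¹ = s ^ n * x * (s ^ n)⁻¹ := by
    intro n
    induction n with
    | zero => intro x _; simp
    | succ n ih =>
      intro x hx
      have hx' : s * x * s⁻¹ ∈ T := mul_mem (mul_mem hs hx) (inv_mem hs)
      calc g ^ (n + 1) * x * (g ^ (n + 1))⁻¹ = g ^ n * (g * x * g⁻¹) * (g ^ n)⁻¹ := by
            rw [pow_succ]; group
        _ = s ^ n * (s * x * s⁻¹) * (s ^ n)⁻¹ := by rw [h x hx, ih _ hx']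
        _ = s ^ (n + 1) * x * (s ^ (n + 1))⁻¹ := by rw [pow_succ]; group
  obtain ⟨k, hk⟩ := hT ⟨s, hs⟩
  have hk' : s ^ 2 ^ k = 1 := congrArg Subtype.val hk
  intro x hx
  have hcn : Commute (s ^ orderOf g) x := by
    refine mul_inv_eq_iff_eq_mul.1 ?_
    rw [← hiter _ x hx, pow_orderOf_eq_one, one_mul, inv_one, mul_one]
  have hsz : s ∈ Subgroup.zpowers (s ^ orderOf g) := by
    have hco : (orderOf g).Coprime (orderOf s) :=
      ((Nat.coprime_two_right.2 hg).pow_right k).coprime_dvd_right (orderOf_dvd_of_pow_eq_one hk')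
    exact mem_zpowers_pow_iff.2 hco
  obtain ⟨j, hj⟩ := Subgroup.mem_zpowers_iff.1 hsz
  have hcs : Commute s x := hj ▸ hcn.zpow_left j
  refine mul_inv_eq_iff_eq_mul.1 ?_
  rw [h x hx, hcs.eq, mul_inv_cancel_right]

namespace Minimal

variable (hM : Minimal π G) {S : Sylow 2 G} (hP : UData (S : Subgroup G))
include hM hP

/-- `a ^ 3` centralizes the centre. -/
theorem cube_fix {a : G} (ha : a ∈ Subgroup.normalizer ((S : Subgroup G) : Set G))
    (hodd : Odd (orderOf a)) (hmov : ∀ z ∈ centerOf S, z ≠ 1 → a * z * a⁻¹ ≠ z) :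
    ∀ w ∈ centerOf S, Commute (a ^ 3) w := by
  have hV := centralInvols_centerOf hP
  have h4 := card_centerOf hP
  obtain ⟨z, hz, hz1⟩ := (centerOf S).bot_or_exists_ne_one.resolve_left
    fun hb => by rw [hb, Subgroup.card_bot] at h4; omega
  obtain ⟨i, hi, hfix⟩ := exists_pow_fix hV h4 ha hodd hmov (pow_mem ha 3)
  rcases (show i = 0 ∨ i = 1 ∨ i = 2 by omega) with rfl | rfl | rfl
  · intro w hw; simpa using hfix w hw
  · have h := hfix z hz
    rw [show (a ^ 1)⁻¹ * a ^ 3 = a * a by rw [pow_one, pow_succ', pow_two, inv_mul_cancel_left]] at h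
    exact absurd (mul_inv_eq_iff_eq_mul.2 (commute_of_sq hodd h)) (hmov z hz hz1)
  · have h := hfix z hz
    rw [show (a ^ 2)⁻¹ * a ^ 3 = a by group] at h
    exact absurd (mul_inv_eq_iff_eq_mul.2 h) (hmov z hz hz1)

/-- Elements in one coset of the centre, off the centre, are conjugate. -/
theorem isConj_mul_center {x c : G} (hx : x ∈ (S : Subgroup G)) (hxZ : x ∉ centerOf S)
    (hc : c ∈ centerOf S) : IsConj x (c * x) := by
  obtain ⟨hcS, hcc⟩ := mem_centerOf.1 hc
  obtain ⟨s, hs⟩ := hP.full ⟨x, hx⟩ (fun h => hxZ (mem_centerOf.2 ⟨hx, h⟩)) ⟨c, hcS⟩ hcc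
  exact isConj_iff.2 ⟨s, congrArg Subtype.val hs⟩

/-- Fusion in `S`: conjugates are obtained by a power of `a` and an element of `S`. -/
theorem exists_fusion {a : G} (ha : a ∈ Subgroup.normalizer ((S : Subgroup G) : Set G))
    (hodd : Odd (orderOf a)) (hmov : ∀ z ∈ centerOf S, z ≠ 1 → a * z * a⁻¹ ≠ z)
    {x y : G} (hx : x ∈ (S : Subgroup G)) (hy : y ∈ (S : Subgroup G)) (hxy : IsConj x y) :
    ∃ i < 3, ∃ s ∈ (S : Subgroup G), y = a ^ i * (s * x * s⁻¹) * (a ^ i)⁻¹ := by
  obtain ⟨g, hg⟩ := isConj_iff.1 hxy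
  obtain ⟨n, hn, hne⟩ := hM.fusion_elem S (g := g) hx (hg.symm ▸ hy)
  obtain ⟨i, hi, hfix⟩ := exists_pow_fix (centralInvols_centerOf hP) (card_centerOf hP) ha hodd
    hmov hn
  obtain ⟨s, hs, hsx⟩ := hM.exists_inner hP (mul_mem (inv_mem (pow_mem ha i)) hn) hfix
  refine ⟨i, hi, s, hs, ?_⟩
  rw [← hsx x hx, ← hg, ← hne]
  group

/-- The order of a centralizer in `S`. -/
theorem card_centralizer_inf {x : G} (hx : x ∈ (S : Subgroup G)) :
    (x ∈ centerOf S → Nat.card ↥((S : Subgroup G) ⊓ Subgroup.centralizer ({x} : Set G)) = 64) ∧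
      (x ∉ centerOf S →
        Nat.card ↥((S : Subgroup G) ⊓ Subgroup.centralizer ({x} : Set G)) = 16) := by
  constructor
  · intro hxZ
    rw [inf_of_le_left (fun s hs => Subgroup.mem_centralizer_singleton_iff.2
      (((centralInvols_centerOf hP x).1 hxZ).2.2 s hs)), hP.card]
  · intro hxZ
    have hA : ∀ y, y ∈ (fun c : centerOf S => (c : G) * x) '' Set.univ ↔
        ∃ k ∈ (S : Subgroup G), k * x * k⁻¹ = y := by
      intro y
      constructor
      · rintro ⟨⟨c, hc⟩, -, rfl⟩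
        obtain ⟨hcS, hcc⟩ := mem_centerOf.1 hc
        obtain ⟨s, hs⟩ := hP.full ⟨x, hx⟩ (fun h => hxZ (mem_centerOf.2 ⟨hx, h⟩)) ⟨c, hcS⟩ hcc
        exact ⟨s, s.2, congrArg Subtype.val hs⟩
      · rintro ⟨k, hk, rfl⟩
        refine ⟨⟨k * x * k⁻¹ * x⁻¹, mem_centerOf.2 ⟨mul_mem (mul_mem (mul_mem hk hx) (inv_mem hk))
          (inv_mem hx), ?_⟩⟩, trivial, by simp [mul_assoc]⟩
        have h := congrArg (fun f : MulAut _ => f ((⟨x, hx⟩ : (S : Subgroup G)) :
          _ ⧸ Subgroup.center (S : Subgroup G))) (mapV_conj hP ⟨k, hk⟩)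
        simp only [MulAut.one_apply] at h
        rw [mapV_mk, MulAut.conj_apply, QuotientGroup.eq_iff_div_mem, div_eq_mul_inv] at h
        exact h
    have hidx := card_conj_set (S : Subgroup G) x _ hA
    rw [Nat.card_image_of_injective (fun c d h => Subtype.ext (mul_right_cancel h)),
      Nat.card_congr (Equiv.Set.univ _), card_centerOf hP] at hidx
    have h := Subgroup.relIndex_mul_relIndex ⊥ ((S : Subgroup G) ⊓ Subgroup.centralizer ({x} : Set G))
      (S : Subgroup G) bot_le inf_le_left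
    rw [Subgroup.relIndex_bot_left, Subgroup.relIndex_bot_left, hP.card, Subgroup.inf_relIndex_left,
      ← hidx] at h
    omega

/-- The centralizer of a nontrivial element of `S` has a normal 2-complement. -/
theorem exists_complement {x : G} (hx : x ∈ (S : Subgroup G)) (hx1 : x ≠ 1) :
    ∃ L : Subgroup ↥(Subgroup.centralizer ({x} : Set G)), L.Normal ∧ ¬ 2 ∣ Nat.card L ∧
      L.index = Nat.card ↥((S : Subgroup G) ⊓ Subgroup.centralizer ({x} : Set G)) := by
  classical
  haveI : Fact (Nat.Prime 2) := ⟨Nat.prime_two⟩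
  set C := Subgroup.centralizer ({x} : Set G) with hC
  set T := (S : Subgroup G) ⊓ C with hT
  have hCt : C ≠ ⊤ := hM.centralizer_ne_top hx1
  obtain ⟨H₀, hH₀, c, hc, hHN⟩ := hM.exists_hall_centralizer S hx hx1
  have hxT : x ∈ T := Subgroup.mem_inf.2 ⟨hx, Subgroup.mem_centralizer_singleton_iff.2 rfl⟩
  have hcC : c ∈ C := Subgroup.mem_centralizer_singleton_iff.2
    (Subgroup.mem_centralizer_iff.1 hc x hxT).symm
  -- every element is core times an element of `N(S) ∩ C`
  have hdec : ∀ g ∈ C, ∃ k ∈ core π C, ∃ h ∈ Subgroup.normalizer ((S : Subgroup G) : Set G) ⊓ C,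
      g = k * h := by
    intro g hg
    obtain ⟨k, hk, h, hh, e⟩ := hH₀.mul _ (mul_mem (mul_mem hcC hg) (inv_mem hcC))
    refine ⟨c⁻¹ * k * c, ?_, c⁻¹ * h * c,
      Subgroup.mem_inf.2 ⟨?_, mul_mem (mul_mem (inv_mem hcC) (hH₀.le hh)) hcC⟩, ?_⟩
    · simpa using hM.conj_core hCt (Subgroup.le_normalizer (inv_mem hcC)) hk
    · refine Sylow.smul_eq_iff_mem_normalizer.1 ?_
      rw [mul_smul, mul_smul, Sylow.smul_eq_iff_mem_normalizer.2 (hHN hh), inv_smul_smul]
    · rw [show g = c⁻¹ * (c * g * c⁻¹) * c by group, e]; group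
  -- the odd elements of `N(S) ∩ C` centralize `S`
  have hcen : ∀ h ∈ Subgroup.normalizer ((S : Subgroup G) : Set G) ⊓ C, Odd (orderOf h) →
      ∀ y ∈ (S : Subgroup G), h * y = y * h := by
    intro h hh hodd
    have hcx : Commute h x := Subgroup.mem_centralizer_singleton_iff.1 hh.2
    obtain ⟨z, hz, hz1, hcz⟩ : ∃ z ∈ centerOf S, z ≠ 1 ∧ Commute h z := by
      by_cases hxZ : x ∈ centerOf S
      · exact ⟨x, hxZ, hx1, hcx⟩
      · refine ⟨x * x, mem_centerOf.2 ⟨mul_mem hx hx, hP.sq ⟨x, hx⟩⟩, fun h2 => hxZ ?_,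
          hcx.mul_right hcx⟩
        exact mem_centerOf.2 ⟨hx, hP.invol _ (Subtype.ext h2)⟩
    obtain ⟨s, hs, hsx⟩ := hM.exists_inner_of_fix hP hh.1 hz hz1 hcz
    exact commute_of_inner S.2 hs hodd hsx
  -- the complement
  set N₁ := Subgroup.normalizer ((S : Subgroup G) : Set G) ⊓ C with hN₁
  have hTN : T ≤ N₁ := inf_le_inf Subgroup.le_normalizer le_rfl
  haveI : (T.subgroupOf N₁).Normal := by
    refine Subgroup.normal_subgroupOf_of_le_normalizer fun g hg => Subgroup.mem_normalizer_iff.2 fun y => ?_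
    rw [hT, Subgroup.mem_inf, Subgroup.mem_inf]
    exact and_congr (Subgroup.mem_normalizer_iff.1 hg.1 y)
      (Subgroup.mem_normalizer_iff.1 (Subgroup.le_normalizer hg.2) y)
  have hodd : ¬ 2 ∣ (T.subgroupOf N₁).index := by
    intro hd
    obtain ⟨g, ⟨k, hk⟩, hg⟩ := exists_primary_not_mem (T.subgroupOf N₁) hd
    have hp : IsPGroup 2 (Subgroup.zpowers (g : G)) :=
      IsPGroup.of_card (n := k) (by rw [Nat.card_zpowers, Subgroup.orderOf_coe, hk])
    refine hg (Subgroup.mem_inf.2 ⟨?_, g.2.2⟩)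
    exact (S.is_maximal' (hp.to_sup_of_normal_right' S.2 (Subgroup.zpowers_le.2 g.2.1))
      le_sup_right).le (Subgroup.mem_sup_left (Subgroup.mem_zpowers (g : G)))
  obtain ⟨j, hj⟩ := IsPGroup.iff_card.1 (S.2.to_le (inf_le_left : T ≤ (S : Subgroup G)))
  have hcT : Nat.card (T.subgroupOf N₁) = 2 ^ j := by
    rw [Nat.card_congr (Subgroup.subgroupOfEquivOfLe hTN).toEquiv, hj]
  obtain ⟨B, hB⟩ := Subgroup.exists_right_complement'_of_coprime (N := T.subgroupOf N₁)
    (by rw [hcT]; exact (Nat.prime_two.coprime_iff_not_dvd.2 hodd).pow_left j)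
  set E := B.map N₁.subtype with hE
  have hEcard : Odd (Nat.card E) := by
    rw [hE, Subgroup.card_map_of_injective N₁.subtype_injective, ← hB.symm.index_eq_card]
    exact Nat.not_even_iff_odd.1 fun h => hodd h.two_dvd
  have hEN : E ≤ N₁ := Subgroup.map_subtype_le _
  have hEcen : ∀ e ∈ E, ∀ y ∈ (S : Subgroup G), e * y = y * e := fun e he y hy =>
    hcen e (hEN he) (hEcard.of_dvd_nat (Subgroup.orderOf_dvd_natCard _ he)) y hy
  have hsplitC : ∀ h ∈ N₁, ∃ t ∈ T, ∃ e ∈ E, h = t * e := by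
    intro h hh
    obtain ⟨⟨⟨t, ht⟩, ⟨e, he⟩⟩, hte⟩ := hB.2 ⟨h, hh⟩
    exact ⟨t, ht, e, ⟨e, he, rfl⟩, (congrArg Subtype.val hte).symm⟩
  set M := core π C ⊔ E with hMdef
  have hMC : M ≤ C := sup_le (core_le C) (hEN.trans inf_le_right)
  have hEn : E ≤ Subgroup.normalizer ((core π C : Subgroup G) : Set G) :=
    (hEN.trans inf_le_right).trans (Subgroup.le_normalizer.trans (hM.normalizer_core hCt))
  -- `T` normalizes `M`
  have hTM : T ≤ Subgroup.normalizer (M : Set G) := by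
    have hfwd : ∀ t ∈ T, ∀ m ∈ M, t * m * t⁻¹ ∈ M := by
      intro t ht m hm
      obtain ⟨k, hk, e, he, rfl⟩ := Coprime.exists_mul_of_mem_sup hEn hm
      have hte : t * e * t⁻¹ = e := by
        rw [← hEcen e he t ht.1, mul_inv_cancel_right]
      rw [show t * (k * e) * t⁻¹ = (t * k * t⁻¹) * (t * e * t⁻¹) by group, hte]
      exact Subgroup.mul_mem_sup (hM.conj_core hCt (Subgroup.le_normalizer ht.2) hk) he
    exact fun t ht => Subgroup.mem_normalizer_iff.2 fun m => ⟨hfwd t ht m, fun h => by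
      simpa [mul_assoc] using hfwd t⁻¹ (inv_mem ht) _ h⟩
  have htop : C ≤ M ⊔ T := by
    intro g hg
    obtain ⟨k, hk, h, hh, rfl⟩ := hdec g hg
    obtain ⟨t, ht, e, he, rfl⟩ := hsplitC h hh
    exact mul_mem (Subgroup.mem_sup_left (Subgroup.mem_sup_left hk))
      (mul_mem (Subgroup.mem_sup_right ht) (Subgroup.mem_sup_left (Subgroup.mem_sup_right he)))
  have hCn : C ≤ Subgroup.normalizer (M : Set G) :=
    htop.trans (sup_le Subgroup.le_normalizer hTM)
  have hMtop : M ⊔ T = C := le_antisymm (sup_le hMC (inf_le_right : T ≤ C)) htop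
  have hModd : Odd (Nat.card M) := by
    by_contra hev
    obtain ⟨t, ht, hto⟩ := Small.exists_invol_mem (Nat.not_odd_iff_even.1 hev)
    obtain ⟨k, hk, e, he, rfl⟩ := Coprime.exists_mul_of_mem_sup hEn ht
    have hiter : ∀ n : ℕ, ∃ k' ∈ core π C, (k * e) ^ n = k' * e ^ n := by
      intro n
      induction n with
      | zero => exact ⟨1, one_mem _, by simp⟩
      | succ n ih =>
        obtain ⟨k', hk', hn⟩ := ih
        refine ⟨k' * (e ^ n * k * (e ^ n)⁻¹), mul_mem hk'
          ((Subgroup.mem_normalizer_iff.1 (hEn (pow_mem he n)) k).1 hk), ?_⟩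
        rw [pow_succ, hn, pow_succ]; group
    obtain ⟨k', hk', hn⟩ := hiter (orderOf e)
    rw [pow_orderOf_eq_one, mul_one] at hn
    obtain ⟨i, hi⟩ := hEcard.of_dvd_nat (Subgroup.orderOf_dvd_natCard _ he)
    have h2 : (k * e) ^ 2 = 1 := hto ▸ pow_orderOf_eq_one (k * e)
    rw [hi, pow_succ, pow_mul, h2, one_pow, one_mul] at hn
    have hmem : k * e ∈ core π C := hn.symm ▸ hk'
    have := (hM.odd_core hCt).of_dvd_nat (Subgroup.orderOf_dvd_natCard _ hmem)
    rw [hto] at this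
    exact absurd this (by decide)
  refine ⟨M.subgroupOf C, Subgroup.normal_subgroupOf_of_le_normalizer hCn, ?_, ?_⟩
  · rw [Nat.card_congr (Subgroup.subgroupOfEquivOfLe hMC).toEquiv]
    exact hModd.not_two_dvd_nat
  · have hdisj : M ⊓ T = ⊥ := Coprime.inf_eq_bot_of_coprime (by
      rw [hj]; exact (Nat.coprime_two_right.2 hModd).pow_right j)
    have h := Coprime.card_sup_eq ((inf_le_right : T ≤ C).trans hCn) hdisj
    rw [hMtop, ← Subgroup.card_mul_index (M.subgroupOf C),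
      Nat.card_congr (Subgroup.subgroupOfEquivOfLe hMC).toEquiv] at h
    exact Nat.eq_of_mul_eq_mul_left Nat.card_pos h

/-- The principal block column of an element of `S` has norm the order of its centralizer in `S`. -/
theorem sum_norm {M : Ideal Cfsg.AlgInt} (hMod : Cfsg.IsPModular 2 M) [Fintype G] {x : G}
    [DecidablePred (· ∈ Cfsg.principalBlock M G)]
    (hx : x ∈ (S : Subgroup G)) (hx1 : x ≠ 1) :
    ∑ χ : Cfsg.IrrCharacter G,
        (if χ ∈ Cfsg.principalBlock M G then (χ : G → ℂ) x * conj ((χ : G → ℂ) x) else 0) =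
      (Nat.card ↥((S : Subgroup G) ⊓ Subgroup.centralizer ({x} : Set G)) : ℂ) := by
  haveI : Fact (Nat.Prime 2) := ⟨Nat.prime_two⟩
  haveI := Fintype.ofFinite (Subgroup.centralizer ({x} : Set G))
  obtain ⟨L, hLn, hL2, hLi⟩ := hM.exists_complement hP hx hx1
  haveI := hLn
  haveI : M.IsPrime := Blocks.IsPModular.isPrime hMod
  obtain ⟨k, hk⟩ := S.2 ⟨x, hx⟩
  have hord : ∃ k, orderOf x = 2 ^ k := by
    obtain ⟨i, -, hi⟩ := (Nat.dvd_prime_pow Nat.prime_two).1
      (orderOf_dvd_of_pow_eq_one (congrArg Subtype.val hk : x ^ 2 ^ k = 1))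
    exact ⟨i, hi⟩
  have h1 := BlocksLocal.sum_principal_section_mul_conj hMod (x := x) hord
    (c := 1) (c' := 1) (by rw [orderOf_one]; norm_num) (by rw [orderOf_one]; norm_num)
  obtain ⟨j, hj⟩ := IsPGroup.iff_card.1
    (S.2.to_le (inf_le_left : (S : Subgroup G) ⊓ Subgroup.centralizer ({x} : Set G) ≤ _))
  have h2 := BlocksLocal.blockCoeff_principal_of_normal_complement
    (G := Subgroup.centralizer ({x} : Set G)) (M := M) hMod L hL2 ⟨j, hLi.trans hj⟩ 1
  rw [Blocks.blockCoeff_eq_sum, ← mul_assoc, mul_inv_cancel₀ Characters.natCard_ne_zero, one_mul,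
    Set.indicator_of_mem (SetLike.mem_coe.2 (Subgroup.one_mem _)), mul_one] at h2
  rw [h2] at h1
  simp only [OneMemClass.coe_one, mul_one] at h1
  rw [← hLi]
  convert h1

/-- No involution inverts an element of `S` off the centre. -/
theorem not_inverted {z x : G} (hz : orderOf z = 2) (hx : x ∈ (S : Subgroup G))
    (hxZ : x ∉ centerOf S) (g : G) : g * z * g⁻¹ * x * (g * z * g⁻¹)⁻¹ ≠ x⁻¹ := by
  haveI : Fact (Nat.Prime 2) := ⟨Nat.prime_two⟩
  intro hinv
  set r := g * z * g⁻¹ with hr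
  have hro : orderOf r = 2 := by rw [hr, orderOf_conj, hz]
  have hrr : r * r = 1 := Small.mul_self_of_orderOf_two hro
  have hri : r⁻¹ = r := inv_eq_of_mul_eq_one_right hrr
  have hn : r ∈ Subgroup.normalizer ((Subgroup.zpowers x : Subgroup G) : Set G) := by
    have hfwd : ∀ y ∈ Subgroup.zpowers x, r * y * r⁻¹ ∈ Subgroup.zpowers x := fun y hy => by
      obtain ⟨j, rfl⟩ := Subgroup.mem_zpowers_iff.1 hy
      rw [← conj_zpow, hinv]
      exact Subgroup.zpow_mem _ (inv_mem (Subgroup.mem_zpowers x)) j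
    refine Subgroup.mem_normalizer_iff.2 fun y => ⟨hfwd y, fun h => ?_⟩
    have h' := hfwd _ h
    rw [hri] at h'
    simpa [mul_assoc, hrr, ← mul_assoc r r] using h'
  have hp : IsPGroup 2 ↥(Subgroup.zpowers r ⊔ Subgroup.zpowers x) :=
    (IsPGroup.of_card (n := 1) (by rw [Nat.card_zpowers, hro, pow_one])).to_sup_of_normal_right'
      (S.2.to_le (Subgroup.zpowers_le.2 hx)) (Subgroup.zpowers_le.2 hn)
  obtain ⟨S', hS'⟩ := hp.exists_le_sylow
  obtain ⟨c, rfl⟩ := MulAction.exists_smul_eq G S S'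
  have hmem : ∀ y ∈ Subgroup.zpowers r ⊔ Subgroup.zpowers x, c⁻¹ * y * c ∈ (S : Subgroup G) :=
    fun y hy => by
      have := hS' hy
      rwa [Sylow.coe_subgroup_smul, Coprime.mem_conj_smul] at this
  have hrS := hmem r (Subgroup.mem_sup_left (Subgroup.mem_zpowers r))
  have hcen := hP.invol ⟨_, hrS⟩ (Subtype.ext (by
    show c⁻¹ * r * c * (c⁻¹ * r * c) = 1
    rw [show c⁻¹ * r * c * (c⁻¹ * r * c) = c⁻¹ * (r * r) * c by group, hrr]; group))
  have h := congrArg Subtype.val (Subgroup.mem_center_iff.1 hcen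
    ⟨_, hmem x (Subgroup.mem_sup_right (Subgroup.mem_zpowers x))⟩)
  have hrx : r * x = x * r := by
    have h' : c⁻¹ * x * c * (c⁻¹ * r * c) = c⁻¹ * r * c * (c⁻¹ * x * c) := h
    calc r * x = c * (c⁻¹ * r * c * (c⁻¹ * x * c)) * c⁻¹ := by group
      _ = c * (c⁻¹ * x * c * (c⁻¹ * r * c)) * c⁻¹ := by rw [h']
      _ = x * r := by group
  rw [hrx, mul_inv_cancel_right] at hinv
  exact hxZ (mem_centerOf.2 ⟨hx, hP.invol _ (Subtype.ext (mul_eq_one_iff_eq_inv.2 hinv))⟩)

end Minimal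

end CfsgLib.PiHomTwo
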